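import Cfsg.Agent.Lib.H02.CoC

/-!
Transitivity on the minimal vectors of the lattice.
-/

set_option autoImplicit false
set_option maxRecDepth 100000

namespace Cfsg.Agent.H02.CoD

open Cfsg Cfsg.Agent.H27.Golay Cfsg.Agent.H26.Leech Cfsg.Agent.H02.CoA Cfsg.Agent.H02.CoB Cfsg.Agent.H02.CoC
open scoped Pointwise

def rA : GolayPt → ℤ := vecOf [4, 0, 0, 0, 0, 0, 0, 0, 0, 0, 0, 0, 0, 0, 0, 0, 0, 0, 0, 0, 0, 0, 0, 4]
def rB : GolayPt → ℤ := vecOf [2, 2, 2, 2, 0, 2, 0, 0, 0, 0, 0, 0, 0, 0, 2, 0, 0, 2, 0, 0, 0, 0, 0, 2]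
def rC : GolayPt → ℤ := oddRep {pt 23} ∅

def pA : List (ℕ × ℕ) := [(0, 340831), (23, 16436384)]
def pB : List (ℕ × ℕ) := [(0, 16095553), (1, 15019666), (2, 9744084), (3, 8464984), (5, 11055264), (14, 11139408), (17, 16483664)]

theorem pA_ok : pivOK pA := by decide +kernel
theorem pB_ok : pivOK pB := by decide +kernel

theorem link_AB : RR rA rB :=
  link (by decide +kernel) 320160507814662909958144535548369252 307594 591579913051504047581625584853701161 243149 (by decide +kernel) (by decide +kernel) (by decide +kernel)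
    (by decide +kernel) (by decide +kernel) (by decide +kernel) (by decide +kernel)

theorem link_BC : RR rB rC :=
  link (by decide +kernel) 715749363627747736129536866899930445 6245509 340845122524633540551034435309743191 10991421 (by decide +kernel) (by decide +kernel) (by decide +kernel)
    (by decide +kernel) (by decide +kernel) (by decide +kernel) (by decide +kernel)

theorem case_A {x : GolayPt → ℤ} (hx : x ∈ leechLattice) (h : ∀ i, x i ^ 2 = absRep ∅ {pt 23, pt 0} ∅ ∅ i ^ 2) :
    RR x rA := by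
  refine final0 rA pA pA_ok (by decide +kernel) hx (fun i => ?_)
  rw [h i]
  revert i
  decide +kernel

theorem case_B {x : GolayPt → ℤ} (hx : x ∈ leechLattice) (h : ∀ i, x i ^ 2 = absRep (fs O0) ∅ ∅ ∅ i ^ 2) :
    RR x rB := by
  refine final1 rB pB pB_ok (pt 23) (by decide +kernel) (by decide +kernel) hx (fun i => ?_)
  rw [h i]
  revert i
  decide +kernel

theorem main32 {x : GolayPt → ℤ} (hx : x ∈ leechLattice) (hN : sqNorm x = (32 : ℕ)) : RR x rC := by
  rcases even_or_odd (mem_leechLattice_iff.mp hx) with ⟨he, -, -⟩ | ⟨ho, -, -⟩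
  · obtain ⟨C, F4, F6, F8, hC, h1, h2, h3, h4, h5⟩ := even_shape hx he hN (by norm_num)
    have hF6 : F6.card ≤ C.card := Finset.card_le_card h2
    rcases supports_card hC with h | h | h | h | h
    · -- no high word
      have hC0 : C = ∅ := Finset.card_eq_zero.mp h
      have hF60 : F6 = ∅ := Finset.card_eq_zero.mp (by omega)
      have hF80 : F8 = ∅ := Finset.card_eq_zero.mp (by omega)
      have hF42 : F4.card = 2 := by omega
      obtain ⟨p, q, hpq, rfl⟩ := Finset.card_eq_two.mp hF42
      obtain ⟨σ, hσ, e1, e2⟩ := Gol.two_trans (p := pt 23) (q := pt 0) (p' := p) (q' := q) (by decide) hpq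
      have h6 : σ • ({pt 23, pt 0} : Finset GolayPt) = {p, q} := by
        rw [Finset.smul_finset_insert, Finset.smul_finset_singleton]
        show ({σ (pt 23), σ (pt 0)} : Finset GolayPt) = _
        rw [e1, e2]
      subst hC0 hF60 hF80
      obtain ⟨a1, a2⟩ := move_even hx h1 hσ (C' := ∅) (F6' := ∅) (F8' := ∅) (Finset.smul_finset_empty _) h6
        (Finset.smul_finset_empty _) (Finset.smul_finset_empty _)
      exact a1.trans ((case_A a1.mem_right a2).trans (link_AB.trans link_BC))
    · -- an octad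
      have hF60 : F6 = ∅ := Finset.card_eq_zero.mp (by omega)
      have hF80 : F8 = ∅ := Finset.card_eq_zero.mp (by omega)
      have hF40 : F4 = ∅ := Finset.card_eq_zero.mp (by omega)
      obtain ⟨σ, hσ, e⟩ := exists_smul_O0 (octad_of_supports hC h)
      subst hF60 hF80 hF40
      obtain ⟨a1, a2⟩ := move_even hx h1 hσ (C' := fs O0) (F4' := ∅) (F6' := ∅) (F8' := ∅) e
        (Finset.smul_finset_empty _) (Finset.smul_finset_empty _) (Finset.smul_finset_empty _)
      exact a1.trans ((case_B a1.mem_right a2).trans link_BC)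
    · omega
    · omega
    · omega
  · obtain ⟨x', h1, h2, h3⟩ := odd_to_one hx ho
    obtain ⟨A, B, rfl, h4⟩ := odd_shape h2 (h3.trans hN) (by norm_num)
    have hA : A.card = 1 := by omega
    have hB : B = ∅ := Finset.card_eq_zero.mp (by omega)
    obtain ⟨p, rfl⟩ := Finset.card_eq_one.mp hA
    subst hB
    obtain ⟨σ, hσ, e⟩ := Gol.one_trans (pt 23) p
    have h6 : σ • ({pt 23} : Finset GolayPt) = {p} := by
      rw [Finset.smul_finset_singleton]
      show ({σ (pt 23)} : Finset GolayPt) = _
      rw [e]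
    exact h1.trans (oddRep_move h1.mem_right hσ h6 (Finset.smul_finset_empty _))

theorem transitive32 (v w : leechLattice) (hv : sqNorm (v : GolayPt → ℤ) = 32) (hw : sqNorm (w : GolayPt → ℤ) = 32) :
    ∃ g : Co0, g • v = w :=
  exists_of_RR ((main32 v.2 (by exact_mod_cast hv)).trans (main32 w.2 (by exact_mod_cast hw)).symm)

end Cfsg.Agent.H02.CoD
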