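import Cfsg.Agent.Lib.H02.CoE
import Cfsg.Agent.Lib.H02.Gol9

/-!
Transitivity on the vectors of norm 64.
-/

set_option autoImplicit false
set_option maxRecDepth 100000

namespace Cfsg.Agent.H02.CoF

open Cfsg Cfsg.Agent.H27.Golay Cfsg.Agent.H26.Leech Cfsg.Agent.H02.CoA Cfsg.Agent.H02.CoB Cfsg.Agent.H02.CoC
open scoped Pointwise

def rE5 : GolayPt → ℤ := vecOf [0, 0, 0, 0, 0, 0, 0, 0, 0, 0, 0, 0, 0, 0, 0, 0, 0, 0, 0, 0, 0, 0, 0, 8]
def rE6 : GolayPt → ℤ := vecOf [4, 4, 4, 0, 0, 0, 0, 0, 0, 0, 0, 0, 0, 0, 0, 0, 0, 0, 0, 0, 0, 0, 0, 4]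
def rE7 : GolayPt → ℤ := vecOf [-6, 2, 2, 2, 0, 2, 0, 0, 0, 0, 0, 0, 0, 0, 2, 0, 0, 2, 0, 0, 0, 0, 0, 2]
def rE8 : GolayPt → ℤ := vecOf [2, 2, 2, 2, 4, 2, 4, 0, 0, 0, 0, 0, 0, 0, 2, 0, 0, 2, 0, 0, 0, 0, 0, 2]
def rE9 : GolayPt → ℤ := vecOf [-2, 2, 2, 2, 2, 4, 2, 0, 2, 2, 0, 0, 2, 2, 0, 0, 2, 0, 2, 0, 0, 0, 0, 0]
def rE10 : GolayPt → ℤ := vecOf [0, 0, 0, 0, 2, 0, 2, 2, 2, 2, 2, 2, 2, 2, 0, 2, 2, 0, 2, 2, 2, 2, 2, 0]
def rE11 : GolayPt → ℤ := vecOf [0, 0, 0, 0, -2, 0, -2, 2, 2, 2, 2, 2, 2, 2, 0, 2, 2, 0, 2, 2, 2, 2, 2, 0]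
def rO5 : GolayPt → ℤ := oddRep {pt 23, pt 0, pt 1, pt 2, pt 3} ∅
def rO21 : GolayPt → ℤ := oddRep {pt 0, pt 1} {pt 23}

def p5 : List (ℕ × ℕ) := [(23, 16777215)]
def p6 : List (ℕ × ℕ) := [(0, 1005025), (1, 2010050), (2, 1363324), (23, 16436384)]
def p7 : List (ℕ × ℕ) := [(0, 16095553), (1, 15019666), (2, 9744084), (3, 8464984), (5, 11055264), (14, 11139408), (17, 16483664)]
def p8 : List (ℕ × ℕ) := [(0, 15777409), (1, 10335874), (2, 15274244), (3, 16553352), (4, 7903248), (14, 13911680), (5, 11055264), (6, 337856), (17, 8796800)]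
def p9 : List (ℕ × ℕ) := [(0, 7767041), (1, 11831426), (2, 8834052), (3, 3951624), (4, 6703248), (9, 13911680), (12, 2019456), (5, 16436384), (6, 15515712), (8, 14551296), (13, 5024896), (16, 11469952)]
def p10 : List (ℕ × ℕ) := [(4, 6832158), (6, 5652556), (9, 6570537), (7, 8126628), (8, 3031301), (15, 3719203), (10, 5129250), (11, 7473194), (12, 5902343), (13, 3416079), (16, 2031657)]

theorem p5_ok : pivOK p5 := by decide +kernel
theorem p6_ok : pivOK p6 := by decide +kernel
theorem p7_ok : pivOK p7 := by decide +kernel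
theorem p8_ok : pivOK p8 := by decide +kernel
theorem p9_ok : pivOK p9 := by decide +kernel
theorem p10_ok : pivOK p10 := by decide +kernel

theorem step_E5_E6 : RR rE5 rE6 :=
  link (by decide +kernel) 219838552741620327211577017198778487 3806496 984818244535754528103549039458486304 15777 (by decide +kernel) (by decide +kernel) (by decide +kernel)
    (by decide +kernel) (by decide +kernel) (by decide +kernel) (by decide +kernel)

theorem step_E7_E6 : RR rE7 rE6 :=
  link (by decide +kernel) 878339148118734573643236935437175280 8803677 846779755401186465395925048261711337 8398155 (by decide +kernel) (by decide +kernel) (by decide +kernel)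
    (by decide +kernel) (by decide +kernel) (by decide +kernel) (by decide +kernel)

theorem step_E6_E8 : RR rE6 rE8 :=
  link (by decide +kernel) 292936964630374866391544335789630155 13727199 380590207572445033745006073068622349 252432 (by decide +kernel) (by decide +kernel) (by decide +kernel)
    (by decide +kernel) (by decide +kernel) (by decide +kernel) (by decide +kernel)

theorem step_E10_E6 : RR rE10 rE6 :=
  link (by decide +kernel) 108355377044953862577856228551164951 11613723 138132837426500761387347276455064246 8407702 (by decide +kernel) (by decide +kernel) (by decide +kernel)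
    (by decide +kernel) (by decide +kernel) (by decide +kernel) (by decide +kernel)

theorem step_E6_E11 : RR rE6 rE11 :=
  link (by decide +kernel) 958303899397330278935399524795566636 7396649 304588557825952079691173684021963976 3297305 (by decide +kernel) (by decide +kernel) (by decide +kernel)
    (by decide +kernel) (by decide +kernel) (by decide +kernel) (by decide +kernel)

theorem step_O5_E7 : RR rO5 rE7 :=
  link (by decide +kernel) 984818244535754528103549039458486304 12214198 750656702741329247351360250289734816 39257 (by decide +kernel) (by decide +kernel) (by decide +kernel)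
    (by decide +kernel) (by decide +kernel) (by decide +kernel) (by decide +kernel)

theorem step_O21_E7 : RR rO21 rE7 :=
  link (by decide +kernel) 230553004707755987631207669851477419 9421005 68042699045564347027973490281135569 8534893 (by decide +kernel) (by decide +kernel) (by decide +kernel)
    (by decide +kernel) (by decide +kernel) (by decide +kernel) (by decide +kernel)

theorem step_E9_E8 : RR rE9 rE8 :=
  link (by decide +kernel) 69531399562067398859843641468983781 9687505 714852446040032122097566721626878625 8560533 (by decide +kernel) (by decide +kernel) (by decide +kernel)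
    (by decide +kernel) (by decide +kernel) (by decide +kernel) (by decide +kernel)


theorem to5_E6 : RR rE6 rE5 := step_E5_E6.symm

theorem to5_E7 : RR rE7 rE5 := (step_E7_E6).trans to5_E6

theorem to5_E8 : RR rE8 rE5 := (step_E6_E8.symm).trans to5_E6

theorem to5_E10 : RR rE10 rE5 := (step_E10_E6).trans to5_E6

theorem to5_E11 : RR rE11 rE5 := (step_E6_E11.symm).trans to5_E6

theorem to5_O5 : RR rO5 rE5 := (step_O5_E7).trans to5_E7

theorem to5_O21 : RR rO21 rE5 := (step_O21_E7).trans to5_E7

theorem to5_E9 : RR rE9 rE5 := (step_E9_E8).trans to5_E8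


/-- Elements stabilising the base octad, moving a point on it. -/
def LI : List ℕ := [984818244535754528103549039458486304, 984353687270638237970546942578526753, 972628003189332714380500058161333346, 984600954493542229527233097511372803, 984676296717505552981297274273957989, 96402545603871230264059534637063278, 984492065355537866714755179917379761, 6026782895647763204200546525299831]

theorem LI_ok : ∀ π ∈ LI, isM24 π = true ∧ am π O0 = O0 := by decide +kernel

theorem LI_tr : ∀ a : Fin 24, O0.testBit a = true → ∃ π ∈ LI, pa π 0 = a := by decide +kernel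

/-- Elements stabilising the base octad, moving a pair off it. -/
def LP : List ℕ := [984818244535754528103549039458486304, 975762185657913870064463068361034817, 967565004264873682096918115022616736, 979092377614534274255688697196871726, 975641448903714572880411741825107104, 964979157360819488807936318372875278, 983304148420695042816338275025980418, 976617775654800077357662518273718369, 981757884143115781024649589454569646, 983113089370880564384757388293506062, 972915112475520539289720682100934080, 969265039008629189305406309305221569, 964862559378498092705222153667646562, 23705946527092032330852413794093217, 979242881439685855110988022646522917]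

theorem LP_ok : ∀ π ∈ LP, isM24 π = true ∧ am π O0 = O0 ∧ pa π 4 = 4 := by decide +kernel

theorem LP_tr : ∀ b : Fin 24, O0.testBit b = false → b.1 ≠ 4 → ∃ π ∈ LP, pa π 6 = b := by decide +kernel

/-- Elements stabilising the base dodecad, moving a point off it. -/
def LD : List ℕ := [984818244535754528103549039458486304, 980275914351787324191492553553580224, 969952412052033243847481939299780672, 595318170665103331125890539321722985, 817208248128537947104875218627479664, 817439858826898501460820733813330312, 980469648143074314663992649802056995, 716160682654395803219815224582641772, 977864963184960973661438897150854272, 974380510768821363662145534143076928, 464010410497786857023209726893491304, 422348975663724117856245184833194275]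

theorem LD_ok : ∀ π ∈ LD, isM24 π = true ∧ am π H26.GolayMod.D0 = H26.GolayMod.D0 := by decide +kernel

theorem LD_tr : ∀ a : Fin 24, H26.GolayMod.D0.testBit a = false → ∃ π ∈ LD, pa π 5 = a := by decide +kernel

theorem permOK_of {π : ℕ} (h : isM24 π = true) : permOK π = true := by
  rw [isM24, Bool.and_eq_true] at h
  exact h.1

theorem flag_in {o : Finset GolayPt} (ho : o ∈ octads) {p : GolayPt} (hp : p ∈ o) :
    ∃ σ ∈ M24, σ • fs O0 = o ∧ σ (pt 0) = p := by
  obtain ⟨g, hg, rfl⟩ := exists_smul_O0 ho
  have h1 : g⁻¹ p ∈ fs O0 := by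
    rw [← smul_mem_iff g (fs O0) (g⁻¹ p)]
    simpa using hp
  have h2 : O0.testBit (idx (g⁻¹ p)) = true := by
    rw [mem_fs] at h1
    simpa using h1
  obtain ⟨π, hπ, e⟩ := LI_tr ⟨idx (g⁻¹ p), idx_lt _⟩ h2
  obtain ⟨h3, h4⟩ := LI_ok π hπ
  have h5 := permOK_of h3
  refine ⟨g * P π, M24.mul_mem hg (P_mem_M24 h3), ?_, ?_⟩
  · rw [mul_smul, ← fs_am h5, h4]
  · show g (P π (pt 0)) = p
    rw [P_pt h5 (by norm_num), e]
    simp [pt_idx]

theorem pair_off {o : Finset GolayPt} (ho : o ∈ octads) {p q : GolayPt} (hp : p ∉ o) (hq : q ∉ o) (hpq : p ≠ q) :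
    ∃ σ ∈ M24, σ • fs O0 = o ∧ σ (pt 4) = p ∧ σ (pt 6) = q := by
  obtain ⟨g, hg, e0, e1⟩ := CoE.flag_off ho hp
  have hq' : g⁻¹ q ∉ fs O0 := by
    intro h
    apply hq
    rw [← smul_mem_iff g (fs O0) (g⁻¹ q), e0] at h
    simpa using h
  have h2 : O0.testBit (idx (g⁻¹ q)) = false := by
    rw [mem_fs] at hq'
    simpa using hq'
  have hne : idx (g⁻¹ q) ≠ 4 := by
    intro e
    apply hpq
    have h3 : g⁻¹ q = pt 4 := by
      rw [← pt_idx (g⁻¹ q), e]
    rw [← e1, ← h3]
    simp
  obtain ⟨π, hπ, e2⟩ := LP_tr ⟨idx (g⁻¹ q), idx_lt _⟩ h2 hne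
  obtain ⟨h3, h4, h5⟩ := LP_ok π hπ
  have h6 := permOK_of h3
  refine ⟨g * P π, M24.mul_mem hg (P_mem_M24 h3), ?_, ?_, ?_⟩
  · rw [mul_smul, ← fs_am h6, h4, e0]
  · show g (P π (pt 4)) = p
    rw [P_pt h6 (by norm_num), h5, e1]
  · show g (P π (pt 6)) = q
    rw [P_pt h6 (by norm_num), e2]
    simp [pt_idx]

theorem dflag_off {o : Finset GolayPt} (ho : o ∈ dodecads) {p : GolayPt} (hp : p ∉ o) :
    ∃ σ ∈ M24, σ • fs H26.GolayMod.D0 = o ∧ σ (pt 5) = p := by
  obtain ⟨g, hg, rfl⟩ := H26.GolayMod.exists_smul_D0 ho
  have h1 : g⁻¹ p ∉ fs H26.GolayMod.D0 := by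
    intro h
    apply hp
    rw [← smul_mem_iff g (fs H26.GolayMod.D0) (g⁻¹ p)] at h
    simpa using h
  have h2 : H26.GolayMod.D0.testBit (idx (g⁻¹ p)) = false := by
    rw [mem_fs] at h1
    simpa using h1
  obtain ⟨π, hπ, e⟩ := LD_tr ⟨idx (g⁻¹ p), idx_lt _⟩ h2
  obtain ⟨h3, h4⟩ := LD_ok π hπ
  have h5 := permOK_of h3
  refine ⟨g * P π, M24.mul_mem hg (P_mem_M24 h3), ?_, ?_⟩
  · rw [mul_smul, ← fs_am h5, h4]
  · show g (P π (pt 5)) = p
    rw [P_pt h5 (by norm_num), e]
    simp [pt_idx]

theorem case_E5 {x : GolayPt → ℤ} (hx : x ∈ leechLattice) (h : ∀ i, x i ^ 2 = absRep ∅ ∅ ∅ {pt 23} i ^ 2) :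
    RR x rE5 := by
  refine final0 rE5 p5 p5_ok (by decide +kernel) hx (fun i => ?_)
  rw [h i]
  revert i
  decide +kernel

theorem case_E6 {x : GolayPt → ℤ} (hx : x ∈ leechLattice)
    (h : ∀ i, x i ^ 2 = absRep ∅ {pt 23, pt 0, pt 1, pt 2} ∅ ∅ i ^ 2) : RR x rE6 := by
  refine final0 rE6 p6 p6_ok (by decide +kernel) hx (fun i => ?_)
  rw [h i]
  revert i
  decide +kernel

theorem case_E7 {x : GolayPt → ℤ} (hx : x ∈ leechLattice)
    (h : ∀ i, x i ^ 2 = absRep (fs O0) ∅ {pt 0} ∅ i ^ 2) : RR x rE7 := by
  refine final1 rE7 p7 p7_ok (pt 23) (by decide +kernel) (by decide +kernel) hx (fun i => ?_)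
  rw [h i]
  revert i
  decide +kernel

theorem case_E8 {x : GolayPt → ℤ} (hx : x ∈ leechLattice)
    (h : ∀ i, x i ^ 2 = absRep (fs O0) {pt 4, pt 6} ∅ ∅ i ^ 2) : RR x rE8 := by
  refine final1 rE8 p8 p8_ok (pt 23) (by decide +kernel) (by decide +kernel) hx (fun i => ?_)
  rw [h i]
  revert i
  decide +kernel

theorem case_E9 {x : GolayPt → ℤ} (hx : x ∈ leechLattice)
    (h : ∀ i, x i ^ 2 = absRep (fs H26.GolayMod.D0) {pt 5} ∅ ∅ i ^ 2) : RR x rE9 := by
  refine final1 rE9 p9 p9_ok (pt 18) (by decide +kernel) (by decide +kernel) hx (fun i => ?_)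
  rw [h i]
  revert i
  decide +kernel

/-! ### The shape with sixteen coordinates -/

/-- All subsets of a list. -/
def subsOf : List GolayPt → List (Finset GolayPt)
  | [] => [∅]
  | a :: l => subsOf l ++ (subsOf l).map (fun S => insert a S)

theorem mem_subsOf (l : List GolayPt) : ∀ S : Finset GolayPt, S ⊆ l.toFinset → S ∈ subsOf l := by
  induction l with
  | nil =>
    intro S hS
    have : S = ∅ := by simpa using hS
    subst this
    simp [subsOf]
  | cons a l ih =>
    intro S hS
    rw [subsOf, List.mem_append]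
    by_cases ha : a ∈ S
    · right
      rw [List.mem_map]
      refine ⟨S.erase a, ih _ ?_, Finset.insert_erase ha⟩
      intro b hb
      rw [Finset.mem_erase] at hb
      have := hS hb.2
      rw [List.toFinset_cons, Finset.mem_insert] at this
      rcases this with h | h
      · exact absurd h hb.1
      · exact h
    · left
      apply ih
      intro b hb
      have := hS hb
      rw [List.toFinset_cons, Finset.mem_insert] at this
      rcases this with h | h
      · exact absurd (h ▸ hb) ha
      · exact h

def U10 : List GolayPt := [pt 18, pt 19, pt 20, pt 21, pt 22]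

def T0 : List (ℕ × ℕ) := [(984818244535754528103549039458486304, 0)]

def T1 : List (ℕ × ℕ) := [(68244382436930314587144492996001873, 2162811), (975762185657913870064463068361034817, 663645), (967413106580819012034646168507023473, 0), (984690252025280836465891900345748549, 2162811), (6026782895647763204200546525299831, 21116), (984676296717505552981297274273957989, 663645), (984818244535754528103549039458486304, 4063314), (731330780422066001375205929002370496, 1065303), (971697650941856707258991093327333477, 150618), (981757884143115781024649589454569646, 4325622), (975598701523565579071668087374857250, 2491452), (963955214462409995973379821121142833, 442481), (24153392952280422307516574047788209, 6832158), (983113089370880564384757388293506062, 4444255), (984492065355537866714755179917379761, 5652556)]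

theorem T0_ok : ∀ t ∈ T0, isM24 t.1 = true ∧ t.2 < 2 ^ 24 ∧ inCode t.2 = true := by decide +kernel

theorem T1_ok : ∀ t ∈ T1, isM24 t.1 = true ∧ t.2 < 2 ^ 24 ∧ inCode t.2 = true := by decide +kernel

/-- The property checked for each sign pattern on `U10`. -/
def P10 (S : Finset GolayPt) : Prop := ((∑ i, CoC.flip S rE10 i) % 8 ≠ 0) ∨
    (∃ t ∈ T0, sv t.2 (pv t.1 (CoC.flip S rE10)) = rE10) ∨ (∃ t ∈ T1, sv t.2 (pv t.1 (CoC.flip S rE10)) = rE11)

def A0 : Finset GolayPt := (∅ : Finset GolayPt)

theorem q0 : P10 A0 := Or.inr (Or.inl ⟨(984818244535754528103549039458486304, 0), by decide +kernel, by decide +kernel⟩)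

def A1 : Finset GolayPt := insert (pt 22) ((∅ : Finset GolayPt))

theorem q1 : P10 A1 := Or.inl (by decide +kernel)

def A2 : Finset GolayPt := insert (pt 21) ((∅ : Finset GolayPt))

theorem q2 : P10 A2 := Or.inl (by decide +kernel)

def A3 : Finset GolayPt := insert (pt 21) (insert (pt 22) ((∅ : Finset GolayPt)))

theorem q3 : P10 A3 := Or.inr (Or.inr ⟨(963955214462409995973379821121142833, 442481), by decide +kernel, by decide +kernel⟩)

def A4 : Finset GolayPt := insert (pt 20) ((∅ : Finset GolayPt))

theorem q4 : P10 A4 := Or.inl (by decide +kernel)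

def A5 : Finset GolayPt := insert (pt 20) (insert (pt 22) ((∅ : Finset GolayPt)))

theorem q5 : P10 A5 := Or.inr (Or.inr ⟨(981757884143115781024649589454569646, 4325622), by decide +kernel, by decide +kernel⟩)

def A6 : Finset GolayPt := insert (pt 20) (insert (pt 21) ((∅ : Finset GolayPt)))

theorem q6 : P10 A6 := Or.inr (Or.inr ⟨(984676296717505552981297274273957989, 663645), by decide +kernel, by decide +kernel⟩)

def A7 : Finset GolayPt := insert (pt 20) (insert (pt 21) (insert (pt 22) ((∅ : Finset GolayPt))))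

theorem q7 : P10 A7 := Or.inl (by decide +kernel)

def A8 : Finset GolayPt := insert (pt 19) ((∅ : Finset GolayPt))

theorem q8 : P10 A8 := Or.inl (by decide +kernel)

def A9 : Finset GolayPt := insert (pt 19) (insert (pt 22) ((∅ : Finset GolayPt)))

theorem q9 : P10 A9 := Or.inr (Or.inr ⟨(971697650941856707258991093327333477, 150618), by decide +kernel, by decide +kernel⟩)

def A10 : Finset GolayPt := insert (pt 19) (insert (pt 21) ((∅ : Finset GolayPt)))

theorem q10 : P10 A10 := Or.inr (Or.inr ⟨(6026782895647763204200546525299831, 21116), by decide +kernel, by decide +kernel⟩)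

def A11 : Finset GolayPt := insert (pt 19) (insert (pt 21) (insert (pt 22) ((∅ : Finset GolayPt))))

theorem q11 : P10 A11 := Or.inl (by decide +kernel)

def A12 : Finset GolayPt := insert (pt 19) (insert (pt 20) ((∅ : Finset GolayPt)))

theorem q12 : P10 A12 := Or.inr (Or.inr ⟨(967413106580819012034646168507023473, 0), by decide +kernel, by decide +kernel⟩)

def A13 : Finset GolayPt := insert (pt 19) (insert (pt 20) (insert (pt 22) ((∅ : Finset GolayPt))))

theorem q13 : P10 A13 := Or.inl (by decide +kernel)

def A14 : Finset GolayPt := insert (pt 19) (insert (pt 20) (insert (pt 21) ((∅ : Finset GolayPt))))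

theorem q14 : P10 A14 := Or.inl (by decide +kernel)

def A15 : Finset GolayPt := insert (pt 19) (insert (pt 20) (insert (pt 21) (insert (pt 22) ((∅ : Finset GolayPt)))))

theorem q15 : P10 A15 := Or.inr (Or.inr ⟨(984492065355537866714755179917379761, 5652556), by decide +kernel, by decide +kernel⟩)

def A16 : Finset GolayPt := insert (pt 18) ((∅ : Finset GolayPt))

theorem q16 : P10 A16 := Or.inl (by decide +kernel)

def A17 : Finset GolayPt := insert (pt 18) (insert (pt 22) ((∅ : Finset GolayPt)))

theorem q17 : P10 A17 := Or.inr (Or.inr ⟨(731330780422066001375205929002370496, 1065303), by decide +kernel, by decide +kernel⟩)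

def A18 : Finset GolayPt := insert (pt 18) (insert (pt 21) ((∅ : Finset GolayPt)))

theorem q18 : P10 A18 := Or.inr (Or.inr ⟨(984690252025280836465891900345748549, 2162811), by decide +kernel, by decide +kernel⟩)

def A19 : Finset GolayPt := insert (pt 18) (insert (pt 21) (insert (pt 22) ((∅ : Finset GolayPt))))

theorem q19 : P10 A19 := Or.inl (by decide +kernel)

def A20 : Finset GolayPt := insert (pt 18) (insert (pt 20) ((∅ : Finset GolayPt)))

theorem q20 : P10 A20 := Or.inr (Or.inr ⟨(975762185657913870064463068361034817, 663645), by decide +kernel, by decide +kernel⟩)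

def A21 : Finset GolayPt := insert (pt 18) (insert (pt 20) (insert (pt 22) ((∅ : Finset GolayPt))))

theorem q21 : P10 A21 := Or.inl (by decide +kernel)

def A22 : Finset GolayPt := insert (pt 18) (insert (pt 20) (insert (pt 21) ((∅ : Finset GolayPt))))

theorem q22 : P10 A22 := Or.inl (by decide +kernel)

def A23 : Finset GolayPt := insert (pt 18) (insert (pt 20) (insert (pt 21) (insert (pt 22) ((∅ : Finset GolayPt)))))

theorem q23 : P10 A23 := Or.inr (Or.inr ⟨(983113089370880564384757388293506062, 4444255), by decide +kernel, by decide +kernel⟩)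

def A24 : Finset GolayPt := insert (pt 18) (insert (pt 19) ((∅ : Finset GolayPt)))

theorem q24 : P10 A24 := Or.inr (Or.inr ⟨(68244382436930314587144492996001873, 2162811), by decide +kernel, by decide +kernel⟩)

def A25 : Finset GolayPt := insert (pt 18) (insert (pt 19) (insert (pt 22) ((∅ : Finset GolayPt))))

theorem q25 : P10 A25 := Or.inl (by decide +kernel)

def A26 : Finset GolayPt := insert (pt 18) (insert (pt 19) (insert (pt 21) ((∅ : Finset GolayPt))))

theorem q26 : P10 A26 := Or.inl (by decide +kernel)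

def A27 : Finset GolayPt := insert (pt 18) (insert (pt 19) (insert (pt 21) (insert (pt 22) ((∅ : Finset GolayPt)))))

theorem q27 : P10 A27 := Or.inr (Or.inr ⟨(24153392952280422307516574047788209, 6832158), by decide +kernel, by decide +kernel⟩)

def A28 : Finset GolayPt := insert (pt 18) (insert (pt 19) (insert (pt 20) ((∅ : Finset GolayPt))))

theorem q28 : P10 A28 := Or.inl (by decide +kernel)

def A29 : Finset GolayPt := insert (pt 18) (insert (pt 19) (insert (pt 20) (insert (pt 22) ((∅ : Finset GolayPt)))))

theorem q29 : P10 A29 := Or.inr (Or.inr ⟨(975598701523565579071668087374857250, 2491452), by decide +kernel, by decide +kernel⟩)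

def A30 : Finset GolayPt := insert (pt 18) (insert (pt 19) (insert (pt 20) (insert (pt 21) ((∅ : Finset GolayPt)))))

theorem q30 : P10 A30 := Or.inr (Or.inr ⟨(984818244535754528103549039458486304, 4063314), by decide +kernel, by decide +kernel⟩)

def A31 : Finset GolayPt := insert (pt 18) (insert (pt 19) (insert (pt 20) (insert (pt 21) (insert (pt 22) ((∅ : Finset GolayPt))))))

theorem q31 : P10 A31 := Or.inl (by decide +kernel)

theorem E10_table : ∀ S ∈ subsOf U10, P10 S := by
  intro S hS
  have e : subsOf U10 = [A0, A1, A2, A3, A4, A5, A6, A7, A8, A9, A10, A11, A12, A13, A14, A15, A16, A17, A18, A19, A20, A21, A22, A23, A24, A25, A26, A27, A28, A29, A30, A31] := rfl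
  rw [e] at hS
  simp only [List.mem_cons, List.not_mem_nil, or_false] at hS
  rcases hS with rfl | rfl | rfl | rfl | rfl | rfl | rfl | rfl | rfl | rfl | rfl | rfl | rfl | rfl | rfl | rfl | rfl | rfl | rfl | rfl | rfl | rfl | rfl | rfl | rfl | rfl | rfl | rfl | rfl | rfl | rfl | rfl
  exacts [q0, q1, q2, q3, q4, q5, q6, q7, q8, q9, q10, q11, q12, q13, q14, q15, q16, q17, q18, q19, q20, q21, q22, q23, q24, q25, q26, q27, q28, q29, q30, q31]

theorem case_E10 {x : GolayPt → ℤ} (hx : x ∈ leechLattice)
    (h : ∀ i, x i ^ 2 = absRep (fs 8241104) ∅ ∅ ∅ i ^ 2) : RR x rE5 := by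
  obtain ⟨S, hS, hR⟩ := finalU rE10 p10 p10_ok U10.toFinset (by decide +kernel) hx (fun i => by
    rw [h i]
    revert i
    decide +kernel)
  have hev : CoC.flip S rE10 none % 2 = 0 := by
    have h1 : ∀ i, rE10 i % 2 = 0 := by decide +kernel
    have h2 := h1 none
    unfold CoC.flip
    split_ifs
    · omega
    · exact h2
  have hm := hR.mem_right
  rcases E10_table S (mem_subsOf _ _ (Finset.mem_powerset.mp hS)) with h1 | ⟨t, ht, e⟩ | ⟨t, ht, e⟩
  · exact absurd (even_sum hm hev) h1
  · obtain ⟨h2, h3, h4⟩ := T0_ok t ht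
    have a1 := RR_pv h2 hm
    have a2 := a1.trans (RR_sv h3 h4 a1.mem_right)
    rw [e] at a2
    exact hR.trans (a2.trans to5_E10)
  · obtain ⟨h2, h3, h4⟩ := T1_ok t ht
    have a1 := RR_pv h2 hm
    have a2 := a1.trans (RR_sv h3 h4 a1.mem_right)
    rw [e] at a2
    exact hR.trans (a2.trans to5_E11)

/-- The odd shapes with disjointness. -/
theorem odd_shape' {x : GolayPt → ℤ} (h1 : ∀ i, x i % 4 = 1) {N : ℕ} (hN : sqNorm x = N) (hN64 : N ≤ 64) :
    ∃ A B : Finset GolayPt, Disjoint A B ∧ x = oddRep A B ∧ 24 + 8 * A.card + 24 * B.card = N := by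
  obtain ⟨A, B, e, h⟩ := odd_shape h1 hN hN64
  have key : ∀ i, oddRep A B i ^ 2 = 1 + 8 * (if i ∈ A then 1 else 0) + 24 * (if i ∈ B \ A then 1 else 0) := by
    intro i
    unfold oddRep
    by_cases ha : i ∈ A
    · simp [ha]
    · by_cases hb : i ∈ B
      · simp [ha, hb]
      · simp [ha, hb]
  have hsum : (N : ℤ) = 24 + 8 * A.card + 24 * (B \ A).card := by
    rw [← hN, e]
    unfold sqNorm
    simp only [key]
    rw [Finset.sum_add_distrib, Finset.sum_add_distrib, ← Finset.mul_sum, ← Finset.mul_sum]
    simp only [Finset.sum_const, card_pts', Finset.sum_boole, Finset.filter_mem_eq_inter, Finset.univ_inter]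
    simp
  have h2 : (B \ A).card = B.card := by omega
  have h3 : Disjoint A B := by
    have h4 : B \ A = B := Finset.eq_of_subset_of_card_le Finset.sdiff_subset (by omega)
    rw [← h4]
    exact Finset.disjoint_sdiff
  exact ⟨A, B, h3, e, h⟩

theorem main64 {x : GolayPt → ℤ} (hx : x ∈ leechLattice) (hN : sqNorm x = (64 : ℕ)) : RR x rE5 := by
  rcases even_or_odd (mem_leechLattice_iff.mp hx) with ⟨he, -, -⟩ | ⟨ho, -, -⟩
  · obtain ⟨C, F4, F6, F8, hC, h1, h2, h3, h4, h5⟩ := even_shape hx he hN (by norm_num)
    have hF6 : F6.card ≤ C.card := Finset.card_le_card h2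
    rcases supports_card hC with h | h | h | h | h
    · have hC0 : C = ∅ := Finset.card_eq_zero.mp h
      have hF60 : F6 = ∅ := Finset.card_eq_zero.mp (by omega)
      have hcases : (F4.card = 4 ∧ F8.card = 0) ∨ (F4.card = 0 ∧ F8.card = 1) := by omega
      subst hC0 hF60
      rcases hcases with ⟨h6, h7⟩ | ⟨h6, h7⟩
      · have hF80 : F8 = ∅ := Finset.card_eq_zero.mp h7
        subst hF80
        obtain ⟨p, F', hp, rfl, hF'⟩ := Finset.card_eq_succ.mp h6
        obtain ⟨q, r, s, hqr, hqs, hrs, rfl⟩ := Finset.card_eq_three.mp hF'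
        simp only [Finset.mem_insert, Finset.mem_singleton, not_or] at hp
        obtain ⟨σ, hσ, e1, e2, e3, e4⟩ := Cfsg.Agent.H02.Gol.four_trans (p := pt 23) (q := pt 0) (r := pt 1) (s := pt 2)
          (p' := p) (q' := q) (r' := r) (s' := s) (by decide) (by decide) (by decide) (by decide) (by decide)
          (by decide) hp.1 hp.2.1 hp.2.2 hqr hqs hrs
        have h8 : σ • ({pt 23, pt 0, pt 1, pt 2} : Finset GolayPt) = {p, q, r, s} := by
          rw [Finset.smul_finset_insert, Finset.smul_finset_insert, Finset.smul_finset_insert,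
            Finset.smul_finset_singleton]
          show ({σ (pt 23), σ (pt 0), σ (pt 1), σ (pt 2)} : Finset GolayPt) = _
          rw [e1, e2, e3, e4]
        obtain ⟨a1, a2⟩ := move_even hx h1 hσ (C' := ∅) (F6' := ∅) (F8' := ∅) (Finset.smul_finset_empty _) h8
          (Finset.smul_finset_empty _) (Finset.smul_finset_empty _)
        exact a1.trans ((case_E6 a1.mem_right a2).trans to5_E6)
      · have hF40 : F4 = ∅ := Finset.card_eq_zero.mp h6
        obtain ⟨p, rfl⟩ := Finset.card_eq_one.mp h7
        subst hF40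
        obtain ⟨σ, hσ, e⟩ := Gol.one_trans (pt 23) p
        have h8 : σ • ({pt 23} : Finset GolayPt) = {p} := by
          rw [Finset.smul_finset_singleton]
          show ({σ (pt 23)} : Finset GolayPt) = _
          rw [e]
        obtain ⟨a1, a2⟩ := move_even hx h1 hσ (C' := ∅) (F4' := ∅) (F6' := ∅) (Finset.smul_finset_empty _)
          (Finset.smul_finset_empty _) (Finset.smul_finset_empty _) h8
        exact a1.trans (case_E5 a1.mem_right a2)
    · have hF80 : F8 = ∅ := Finset.card_eq_zero.mp (by omega)
      have hcases : (F6.card = 1 ∧ F4.card = 0) ∨ (F6.card = 0 ∧ F4.card = 2) := by omega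
      subst hF80
      have hoct := octad_of_supports hC h
      rcases hcases with ⟨h6, h7⟩ | ⟨h6, h7⟩
      · have hF40 : F4 = ∅ := Finset.card_eq_zero.mp h7
        obtain ⟨p, rfl⟩ := Finset.card_eq_one.mp h6
        subst hF40
        have hp : p ∈ C := h2 (Finset.mem_singleton_self p)
        obtain ⟨σ, hσ, e1, e2⟩ := flag_in hoct hp
        have h8 : σ • ({pt 0} : Finset GolayPt) = {p} := by
          rw [Finset.smul_finset_singleton]
          show ({σ (pt 0)} : Finset GolayPt) = _
          rw [e2]
        obtain ⟨a1, a2⟩ := move_even hx h1 hσ (C' := fs O0) (F4' := ∅) (F8' := ∅) e1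
          (Finset.smul_finset_empty _) h8 (Finset.smul_finset_empty _)
        exact a1.trans ((case_E7 a1.mem_right a2).trans to5_E7)
      · have hF60 : F6 = ∅ := Finset.card_eq_zero.mp h6
        obtain ⟨p, q, hpq, rfl⟩ := Finset.card_eq_two.mp h7
        subst hF60
        have hp : p ∉ C := Finset.disjoint_left.mp h3 (by simp)
        have hq : q ∉ C := Finset.disjoint_left.mp h3 (by simp)
        obtain ⟨σ, hσ, e1, e2, e3⟩ := pair_off hoct hp hq hpq
        have h8 : σ • ({pt 4, pt 6} : Finset GolayPt) = {p, q} := by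
          rw [Finset.smul_finset_insert, Finset.smul_finset_singleton]
          show ({σ (pt 4), σ (pt 6)} : Finset GolayPt) = _
          rw [e2, e3]
        obtain ⟨a1, a2⟩ := move_even hx h1 hσ (C' := fs O0) (F6' := ∅) (F8' := ∅) e1 h8
          (Finset.smul_finset_empty _) (Finset.smul_finset_empty _)
        exact a1.trans ((case_E8 a1.mem_right a2).trans to5_E8)
    · have hF60 : F6 = ∅ := Finset.card_eq_zero.mp (by omega)
      have hF80 : F8 = ∅ := Finset.card_eq_zero.mp (by omega)
      have hF41 : F4.card = 1 := by omega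
      obtain ⟨p, rfl⟩ := Finset.card_eq_one.mp hF41
      have hp : p ∉ C := Finset.disjoint_left.mp h3 (Finset.mem_singleton_self p)
      obtain ⟨σ, hσ, e, e2⟩ := dflag_off (dodecad_of_supports hC h) hp
      have h6 : σ • ({pt 5} : Finset GolayPt) = {p} := by
        rw [Finset.smul_finset_singleton]
        show ({σ (pt 5)} : Finset GolayPt) = _
        rw [e2]
      subst hF60 hF80
      obtain ⟨a1, a2⟩ := move_even hx h1 hσ (C' := fs H26.GolayMod.D0) (F6' := ∅) (F8' := ∅) e h6
        (Finset.smul_finset_empty _) (Finset.smul_finset_empty _)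
      exact a1.trans ((case_E9 a1.mem_right a2).trans to5_E9)
    · have hF60 : F6 = ∅ := Finset.card_eq_zero.mp (by omega)
      have hF80 : F8 = ∅ := Finset.card_eq_zero.mp (by omega)
      have hF40 : F4 = ∅ := Finset.card_eq_zero.mp (by omega)
      subst hF60 hF80 hF40
      -- the complement of the high word is an octad
      have hco : Cᶜ ∈ octads := by
        obtain ⟨w, hw, rfl⟩ := hC
        refine ⟨⟨w + fun _ => 1, golayCode.add_mem hw H26.GolayMod.allOnes_mem, ?_⟩, ?_⟩
        · ext p
          rw [Finset.mem_compl, mem_support₂, mem_support₂]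
          simp only [Pi.add_apply]
          have : ∀ a : ZMod 2, a + 1 ≠ 0 ↔ ¬ a ≠ 0 := by decide
          exact this _
        · rw [Finset.card_compl, h]
          rfl
      obtain ⟨σ, hσ, e⟩ := exists_smul_O0 hco
      have hc2 : σ • fs 8241104 = C := by
        have h6 : fs 8241104 = (fs O0)ᶜ := by decide +kernel
        rw [h6]
        ext p
        obtain ⟨q, rfl⟩ := σ.surjective p
        rw [smul_mem_iff, Finset.mem_compl]
        have h7 : σ q ∉ Cᶜ ↔ σ q ∈ C := by simp
        rw [← h7, ← e, smul_mem_iff]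
      obtain ⟨a1, a2⟩ := move_even hx h1 hσ (C' := fs 8241104) (F4' := ∅) (F6' := ∅) (F8' := ∅) hc2
        (Finset.smul_finset_empty _) (Finset.smul_finset_empty _) (Finset.smul_finset_empty _)
      exact a1.trans (case_E10 a1.mem_right a2)
    · omega
  · obtain ⟨x', h1, h2, h3⟩ := odd_to_one hx ho
    obtain ⟨A, B, hd, rfl, h4⟩ := odd_shape' h2 (h3.trans hN) (by norm_num)
    have hcases : (A.card = 5 ∧ B.card = 0) ∨ (A.card = 2 ∧ B.card = 1) := by omega
    rcases hcases with ⟨hA, hB⟩ | ⟨hA, hB⟩
    · have hB0 : B = ∅ := Finset.card_eq_zero.mp hB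
      subst hB0
      obtain ⟨σ, hσ, e⟩ := exists_smul_base5 hA
      exact h1.trans ((oddRep_move h1.mem_right hσ e (Finset.smul_finset_empty _)).trans to5_O5)
    · obtain ⟨a, b, hab, rfl⟩ := Finset.card_eq_two.mp hA
      obtain ⟨p, rfl⟩ := Finset.card_eq_one.mp hB
      have hpa : p ≠ a := by
        rintro rfl
        exact Finset.disjoint_left.mp hd (by simp) (Finset.mem_singleton_self _)
      have hpb : p ≠ b := by
        rintro rfl
        exact Finset.disjoint_left.mp hd (by simp) (Finset.mem_singleton_self _)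
      obtain ⟨σ, hσ, e1, e2, e3⟩ := Gol.three_trans (p := pt 23) (q := pt 0) (r := pt 1) (p' := p) (q' := a) (r' := b)
        (by decide) (by decide) (by decide) hpa hpb hab
      have h6 : σ • ({pt 0, pt 1} : Finset GolayPt) = {a, b} := by
        rw [Finset.smul_finset_insert, Finset.smul_finset_singleton]
        show ({σ (pt 0), σ (pt 1)} : Finset GolayPt) = _
        rw [e2, e3]
      have h7 : σ • ({pt 23} : Finset GolayPt) = {p} := by
        rw [Finset.smul_finset_singleton]
        show ({σ (pt 23)} : Finset GolayPt) = _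
        rw [e1]
      exact h1.trans ((oddRep_move h1.mem_right hσ h6 h7).trans to5_O21)

end Cfsg.Agent.H02.CoF
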