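import Cfsg.Agent.Lib.H02.CoVb

/-!
A count on a table.
-/

set_option autoImplicit false
set_option Elab.async false
set_option maxRecDepth 100000

namespace Cfsg.Agent.H02.CoQf

open Cfsg.Agent.H02.CoK Cfsg.Agent.H02.CoL Cfsg.Agent.H02.CoM Cfsg.Agent.H02.CoR

/-- The sum. -/
def SP (P : ℕ) : ℕ := sp [(1, 1), (2, 1), (3, 1), (4, 1), (5, 1), (6, 1), (7, 1), (8, 1), (9, 1), (10, 1), (11, 1), (12, 1), (13, 1), (14, 1), (15, 1), (16, 1), (17, 1), (18, 1), (19, 1), (20, 1), (21, 1), (22, 1), (23, 1)] P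

/-- The sum. -/
def SN (P : ℕ) : ℕ := sp [(0, 3)] P

/-- A test. -/
def Ta (P : ℕ) : Bool := tEq [(1, 1), (2, 1), (3, 1), (4, 1), (5, 1), (6, 1), (7, 1), (8, 1), (9, 1), (10, 1), (11, 1), (12, 1), (13, 1), (14, 1), (15, 1), (16, 1), (17, 1), (18, 1), (19, 1), (20, 1), (21, 1), (22, 1), (23, 1)] [(0, 3)] 0 304 P

/-- A test. -/
def Tb (P : ℕ) : Bool := tEq [(1, 1), (2, 1), (3, 1), (4, 1), (5, 1), (6, 1), (7, 1), (8, 1), (9, 1), (10, 1), (11, 1), (12, 1), (13, 1), (14, 1), (15, 1), (16, 1), (17, 1), (18, 1), (19, 1), (20, 1), (21, 1), (22, 1), (23, 1)] [(0, 3)] 0 312 P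

/-- A test. -/
def Tc (P : ℕ) : Bool := tEq [(1, 1), (2, 1), (3, 1), (4, 1), (5, 1), (6, 1), (7, 1), (8, 1), (9, 1), (10, 1), (11, 1), (12, 1), (13, 1), (14, 1), (15, 1), (16, 1), (17, 1), (18, 1), (19, 1), (20, 1), (21, 1), (22, 1), (23, 1)] [(0, 3)] 0 320 P

/-- A test. -/
def Td (P : ℕ) : Bool := tEq [(1, 1), (2, 1), (3, 1), (4, 1), (5, 1), (6, 1), (7, 1), (8, 1), (9, 1), (10, 1), (11, 1), (12, 1), (13, 1), (14, 1), (15, 1), (16, 1), (17, 1), (18, 1), (19, 1), (20, 1), (21, 1), (22, 1), (23, 1)] [(0, 3)] 0 336 P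

/-- A test. -/
def Te (P : ℕ) : Bool := tEq [(1, 1), (2, 1), (3, 1), (4, 1), (5, 1), (6, 1), (7, 1), (8, 1), (9, 1), (10, 1), (11, 1), (12, 1), (13, 1), (14, 1), (15, 1), (16, 1), (17, 1), (18, 1), (19, 1), (20, 1), (21, 1), (22, 1), (23, 1)] [(0, 3)] 0 328 P


theorem ca_0 : cntR (fun k => Ta (CoVb.O k)) 0 4096 = 173 := by decide +kernel
theorem ca_1 : cntR (fun k => Ta (CoVb.O k)) 4096 4096 = 80 := by decide +kernel
theorem ca_2 : cntR (fun k => Ta (CoVb.O k)) 8192 4096 = 0 := by decide +kernel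
theorem ca_3 : cntR (fun k => Ta (CoVb.O k)) 12288 4096 = 19 := by decide +kernel
theorem ca_4 : cntR (fun k => Ta (CoVb.O k)) 16384 4096 = 1 := by decide +kernel
theorem ca_5 : cntR (fun k => Ta (CoVb.O k)) 20480 4096 = 1 := by decide +kernel
theorem ca_6 : cntR (fun k => Ta (CoVb.O k)) 24576 4096 = 0 := by decide +kernel
theorem ca_7 : cntR (fun k => Ta (CoVb.O k)) 28672 4096 = 0 := by decide +kernel
theorem ca_8 : cntR (fun k => Ta (CoVb.O k)) 32768 4096 = 1 := by decide +kernel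
theorem ca_9 : cntR (fun k => Ta (CoVb.O k)) 36864 4096 = 0 := by decide +kernel
theorem ca_10 : cntR (fun k => Ta (CoVb.O k)) 40960 4096 = 0 := by decide +kernel
theorem ca_11 : cntR (fun k => Ta (CoVb.O k)) 45056 2048 = 0 := by decide +kernel

theorem cnta : cntR (fun k => Ta (CoVb.O k)) 0 47104 = 275 := by
  have h11 : cntR (fun k => Ta (CoVb.O k)) 45056 2048 = 0 := ca_11
  have h10 : cntR (fun k => Ta (CoVb.O k)) 40960 (4096 + 2048) = 0 := cnt_join ca_10 h11 rfl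
  have h9 : cntR (fun k => Ta (CoVb.O k)) 36864 (4096 + 6144) = 0 := cnt_join ca_9 h10 rfl
  have h8 : cntR (fun k => Ta (CoVb.O k)) 32768 (4096 + 10240) = 1 := cnt_join ca_8 h9 rfl
  have h7 : cntR (fun k => Ta (CoVb.O k)) 28672 (4096 + 14336) = 1 := cnt_join ca_7 h8 rfl
  have h6 : cntR (fun k => Ta (CoVb.O k)) 24576 (4096 + 18432) = 1 := cnt_join ca_6 h7 rfl
  have h5 : cntR (fun k => Ta (CoVb.O k)) 20480 (4096 + 22528) = 2 := cnt_join ca_5 h6 rfl
  have h4 : cntR (fun k => Ta (CoVb.O k)) 16384 (4096 + 26624) = 3 := cnt_join ca_4 h5 rfl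
  have h3 : cntR (fun k => Ta (CoVb.O k)) 12288 (4096 + 30720) = 22 := cnt_join ca_3 h4 rfl
  have h2 : cntR (fun k => Ta (CoVb.O k)) 8192 (4096 + 34816) = 22 := cnt_join ca_2 h3 rfl
  have h1 : cntR (fun k => Ta (CoVb.O k)) 4096 (4096 + 38912) = 102 := cnt_join ca_1 h2 rfl
  have h0 : cntR (fun k => Ta (CoVb.O k)) 0 (4096 + 43008) = 275 := cnt_join ca_0 h1 rfl
  exact h0

theorem cb_0 : cntR (fun k => Tb (CoVb.O k)) 0 4096 = 2056 := by decide +kernel
theorem cb_1 : cntR (fun k => Tb (CoVb.O k)) 4096 4096 = 1506 := by decide +kernel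
theorem cb_2 : cntR (fun k => Tb (CoVb.O k)) 8192 4096 = 750 := by decide +kernel
theorem cb_3 : cntR (fun k => Tb (CoVb.O k)) 12288 4096 = 1086 := by decide +kernel
theorem cb_4 : cntR (fun k => Tb (CoVb.O k)) 16384 4096 = 546 := by decide +kernel
theorem cb_5 : cntR (fun k => Tb (CoVb.O k)) 20480 4096 = 414 := by decide +kernel
theorem cb_6 : cntR (fun k => Tb (CoVb.O k)) 24576 4096 = 354 := by decide +kernel
theorem cb_7 : cntR (fun k => Tb (CoVb.O k)) 28672 4096 = 231 := by decide +kernel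
theorem cb_8 : cntR (fun k => Tb (CoVb.O k)) 32768 4096 = 85 := by decide +kernel
theorem cb_9 : cntR (fun k => Tb (CoVb.O k)) 36864 4096 = 100 := by decide +kernel
theorem cb_10 : cntR (fun k => Tb (CoVb.O k)) 40960 4096 = 0 := by decide +kernel
theorem cb_11 : cntR (fun k => Tb (CoVb.O k)) 45056 2048 = 0 := by decide +kernel

theorem cntb : cntR (fun k => Tb (CoVb.O k)) 0 47104 = 7128 := by
  have h11 : cntR (fun k => Tb (CoVb.O k)) 45056 2048 = 0 := cb_11
  have h10 : cntR (fun k => Tb (CoVb.O k)) 40960 (4096 + 2048) = 0 := cnt_join cb_10 h11 rfl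
  have h9 : cntR (fun k => Tb (CoVb.O k)) 36864 (4096 + 6144) = 100 := cnt_join cb_9 h10 rfl
  have h8 : cntR (fun k => Tb (CoVb.O k)) 32768 (4096 + 10240) = 185 := cnt_join cb_8 h9 rfl
  have h7 : cntR (fun k => Tb (CoVb.O k)) 28672 (4096 + 14336) = 416 := cnt_join cb_7 h8 rfl
  have h6 : cntR (fun k => Tb (CoVb.O k)) 24576 (4096 + 18432) = 770 := cnt_join cb_6 h7 rfl
  have h5 : cntR (fun k => Tb (CoVb.O k)) 20480 (4096 + 22528) = 1184 := cnt_join cb_5 h6 rfl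
  have h4 : cntR (fun k => Tb (CoVb.O k)) 16384 (4096 + 26624) = 1730 := cnt_join cb_4 h5 rfl
  have h3 : cntR (fun k => Tb (CoVb.O k)) 12288 (4096 + 30720) = 2816 := cnt_join cb_3 h4 rfl
  have h2 : cntR (fun k => Tb (CoVb.O k)) 8192 (4096 + 34816) = 3566 := cnt_join cb_2 h3 rfl
  have h1 : cntR (fun k => Tb (CoVb.O k)) 4096 (4096 + 38912) = 5072 := cnt_join cb_1 h2 rfl
  have h0 : cntR (fun k => Tb (CoVb.O k)) 0 (4096 + 43008) = 7128 := cnt_join cb_0 h1 rfl
  exact h0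

theorem cc_0 : cntR (fun k => Tc (CoVb.O k)) 0 4096 = 1770 := by decide +kernel
theorem cc_1 : cntR (fun k => Tc (CoVb.O k)) 4096 4096 = 2164 := by decide +kernel
theorem cc_2 : cntR (fun k => Tc (CoVb.O k)) 8192 4096 = 2556 := by decide +kernel
theorem cc_3 : cntR (fun k => Tc (CoVb.O k)) 12288 4096 = 2471 := by decide +kernel
theorem cc_4 : cntR (fun k => Tc (CoVb.O k)) 16384 4096 = 2425 := by decide +kernel
theorem cc_5 : cntR (fun k => Tc (CoVb.O k)) 20480 4096 = 2176 := by decide +kernel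
theorem cc_6 : cntR (fun k => Tc (CoVb.O k)) 24576 4096 = 2250 := by decide +kernel
theorem cc_7 : cntR (fun k => Tc (CoVb.O k)) 28672 4096 = 2027 := by decide +kernel
theorem cc_8 : cntR (fun k => Tc (CoVb.O k)) 32768 4096 = 1671 := by decide +kernel
theorem cc_9 : cntR (fun k => Tc (CoVb.O k)) 36864 4096 = 1744 := by decide +kernel
theorem cc_10 : cntR (fun k => Tc (CoVb.O k)) 40960 4096 = 848 := by decide +kernel
theorem cc_11 : cntR (fun k => Tc (CoVb.O k)) 45056 2048 = 173 := by decide +kernel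

theorem cntc : cntR (fun k => Tc (CoVb.O k)) 0 47104 = 22275 := by
  have h11 : cntR (fun k => Tc (CoVb.O k)) 45056 2048 = 173 := cc_11
  have h10 : cntR (fun k => Tc (CoVb.O k)) 40960 (4096 + 2048) = 1021 := cnt_join cc_10 h11 rfl
  have h9 : cntR (fun k => Tc (CoVb.O k)) 36864 (4096 + 6144) = 2765 := cnt_join cc_9 h10 rfl
  have h8 : cntR (fun k => Tc (CoVb.O k)) 32768 (4096 + 10240) = 4436 := cnt_join cc_8 h9 rfl
  have h7 : cntR (fun k => Tc (CoVb.O k)) 28672 (4096 + 14336) = 6463 := cnt_join cc_7 h8 rfl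
  have h6 : cntR (fun k => Tc (CoVb.O k)) 24576 (4096 + 18432) = 8713 := cnt_join cc_6 h7 rfl
  have h5 : cntR (fun k => Tc (CoVb.O k)) 20480 (4096 + 22528) = 10889 := cnt_join cc_5 h6 rfl
  have h4 : cntR (fun k => Tc (CoVb.O k)) 16384 (4096 + 26624) = 13314 := cnt_join cc_4 h5 rfl
  have h3 : cntR (fun k => Tc (CoVb.O k)) 12288 (4096 + 30720) = 15785 := cnt_join cc_3 h4 rfl
  have h2 : cntR (fun k => Tc (CoVb.O k)) 8192 (4096 + 34816) = 18341 := cnt_join cc_2 h3 rfl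
  have h1 : cntR (fun k => Tc (CoVb.O k)) 4096 (4096 + 38912) = 20505 := cnt_join cc_1 h2 rfl
  have h0 : cntR (fun k => Tc (CoVb.O k)) 0 (4096 + 43008) = 22275 := cnt_join cc_0 h1 rfl
  exact h0

theorem cd_0 : cntR (fun k => Td (CoVb.O k)) 0 4096 = 1 := by decide +kernel
theorem cd_1 : cntR (fun k => Td (CoVb.O k)) 4096 4096 = 0 := by decide +kernel
theorem cd_2 : cntR (fun k => Td (CoVb.O k)) 8192 4096 = 0 := by decide +kernel
theorem cd_3 : cntR (fun k => Td (CoVb.O k)) 12288 4096 = 3 := by decide +kernel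
theorem cd_4 : cntR (fun k => Td (CoVb.O k)) 16384 4096 = 26 := by decide +kernel
theorem cd_5 : cntR (fun k => Td (CoVb.O k)) 20480 4096 = 78 := by decide +kernel
theorem cd_6 : cntR (fun k => Td (CoVb.O k)) 24576 4096 = 62 := by decide +kernel
theorem cd_7 : cntR (fun k => Td (CoVb.O k)) 28672 4096 = 121 := by decide +kernel
theorem cd_8 : cntR (fun k => Td (CoVb.O k)) 32768 4096 = 228 := by decide +kernel
theorem cd_9 : cntR (fun k => Td (CoVb.O k)) 36864 4096 = 200 := by decide +kernel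
theorem cd_10 : cntR (fun k => Td (CoVb.O k)) 40960 4096 = 688 := by decide +kernel
theorem cd_11 : cntR (fun k => Td (CoVb.O k)) 45056 2048 = 618 := by decide +kernel

theorem cntd : cntR (fun k => Td (CoVb.O k)) 0 47104 = 2025 := by
  have h11 : cntR (fun k => Td (CoVb.O k)) 45056 2048 = 618 := cd_11
  have h10 : cntR (fun k => Td (CoVb.O k)) 40960 (4096 + 2048) = 1306 := cnt_join cd_10 h11 rfl
  have h9 : cntR (fun k => Td (CoVb.O k)) 36864 (4096 + 6144) = 1506 := cnt_join cd_9 h10 rfl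
  have h8 : cntR (fun k => Td (CoVb.O k)) 32768 (4096 + 10240) = 1734 := cnt_join cd_8 h9 rfl
  have h7 : cntR (fun k => Td (CoVb.O k)) 28672 (4096 + 14336) = 1855 := cnt_join cd_7 h8 rfl
  have h6 : cntR (fun k => Td (CoVb.O k)) 24576 (4096 + 18432) = 1917 := cnt_join cd_6 h7 rfl
  have h5 : cntR (fun k => Td (CoVb.O k)) 20480 (4096 + 22528) = 1995 := cnt_join cd_5 h6 rfl
  have h4 : cntR (fun k => Td (CoVb.O k)) 16384 (4096 + 26624) = 2021 := cnt_join cd_4 h5 rfl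
  have h3 : cntR (fun k => Td (CoVb.O k)) 12288 (4096 + 30720) = 2024 := cnt_join cd_3 h4 rfl
  have h2 : cntR (fun k => Td (CoVb.O k)) 8192 (4096 + 34816) = 2024 := cnt_join cd_2 h3 rfl
  have h1 : cntR (fun k => Td (CoVb.O k)) 4096 (4096 + 38912) = 2024 := cnt_join cd_1 h2 rfl
  have h0 : cntR (fun k => Td (CoVb.O k)) 0 (4096 + 43008) = 2025 := cnt_join cd_0 h1 rfl
  exact h0

theorem ce_0 : cntR (fun k => Te (CoVb.O k)) 0 4096 = 96 := by decide +kernel
theorem ce_1 : cntR (fun k => Te (CoVb.O k)) 4096 4096 = 346 := by decide +kernel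
theorem ce_2 : cntR (fun k => Te (CoVb.O k)) 8192 4096 = 790 := by decide +kernel
theorem ce_3 : cntR (fun k => Te (CoVb.O k)) 12288 4096 = 517 := by decide +kernel
theorem ce_4 : cntR (fun k => Te (CoVb.O k)) 16384 4096 = 1098 := by decide +kernel
theorem ce_5 : cntR (fun k => Te (CoVb.O k)) 20480 4096 = 1427 := by decide +kernel
theorem ce_6 : cntR (fun k => Te (CoVb.O k)) 24576 4096 = 1430 := by decide +kernel
theorem ce_7 : cntR (fun k => Te (CoVb.O k)) 28672 4096 = 1717 := by decide +kernel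
theorem ce_8 : cntR (fun k => Te (CoVb.O k)) 32768 4096 = 2111 := by decide +kernel
theorem ce_9 : cntR (fun k => Te (CoVb.O k)) 36864 4096 = 2052 := by decide +kernel
theorem ce_10 : cntR (fun k => Te (CoVb.O k)) 40960 4096 = 2560 := by decide +kernel
theorem ce_11 : cntR (fun k => Te (CoVb.O k)) 45056 2048 = 1256 := by decide +kernel

theorem cnte : cntR (fun k => Te (CoVb.O k)) 0 47104 = 15400 := by
  have h11 : cntR (fun k => Te (CoVb.O k)) 45056 2048 = 1256 := ce_11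
  have h10 : cntR (fun k => Te (CoVb.O k)) 40960 (4096 + 2048) = 3816 := cnt_join ce_10 h11 rfl
  have h9 : cntR (fun k => Te (CoVb.O k)) 36864 (4096 + 6144) = 5868 := cnt_join ce_9 h10 rfl
  have h8 : cntR (fun k => Te (CoVb.O k)) 32768 (4096 + 10240) = 7979 := cnt_join ce_8 h9 rfl
  have h7 : cntR (fun k => Te (CoVb.O k)) 28672 (4096 + 14336) = 9696 := cnt_join ce_7 h8 rfl
  have h6 : cntR (fun k => Te (CoVb.O k)) 24576 (4096 + 18432) = 11126 := cnt_join ce_6 h7 rfl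
  have h5 : cntR (fun k => Te (CoVb.O k)) 20480 (4096 + 22528) = 12553 := cnt_join ce_5 h6 rfl
  have h4 : cntR (fun k => Te (CoVb.O k)) 16384 (4096 + 26624) = 13651 := cnt_join ce_4 h5 rfl
  have h3 : cntR (fun k => Te (CoVb.O k)) 12288 (4096 + 30720) = 14168 := cnt_join ce_3 h4 rfl
  have h2 : cntR (fun k => Te (CoVb.O k)) 8192 (4096 + 34816) = 14958 := cnt_join ce_2 h3 rfl
  have h1 : cntR (fun k => Te (CoVb.O k)) 4096 (4096 + 38912) = 15304 := cnt_join ce_1 h2 rfl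
  have h0 : cntR (fun k => Te (CoVb.O k)) 0 (4096 + 43008) = 15400 := cnt_join ce_0 h1 rfl
  exact h0

end Cfsg.Agent.H02.CoQf
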