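import Cfsg.Agent.Lib.H02.CoR

/-!
Counting minimal vectors by inner products, a vector of norm 4.
-/

set_option autoImplicit false
set_option Elab.async false
set_option maxRecDepth 100000

namespace Cfsg.Agent.H02.CoS

open Cfsg.Agent.H02.CoK Cfsg.Agent.H02.CoL Cfsg.Agent.H02.CoM Cfsg.Agent.H02.CoR


/-- The test of the inner product -16. -/
def TA16 (P : ℕ) : Bool := tEq [(0, 4), (23, 4)] [] 0 112 P

theorem cA16_0 : cntR (fun k => TA16 (Tp k)) 0 4096 = 1348 := by decide +kernel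
theorem cA16_1 : cntR (fun k => TA16 (Tp k)) 4096 4096 = 597 := by decide +kernel
theorem cA16_2 : cntR (fun k => TA16 (Tp k)) 8192 4096 = 731 := by decide +kernel
theorem cA16_3 : cntR (fun k => TA16 (Tp k)) 12288 4096 = 588 := by decide +kernel
theorem cA16_4 : cntR (fun k => TA16 (Tp k)) 16384 4096 = 273 := by decide +kernel
theorem cA16_5 : cntR (fun k => TA16 (Tp k)) 20480 4096 = 111 := by decide +kernel
theorem cA16_6 : cntR (fun k => TA16 (Tp k)) 24576 4096 = 100 := by decide +kernel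
theorem cA16_7 : cntR (fun k => TA16 (Tp k)) 28672 4096 = 88 := by decide +kernel
theorem cA16_8 : cntR (fun k => TA16 (Tp k)) 32768 4096 = 100 := by decide +kernel
theorem cA16_9 : cntR (fun k => TA16 (Tp k)) 36864 4096 = 108 := by decide +kernel
theorem cA16_10 : cntR (fun k => TA16 (Tp k)) 40960 4096 = 64 := by decide +kernel
theorem cA16_11 : cntR (fun k => TA16 (Tp k)) 45056 4096 = 97 := by decide +kernel
theorem cA16_12 : cntR (fun k => TA16 (Tp k)) 49152 4096 = 95 := by decide +kernel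
theorem cA16_13 : cntR (fun k => TA16 (Tp k)) 53248 4096 = 101 := by decide +kernel
theorem cA16_14 : cntR (fun k => TA16 (Tp k)) 57344 4096 = 100 := by decide +kernel
theorem cA16_15 : cntR (fun k => TA16 (Tp k)) 61440 4096 = 56 := by decide +kernel
theorem cA16_16 : cntR (fun k => TA16 (Tp k)) 65536 4096 = 0 := by decide +kernel
theorem cA16_17 : cntR (fun k => TA16 (Tp k)) 69632 4096 = 0 := by decide +kernel
theorem cA16_18 : cntR (fun k => TA16 (Tp k)) 73728 4096 = 1 := by decide +kernel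
theorem cA16_19 : cntR (fun k => TA16 (Tp k)) 77824 4096 = 0 := by decide +kernel
theorem cA16_20 : cntR (fun k => TA16 (Tp k)) 81920 4096 = 1 := by decide +kernel
theorem cA16_21 : cntR (fun k => TA16 (Tp k)) 86016 4096 = 1 := by decide +kernel
theorem cA16_22 : cntR (fun k => TA16 (Tp k)) 90112 4096 = 1 := by decide +kernel
theorem cA16_23 : cntR (fun k => TA16 (Tp k)) 94208 4096 = 21 := by decide +kernel
theorem cA16_24 : cntR (fun k => TA16 (Tp k)) 98304 4096 = 13 := by decide +kernel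
theorem cA16_25 : cntR (fun k => TA16 (Tp k)) 102400 4096 = 1 := by decide +kernel
theorem cA16_26 : cntR (fun k => TA16 (Tp k)) 106496 4096 = 1 := by decide +kernel
theorem cA16_27 : cntR (fun k => TA16 (Tp k)) 110592 4096 = 1 := by decide +kernel
theorem cA16_28 : cntR (fun k => TA16 (Tp k)) 114688 4096 = 0 := by decide +kernel
theorem cA16_29 : cntR (fun k => TA16 (Tp k)) 118784 4096 = 1 := by decide +kernel
theorem cA16_30 : cntR (fun k => TA16 (Tp k)) 122880 4096 = 0 := by decide +kernel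
theorem cA16_31 : cntR (fun k => TA16 (Tp k)) 126976 4096 = 0 := by decide +kernel
theorem cA16_32 : cntR (fun k => TA16 (Tp k)) 131072 4096 = 1 := by decide +kernel
theorem cA16_33 : cntR (fun k => TA16 (Tp k)) 135168 4096 = 0 := by decide +kernel
theorem cA16_34 : cntR (fun k => TA16 (Tp k)) 139264 4096 = 0 := by decide +kernel
theorem cA16_35 : cntR (fun k => TA16 (Tp k)) 143360 4096 = 0 := by decide +kernel
theorem cA16_36 : cntR (fun k => TA16 (Tp k)) 147456 4096 = 0 := by decide +kernel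
theorem cA16_37 : cntR (fun k => TA16 (Tp k)) 151552 4096 = 0 := by decide +kernel
theorem cA16_38 : cntR (fun k => TA16 (Tp k)) 155648 4096 = 0 := by decide +kernel
theorem cA16_39 : cntR (fun k => TA16 (Tp k)) 159744 4096 = 0 := by decide +kernel
theorem cA16_40 : cntR (fun k => TA16 (Tp k)) 163840 4096 = 0 := by decide +kernel
theorem cA16_41 : cntR (fun k => TA16 (Tp k)) 167936 4096 = 0 := by decide +kernel
theorem cA16_42 : cntR (fun k => TA16 (Tp k)) 172032 4096 = 0 := by decide +kernel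
theorem cA16_43 : cntR (fun k => TA16 (Tp k)) 176128 4096 = 0 := by decide +kernel
theorem cA16_44 : cntR (fun k => TA16 (Tp k)) 180224 4096 = 0 := by decide +kernel
theorem cA16_45 : cntR (fun k => TA16 (Tp k)) 184320 4096 = 0 := by decide +kernel
theorem cA16_46 : cntR (fun k => TA16 (Tp k)) 188416 4096 = 0 := by decide +kernel
theorem cA16_47 : cntR (fun k => TA16 (Tp k)) 192512 4048 = 0 := by decide +kernel

theorem cntA16 : cntR (fun k => TA16 (Tp k)) 0 196560 = 4600 := by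
  have h47 : cntR (fun k => TA16 (Tp k)) 192512 4048 = 0 := cA16_47
  have h46 : cntR (fun k => TA16 (Tp k)) 188416 (4096 + 4048) = 0 := cnt_join cA16_46 h47 rfl
  have h45 : cntR (fun k => TA16 (Tp k)) 184320 (4096 + 8144) = 0 := cnt_join cA16_45 h46 rfl
  have h44 : cntR (fun k => TA16 (Tp k)) 180224 (4096 + 12240) = 0 := cnt_join cA16_44 h45 rfl
  have h43 : cntR (fun k => TA16 (Tp k)) 176128 (4096 + 16336) = 0 := cnt_join cA16_43 h44 rfl
  have h42 : cntR (fun k => TA16 (Tp k)) 172032 (4096 + 20432) = 0 := cnt_join cA16_42 h43 rfl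
  have h41 : cntR (fun k => TA16 (Tp k)) 167936 (4096 + 24528) = 0 := cnt_join cA16_41 h42 rfl
  have h40 : cntR (fun k => TA16 (Tp k)) 163840 (4096 + 28624) = 0 := cnt_join cA16_40 h41 rfl
  have h39 : cntR (fun k => TA16 (Tp k)) 159744 (4096 + 32720) = 0 := cnt_join cA16_39 h40 rfl
  have h38 : cntR (fun k => TA16 (Tp k)) 155648 (4096 + 36816) = 0 := cnt_join cA16_38 h39 rfl
  have h37 : cntR (fun k => TA16 (Tp k)) 151552 (4096 + 40912) = 0 := cnt_join cA16_37 h38 rfl
  have h36 : cntR (fun k => TA16 (Tp k)) 147456 (4096 + 45008) = 0 := cnt_join cA16_36 h37 rfl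
  have h35 : cntR (fun k => TA16 (Tp k)) 143360 (4096 + 49104) = 0 := cnt_join cA16_35 h36 rfl
  have h34 : cntR (fun k => TA16 (Tp k)) 139264 (4096 + 53200) = 0 := cnt_join cA16_34 h35 rfl
  have h33 : cntR (fun k => TA16 (Tp k)) 135168 (4096 + 57296) = 0 := cnt_join cA16_33 h34 rfl
  have h32 : cntR (fun k => TA16 (Tp k)) 131072 (4096 + 61392) = 1 := cnt_join cA16_32 h33 rfl
  have h31 : cntR (fun k => TA16 (Tp k)) 126976 (4096 + 65488) = 1 := cnt_join cA16_31 h32 rfl
  have h30 : cntR (fun k => TA16 (Tp k)) 122880 (4096 + 69584) = 1 := cnt_join cA16_30 h31 rfl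
  have h29 : cntR (fun k => TA16 (Tp k)) 118784 (4096 + 73680) = 2 := cnt_join cA16_29 h30 rfl
  have h28 : cntR (fun k => TA16 (Tp k)) 114688 (4096 + 77776) = 2 := cnt_join cA16_28 h29 rfl
  have h27 : cntR (fun k => TA16 (Tp k)) 110592 (4096 + 81872) = 3 := cnt_join cA16_27 h28 rfl
  have h26 : cntR (fun k => TA16 (Tp k)) 106496 (4096 + 85968) = 4 := cnt_join cA16_26 h27 rfl
  have h25 : cntR (fun k => TA16 (Tp k)) 102400 (4096 + 90064) = 5 := cnt_join cA16_25 h26 rfl
  have h24 : cntR (fun k => TA16 (Tp k)) 98304 (4096 + 94160) = 18 := cnt_join cA16_24 h25 rfl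
  have h23 : cntR (fun k => TA16 (Tp k)) 94208 (4096 + 98256) = 39 := cnt_join cA16_23 h24 rfl
  have h22 : cntR (fun k => TA16 (Tp k)) 90112 (4096 + 102352) = 40 := cnt_join cA16_22 h23 rfl
  have h21 : cntR (fun k => TA16 (Tp k)) 86016 (4096 + 106448) = 41 := cnt_join cA16_21 h22 rfl
  have h20 : cntR (fun k => TA16 (Tp k)) 81920 (4096 + 110544) = 42 := cnt_join cA16_20 h21 rfl
  have h19 : cntR (fun k => TA16 (Tp k)) 77824 (4096 + 114640) = 42 := cnt_join cA16_19 h20 rfl
  have h18 : cntR (fun k => TA16 (Tp k)) 73728 (4096 + 118736) = 43 := cnt_join cA16_18 h19 rfl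
  have h17 : cntR (fun k => TA16 (Tp k)) 69632 (4096 + 122832) = 43 := cnt_join cA16_17 h18 rfl
  have h16 : cntR (fun k => TA16 (Tp k)) 65536 (4096 + 126928) = 43 := cnt_join cA16_16 h17 rfl
  have h15 : cntR (fun k => TA16 (Tp k)) 61440 (4096 + 131024) = 99 := cnt_join cA16_15 h16 rfl
  have h14 : cntR (fun k => TA16 (Tp k)) 57344 (4096 + 135120) = 199 := cnt_join cA16_14 h15 rfl
  have h13 : cntR (fun k => TA16 (Tp k)) 53248 (4096 + 139216) = 300 := cnt_join cA16_13 h14 rfl
  have h12 : cntR (fun k => TA16 (Tp k)) 49152 (4096 + 143312) = 395 := cnt_join cA16_12 h13 rfl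
  have h11 : cntR (fun k => TA16 (Tp k)) 45056 (4096 + 147408) = 492 := cnt_join cA16_11 h12 rfl
  have h10 : cntR (fun k => TA16 (Tp k)) 40960 (4096 + 151504) = 556 := cnt_join cA16_10 h11 rfl
  have h9 : cntR (fun k => TA16 (Tp k)) 36864 (4096 + 155600) = 664 := cnt_join cA16_9 h10 rfl
  have h8 : cntR (fun k => TA16 (Tp k)) 32768 (4096 + 159696) = 764 := cnt_join cA16_8 h9 rfl
  have h7 : cntR (fun k => TA16 (Tp k)) 28672 (4096 + 163792) = 852 := cnt_join cA16_7 h8 rfl
  have h6 : cntR (fun k => TA16 (Tp k)) 24576 (4096 + 167888) = 952 := cnt_join cA16_6 h7 rfl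
  have h5 : cntR (fun k => TA16 (Tp k)) 20480 (4096 + 171984) = 1063 := cnt_join cA16_5 h6 rfl
  have h4 : cntR (fun k => TA16 (Tp k)) 16384 (4096 + 176080) = 1336 := cnt_join cA16_4 h5 rfl
  have h3 : cntR (fun k => TA16 (Tp k)) 12288 (4096 + 180176) = 1924 := cnt_join cA16_3 h4 rfl
  have h2 : cntR (fun k => TA16 (Tp k)) 8192 (4096 + 184272) = 2655 := cnt_join cA16_2 h3 rfl
  have h1 : cntR (fun k => TA16 (Tp k)) 4096 (4096 + 188368) = 3252 := cnt_join cA16_1 h2 rfl
  have h0 : cntR (fun k => TA16 (Tp k)) 0 (4096 + 192464) = 4600 := cnt_join cA16_0 h1 rfl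
  exact h0

/-- The test of the inner product -8. -/
def TA8 (P : ℕ) : Bool := tEq [(0, 4), (23, 4)] [] 0 120 P

theorem cA8_0 : cntR (fun k => TA8 (Tp k)) 0 4096 = 2466 := by decide +kernel
theorem cA8_1 : cntR (fun k => TA8 (Tp k)) 4096 4096 = 2902 := by decide +kernel
theorem cA8_2 : cntR (fun k => TA8 (Tp k)) 8192 4096 = 2634 := by decide +kernel
theorem cA8_3 : cntR (fun k => TA8 (Tp k)) 12288 4096 = 2920 := by decide +kernel
theorem cA8_4 : cntR (fun k => TA8 (Tp k)) 16384 4096 = 2458 := by decide +kernel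
theorem cA8_5 : cntR (fun k => TA8 (Tp k)) 20480 4096 = 1937 := by decide +kernel
theorem cA8_6 : cntR (fun k => TA8 (Tp k)) 24576 4096 = 1948 := by decide +kernel
theorem cA8_7 : cntR (fun k => TA8 (Tp k)) 28672 4096 = 1960 := by decide +kernel
theorem cA8_8 : cntR (fun k => TA8 (Tp k)) 32768 4096 = 1948 := by decide +kernel
theorem cA8_9 : cntR (fun k => TA8 (Tp k)) 36864 4096 = 1940 := by decide +kernel
theorem cA8_10 : cntR (fun k => TA8 (Tp k)) 40960 4096 = 1984 := by decide +kernel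
theorem cA8_11 : cntR (fun k => TA8 (Tp k)) 45056 4096 = 1953 := by decide +kernel
theorem cA8_12 : cntR (fun k => TA8 (Tp k)) 49152 4096 = 1951 := by decide +kernel
theorem cA8_13 : cntR (fun k => TA8 (Tp k)) 53248 4096 = 1947 := by decide +kernel
theorem cA8_14 : cntR (fun k => TA8 (Tp k)) 57344 4096 = 1950 := by decide +kernel
theorem cA8_15 : cntR (fun k => TA8 (Tp k)) 61440 4096 = 1930 := by decide +kernel
theorem cA8_16 : cntR (fun k => TA8 (Tp k)) 65536 4096 = 620 := by decide +kernel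
theorem cA8_17 : cntR (fun k => TA8 (Tp k)) 69632 4096 = 727 := by decide +kernel
theorem cA8_18 : cntR (fun k => TA8 (Tp k)) 73728 4096 = 601 := by decide +kernel
theorem cA8_19 : cntR (fun k => TA8 (Tp k)) 77824 4096 = 720 := by decide +kernel
theorem cA8_20 : cntR (fun k => TA8 (Tp k)) 81920 4096 = 642 := by decide +kernel
theorem cA8_21 : cntR (fun k => TA8 (Tp k)) 86016 4096 = 729 := by decide +kernel
theorem cA8_22 : cntR (fun k => TA8 (Tp k)) 90112 4096 = 773 := by decide +kernel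
theorem cA8_23 : cntR (fun k => TA8 (Tp k)) 94208 4096 = 808 := by decide +kernel
theorem cA8_24 : cntR (fun k => TA8 (Tp k)) 98304 4096 = 816 := by decide +kernel
theorem cA8_25 : cntR (fun k => TA8 (Tp k)) 102400 4096 = 773 := by decide +kernel
theorem cA8_26 : cntR (fun k => TA8 (Tp k)) 106496 4096 = 729 := by decide +kernel
theorem cA8_27 : cntR (fun k => TA8 (Tp k)) 110592 4096 = 634 := by decide +kernel
theorem cA8_28 : cntR (fun k => TA8 (Tp k)) 114688 4096 = 724 := by decide +kernel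
theorem cA8_29 : cntR (fun k => TA8 (Tp k)) 118784 4096 = 604 := by decide +kernel
theorem cA8_30 : cntR (fun k => TA8 (Tp k)) 122880 4096 = 727 := by decide +kernel
theorem cA8_31 : cntR (fun k => TA8 (Tp k)) 126976 4096 = 618 := by decide +kernel
theorem cA8_32 : cntR (fun k => TA8 (Tp k)) 131072 4096 = 63 := by decide +kernel
theorem cA8_33 : cntR (fun k => TA8 (Tp k)) 135168 4096 = 101 := by decide +kernel
theorem cA8_34 : cntR (fun k => TA8 (Tp k)) 139264 4096 = 99 := by decide +kernel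
theorem cA8_35 : cntR (fun k => TA8 (Tp k)) 143360 4096 = 96 := by decide +kernel
theorem cA8_36 : cntR (fun k => TA8 (Tp k)) 147456 4096 = 97 := by decide +kernel
theorem cA8_37 : cntR (fun k => TA8 (Tp k)) 151552 4096 = 63 := by decide +kernel
theorem cA8_38 : cntR (fun k => TA8 (Tp k)) 155648 4096 = 109 := by decide +kernel
theorem cA8_39 : cntR (fun k => TA8 (Tp k)) 159744 4096 = 99 := by decide +kernel
theorem cA8_40 : cntR (fun k => TA8 (Tp k)) 163840 4096 = 89 := by decide +kernel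
theorem cA8_41 : cntR (fun k => TA8 (Tp k)) 167936 4096 = 101 := by decide +kernel
theorem cA8_42 : cntR (fun k => TA8 (Tp k)) 172032 4096 = 111 := by decide +kernel
theorem cA8_43 : cntR (fun k => TA8 (Tp k)) 176128 4096 = 3 := by decide +kernel
theorem cA8_44 : cntR (fun k => TA8 (Tp k)) 180224 4096 = 0 := by decide +kernel
theorem cA8_45 : cntR (fun k => TA8 (Tp k)) 184320 4096 = 0 := by decide +kernel
theorem cA8_46 : cntR (fun k => TA8 (Tp k)) 188416 4096 = 0 := by decide +kernel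
theorem cA8_47 : cntR (fun k => TA8 (Tp k)) 192512 4048 = 0 := by decide +kernel

theorem cntA8 : cntR (fun k => TA8 (Tp k)) 0 196560 = 47104 := by
  have h47 : cntR (fun k => TA8 (Tp k)) 192512 4048 = 0 := cA8_47
  have h46 : cntR (fun k => TA8 (Tp k)) 188416 (4096 + 4048) = 0 := cnt_join cA8_46 h47 rfl
  have h45 : cntR (fun k => TA8 (Tp k)) 184320 (4096 + 8144) = 0 := cnt_join cA8_45 h46 rfl
  have h44 : cntR (fun k => TA8 (Tp k)) 180224 (4096 + 12240) = 0 := cnt_join cA8_44 h45 rfl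
  have h43 : cntR (fun k => TA8 (Tp k)) 176128 (4096 + 16336) = 3 := cnt_join cA8_43 h44 rfl
  have h42 : cntR (fun k => TA8 (Tp k)) 172032 (4096 + 20432) = 114 := cnt_join cA8_42 h43 rfl
  have h41 : cntR (fun k => TA8 (Tp k)) 167936 (4096 + 24528) = 215 := cnt_join cA8_41 h42 rfl
  have h40 : cntR (fun k => TA8 (Tp k)) 163840 (4096 + 28624) = 304 := cnt_join cA8_40 h41 rfl
  have h39 : cntR (fun k => TA8 (Tp k)) 159744 (4096 + 32720) = 403 := cnt_join cA8_39 h40 rfl
  have h38 : cntR (fun k => TA8 (Tp k)) 155648 (4096 + 36816) = 512 := cnt_join cA8_38 h39 rfl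
  have h37 : cntR (fun k => TA8 (Tp k)) 151552 (4096 + 40912) = 575 := cnt_join cA8_37 h38 rfl
  have h36 : cntR (fun k => TA8 (Tp k)) 147456 (4096 + 45008) = 672 := cnt_join cA8_36 h37 rfl
  have h35 : cntR (fun k => TA8 (Tp k)) 143360 (4096 + 49104) = 768 := cnt_join cA8_35 h36 rfl
  have h34 : cntR (fun k => TA8 (Tp k)) 139264 (4096 + 53200) = 867 := cnt_join cA8_34 h35 rfl
  have h33 : cntR (fun k => TA8 (Tp k)) 135168 (4096 + 57296) = 968 := cnt_join cA8_33 h34 rfl
  have h32 : cntR (fun k => TA8 (Tp k)) 131072 (4096 + 61392) = 1031 := cnt_join cA8_32 h33 rfl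
  have h31 : cntR (fun k => TA8 (Tp k)) 126976 (4096 + 65488) = 1649 := cnt_join cA8_31 h32 rfl
  have h30 : cntR (fun k => TA8 (Tp k)) 122880 (4096 + 69584) = 2376 := cnt_join cA8_30 h31 rfl
  have h29 : cntR (fun k => TA8 (Tp k)) 118784 (4096 + 73680) = 2980 := cnt_join cA8_29 h30 rfl
  have h28 : cntR (fun k => TA8 (Tp k)) 114688 (4096 + 77776) = 3704 := cnt_join cA8_28 h29 rfl
  have h27 : cntR (fun k => TA8 (Tp k)) 110592 (4096 + 81872) = 4338 := cnt_join cA8_27 h28 rfl
  have h26 : cntR (fun k => TA8 (Tp k)) 106496 (4096 + 85968) = 5067 := cnt_join cA8_26 h27 rfl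
  have h25 : cntR (fun k => TA8 (Tp k)) 102400 (4096 + 90064) = 5840 := cnt_join cA8_25 h26 rfl
  have h24 : cntR (fun k => TA8 (Tp k)) 98304 (4096 + 94160) = 6656 := cnt_join cA8_24 h25 rfl
  have h23 : cntR (fun k => TA8 (Tp k)) 94208 (4096 + 98256) = 7464 := cnt_join cA8_23 h24 rfl
  have h22 : cntR (fun k => TA8 (Tp k)) 90112 (4096 + 102352) = 8237 := cnt_join cA8_22 h23 rfl
  have h21 : cntR (fun k => TA8 (Tp k)) 86016 (4096 + 106448) = 8966 := cnt_join cA8_21 h22 rfl
  have h20 : cntR (fun k => TA8 (Tp k)) 81920 (4096 + 110544) = 9608 := cnt_join cA8_20 h21 rfl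
  have h19 : cntR (fun k => TA8 (Tp k)) 77824 (4096 + 114640) = 10328 := cnt_join cA8_19 h20 rfl
  have h18 : cntR (fun k => TA8 (Tp k)) 73728 (4096 + 118736) = 10929 := cnt_join cA8_18 h19 rfl
  have h17 : cntR (fun k => TA8 (Tp k)) 69632 (4096 + 122832) = 11656 := cnt_join cA8_17 h18 rfl
  have h16 : cntR (fun k => TA8 (Tp k)) 65536 (4096 + 126928) = 12276 := cnt_join cA8_16 h17 rfl
  have h15 : cntR (fun k => TA8 (Tp k)) 61440 (4096 + 131024) = 14206 := cnt_join cA8_15 h16 rfl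
  have h14 : cntR (fun k => TA8 (Tp k)) 57344 (4096 + 135120) = 16156 := cnt_join cA8_14 h15 rfl
  have h13 : cntR (fun k => TA8 (Tp k)) 53248 (4096 + 139216) = 18103 := cnt_join cA8_13 h14 rfl
  have h12 : cntR (fun k => TA8 (Tp k)) 49152 (4096 + 143312) = 20054 := cnt_join cA8_12 h13 rfl
  have h11 : cntR (fun k => TA8 (Tp k)) 45056 (4096 + 147408) = 22007 := cnt_join cA8_11 h12 rfl
  have h10 : cntR (fun k => TA8 (Tp k)) 40960 (4096 + 151504) = 23991 := cnt_join cA8_10 h11 rfl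
  have h9 : cntR (fun k => TA8 (Tp k)) 36864 (4096 + 155600) = 25931 := cnt_join cA8_9 h10 rfl
  have h8 : cntR (fun k => TA8 (Tp k)) 32768 (4096 + 159696) = 27879 := cnt_join cA8_8 h9 rfl
  have h7 : cntR (fun k => TA8 (Tp k)) 28672 (4096 + 163792) = 29839 := cnt_join cA8_7 h8 rfl
  have h6 : cntR (fun k => TA8 (Tp k)) 24576 (4096 + 167888) = 31787 := cnt_join cA8_6 h7 rfl
  have h5 : cntR (fun k => TA8 (Tp k)) 20480 (4096 + 171984) = 33724 := cnt_join cA8_5 h6 rfl
  have h4 : cntR (fun k => TA8 (Tp k)) 16384 (4096 + 176080) = 36182 := cnt_join cA8_4 h5 rfl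
  have h3 : cntR (fun k => TA8 (Tp k)) 12288 (4096 + 180176) = 39102 := cnt_join cA8_3 h4 rfl
  have h2 : cntR (fun k => TA8 (Tp k)) 8192 (4096 + 184272) = 41736 := cnt_join cA8_2 h3 rfl
  have h1 : cntR (fun k => TA8 (Tp k)) 4096 (4096 + 188368) = 44638 := cnt_join cA8_1 h2 rfl
  have h0 : cntR (fun k => TA8 (Tp k)) 0 (4096 + 192464) = 47104 := cnt_join cA8_0 h1 rfl
  exact h0

/-- The test of the inner product 0. -/
def TA0 (P : ℕ) : Bool := tEq [(0, 4), (23, 4)] [] 0 128 P

theorem cA0_0 : cntR (fun k => TA0 (Tp k)) 0 4096 = 281 := by decide +kernel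
theorem cA0_1 : cntR (fun k => TA0 (Tp k)) 4096 4096 = 597 := by decide +kernel
theorem cA0_2 : cntR (fun k => TA0 (Tp k)) 8192 4096 = 731 := by decide +kernel
theorem cA0_3 : cntR (fun k => TA0 (Tp k)) 12288 4096 = 588 := by decide +kernel
theorem cA0_4 : cntR (fun k => TA0 (Tp k)) 16384 4096 = 1360 := by decide +kernel
theorem cA0_5 : cntR (fun k => TA0 (Tp k)) 20480 4096 = 1937 := by decide +kernel
theorem cA0_6 : cntR (fun k => TA0 (Tp k)) 24576 4096 = 1948 := by decide +kernel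
theorem cA0_7 : cntR (fun k => TA0 (Tp k)) 28672 4096 = 1960 := by decide +kernel
theorem cA0_8 : cntR (fun k => TA0 (Tp k)) 32768 4096 = 1948 := by decide +kernel
theorem cA0_9 : cntR (fun k => TA0 (Tp k)) 36864 4096 = 1940 := by decide +kernel
theorem cA0_10 : cntR (fun k => TA0 (Tp k)) 40960 4096 = 1984 := by decide +kernel
theorem cA0_11 : cntR (fun k => TA0 (Tp k)) 45056 4096 = 1949 := by decide +kernel
theorem cA0_12 : cntR (fun k => TA0 (Tp k)) 49152 4096 = 1955 := by decide +kernel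
theorem cA0_13 : cntR (fun k => TA0 (Tp k)) 53248 4096 = 1947 := by decide +kernel
theorem cA0_14 : cntR (fun k => TA0 (Tp k)) 57344 4096 = 1946 := by decide +kernel
theorem cA0_15 : cntR (fun k => TA0 (Tp k)) 61440 4096 = 2042 := by decide +kernel
theorem cA0_16 : cntR (fun k => TA0 (Tp k)) 65536 4096 = 2856 := by decide +kernel
theorem cA0_17 : cntR (fun k => TA0 (Tp k)) 69632 4096 = 2642 := by decide +kernel
theorem cA0_18 : cntR (fun k => TA0 (Tp k)) 73728 4096 = 2892 := by decide +kernel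
theorem cA0_19 : cntR (fun k => TA0 (Tp k)) 77824 4096 = 2656 := by decide +kernel
theorem cA0_20 : cntR (fun k => TA0 (Tp k)) 81920 4096 = 2810 := by decide +kernel
theorem cA0_21 : cntR (fun k => TA0 (Tp k)) 86016 4096 = 2636 := by decide +kernel
theorem cA0_22 : cntR (fun k => TA0 (Tp k)) 90112 4096 = 2548 := by decide +kernel
theorem cA0_23 : cntR (fun k => TA0 (Tp k)) 94208 4096 = 2438 := by decide +kernel
theorem cA0_24 : cntR (fun k => TA0 (Tp k)) 98304 4096 = 2438 := by decide +kernel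
theorem cA0_25 : cntR (fun k => TA0 (Tp k)) 102400 4096 = 2548 := by decide +kernel
theorem cA0_26 : cntR (fun k => TA0 (Tp k)) 106496 4096 = 2636 := by decide +kernel
theorem cA0_27 : cntR (fun k => TA0 (Tp k)) 110592 4096 = 2826 := by decide +kernel
theorem cA0_28 : cntR (fun k => TA0 (Tp k)) 114688 4096 = 2648 := by decide +kernel
theorem cA0_29 : cntR (fun k => TA0 (Tp k)) 118784 4096 = 2886 := by decide +kernel
theorem cA0_30 : cntR (fun k => TA0 (Tp k)) 122880 4096 = 2642 := by decide +kernel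
theorem cA0_31 : cntR (fun k => TA0 (Tp k)) 126976 4096 = 2860 := by decide +kernel
theorem cA0_32 : cntR (fun k => TA0 (Tp k)) 131072 4096 = 2025 := by decide +kernel
theorem cA0_33 : cntR (fun k => TA0 (Tp k)) 135168 4096 = 1945 := by decide +kernel
theorem cA0_34 : cntR (fun k => TA0 (Tp k)) 139264 4096 = 1951 := by decide +kernel
theorem cA0_35 : cntR (fun k => TA0 (Tp k)) 143360 4096 = 1952 := by decide +kernel
theorem cA0_36 : cntR (fun k => TA0 (Tp k)) 147456 4096 = 1949 := by decide +kernel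
theorem cA0_37 : cntR (fun k => TA0 (Tp k)) 151552 4096 = 1987 := by decide +kernel
theorem cA0_38 : cntR (fun k => TA0 (Tp k)) 155648 4096 = 1943 := by decide +kernel
theorem cA0_39 : cntR (fun k => TA0 (Tp k)) 159744 4096 = 1945 := by decide +kernel
theorem cA0_40 : cntR (fun k => TA0 (Tp k)) 163840 4096 = 1961 := by decide +kernel
theorem cA0_41 : cntR (fun k => TA0 (Tp k)) 167936 4096 = 1941 := by decide +kernel
theorem cA0_42 : cntR (fun k => TA0 (Tp k)) 172032 4096 = 1939 := by decide +kernel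
theorem cA0_43 : cntR (fun k => TA0 (Tp k)) 176128 4096 = 1348 := by decide +kernel
theorem cA0_44 : cntR (fun k => TA0 (Tp k)) 180224 4096 = 588 := by decide +kernel
theorem cA0_45 : cntR (fun k => TA0 (Tp k)) 184320 4096 = 736 := by decide +kernel
theorem cA0_46 : cntR (fun k => TA0 (Tp k)) 188416 4096 = 588 := by decide +kernel
theorem cA0_47 : cntR (fun k => TA0 (Tp k)) 192512 4048 = 277 := by decide +kernel

theorem cntA0 : cntR (fun k => TA0 (Tp k)) 0 196560 = 93150 := by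
  have h47 : cntR (fun k => TA0 (Tp k)) 192512 4048 = 277 := cA0_47
  have h46 : cntR (fun k => TA0 (Tp k)) 188416 (4096 + 4048) = 865 := cnt_join cA0_46 h47 rfl
  have h45 : cntR (fun k => TA0 (Tp k)) 184320 (4096 + 8144) = 1601 := cnt_join cA0_45 h46 rfl
  have h44 : cntR (fun k => TA0 (Tp k)) 180224 (4096 + 12240) = 2189 := cnt_join cA0_44 h45 rfl
  have h43 : cntR (fun k => TA0 (Tp k)) 176128 (4096 + 16336) = 3537 := cnt_join cA0_43 h44 rfl
  have h42 : cntR (fun k => TA0 (Tp k)) 172032 (4096 + 20432) = 5476 := cnt_join cA0_42 h43 rfl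
  have h41 : cntR (fun k => TA0 (Tp k)) 167936 (4096 + 24528) = 7417 := cnt_join cA0_41 h42 rfl
  have h40 : cntR (fun k => TA0 (Tp k)) 163840 (4096 + 28624) = 9378 := cnt_join cA0_40 h41 rfl
  have h39 : cntR (fun k => TA0 (Tp k)) 159744 (4096 + 32720) = 11323 := cnt_join cA0_39 h40 rfl
  have h38 : cntR (fun k => TA0 (Tp k)) 155648 (4096 + 36816) = 13266 := cnt_join cA0_38 h39 rfl
  have h37 : cntR (fun k => TA0 (Tp k)) 151552 (4096 + 40912) = 15253 := cnt_join cA0_37 h38 rfl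
  have h36 : cntR (fun k => TA0 (Tp k)) 147456 (4096 + 45008) = 17202 := cnt_join cA0_36 h37 rfl
  have h35 : cntR (fun k => TA0 (Tp k)) 143360 (4096 + 49104) = 19154 := cnt_join cA0_35 h36 rfl
  have h34 : cntR (fun k => TA0 (Tp k)) 139264 (4096 + 53200) = 21105 := cnt_join cA0_34 h35 rfl
  have h33 : cntR (fun k => TA0 (Tp k)) 135168 (4096 + 57296) = 23050 := cnt_join cA0_33 h34 rfl
  have h32 : cntR (fun k => TA0 (Tp k)) 131072 (4096 + 61392) = 25075 := cnt_join cA0_32 h33 rfl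
  have h31 : cntR (fun k => TA0 (Tp k)) 126976 (4096 + 65488) = 27935 := cnt_join cA0_31 h32 rfl
  have h30 : cntR (fun k => TA0 (Tp k)) 122880 (4096 + 69584) = 30577 := cnt_join cA0_30 h31 rfl
  have h29 : cntR (fun k => TA0 (Tp k)) 118784 (4096 + 73680) = 33463 := cnt_join cA0_29 h30 rfl
  have h28 : cntR (fun k => TA0 (Tp k)) 114688 (4096 + 77776) = 36111 := cnt_join cA0_28 h29 rfl
  have h27 : cntR (fun k => TA0 (Tp k)) 110592 (4096 + 81872) = 38937 := cnt_join cA0_27 h28 rfl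
  have h26 : cntR (fun k => TA0 (Tp k)) 106496 (4096 + 85968) = 41573 := cnt_join cA0_26 h27 rfl
  have h25 : cntR (fun k => TA0 (Tp k)) 102400 (4096 + 90064) = 44121 := cnt_join cA0_25 h26 rfl
  have h24 : cntR (fun k => TA0 (Tp k)) 98304 (4096 + 94160) = 46559 := cnt_join cA0_24 h25 rfl
  have h23 : cntR (fun k => TA0 (Tp k)) 94208 (4096 + 98256) = 48997 := cnt_join cA0_23 h24 rfl
  have h22 : cntR (fun k => TA0 (Tp k)) 90112 (4096 + 102352) = 51545 := cnt_join cA0_22 h23 rfl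
  have h21 : cntR (fun k => TA0 (Tp k)) 86016 (4096 + 106448) = 54181 := cnt_join cA0_21 h22 rfl
  have h20 : cntR (fun k => TA0 (Tp k)) 81920 (4096 + 110544) = 56991 := cnt_join cA0_20 h21 rfl
  have h19 : cntR (fun k => TA0 (Tp k)) 77824 (4096 + 114640) = 59647 := cnt_join cA0_19 h20 rfl
  have h18 : cntR (fun k => TA0 (Tp k)) 73728 (4096 + 118736) = 62539 := cnt_join cA0_18 h19 rfl
  have h17 : cntR (fun k => TA0 (Tp k)) 69632 (4096 + 122832) = 65181 := cnt_join cA0_17 h18 rfl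
  have h16 : cntR (fun k => TA0 (Tp k)) 65536 (4096 + 126928) = 68037 := cnt_join cA0_16 h17 rfl
  have h15 : cntR (fun k => TA0 (Tp k)) 61440 (4096 + 131024) = 70079 := cnt_join cA0_15 h16 rfl
  have h14 : cntR (fun k => TA0 (Tp k)) 57344 (4096 + 135120) = 72025 := cnt_join cA0_14 h15 rfl
  have h13 : cntR (fun k => TA0 (Tp k)) 53248 (4096 + 139216) = 73972 := cnt_join cA0_13 h14 rfl
  have h12 : cntR (fun k => TA0 (Tp k)) 49152 (4096 + 143312) = 75927 := cnt_join cA0_12 h13 rfl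
  have h11 : cntR (fun k => TA0 (Tp k)) 45056 (4096 + 147408) = 77876 := cnt_join cA0_11 h12 rfl
  have h10 : cntR (fun k => TA0 (Tp k)) 40960 (4096 + 151504) = 79860 := cnt_join cA0_10 h11 rfl
  have h9 : cntR (fun k => TA0 (Tp k)) 36864 (4096 + 155600) = 81800 := cnt_join cA0_9 h10 rfl
  have h8 : cntR (fun k => TA0 (Tp k)) 32768 (4096 + 159696) = 83748 := cnt_join cA0_8 h9 rfl
  have h7 : cntR (fun k => TA0 (Tp k)) 28672 (4096 + 163792) = 85708 := cnt_join cA0_7 h8 rfl
  have h6 : cntR (fun k => TA0 (Tp k)) 24576 (4096 + 167888) = 87656 := cnt_join cA0_6 h7 rfl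
  have h5 : cntR (fun k => TA0 (Tp k)) 20480 (4096 + 171984) = 89593 := cnt_join cA0_5 h6 rfl
  have h4 : cntR (fun k => TA0 (Tp k)) 16384 (4096 + 176080) = 90953 := cnt_join cA0_4 h5 rfl
  have h3 : cntR (fun k => TA0 (Tp k)) 12288 (4096 + 180176) = 91541 := cnt_join cA0_3 h4 rfl
  have h2 : cntR (fun k => TA0 (Tp k)) 8192 (4096 + 184272) = 92272 := cnt_join cA0_2 h3 rfl
  have h1 : cntR (fun k => TA0 (Tp k)) 4096 (4096 + 188368) = 92869 := cnt_join cA0_1 h2 rfl
  have h0 : cntR (fun k => TA0 (Tp k)) 0 (4096 + 192464) = 93150 := cnt_join cA0_0 h1 rfl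
  exact h0

end Cfsg.Agent.H02.CoS
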