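import Cfsg.Agent.Lib.H02.CoR

/-!
Counting minimal vectors by inner products, a vector of norm 6.
-/

set_option autoImplicit false
set_option Elab.async false
set_option maxRecDepth 100000

namespace Cfsg.Agent.H02.CoT

open Cfsg.Agent.H02.CoK Cfsg.Agent.H02.CoL Cfsg.Agent.H02.CoM Cfsg.Agent.H02.CoR


/-- The test of the inner product 24. -/
def TE24 (P : ℕ) : Bool := tEq [(1, 2), (2, 2), (3, 2), (4, 4), (5, 2), (14, 2), (17, 2), (23, 2)] [(0, 2)] 0 280 P

theorem cE24_0 : cntR (fun k => TE24 (Tp k)) 0 4096 = 0 := by decide +kernel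
theorem cE24_1 : cntR (fun k => TE24 (Tp k)) 4096 4096 = 0 := by decide +kernel
theorem cE24_2 : cntR (fun k => TE24 (Tp k)) 8192 4096 = 1 := by decide +kernel
theorem cE24_3 : cntR (fun k => TE24 (Tp k)) 12288 4096 = 0 := by decide +kernel
theorem cE24_4 : cntR (fun k => TE24 (Tp k)) 16384 4096 = 0 := by decide +kernel
theorem cE24_5 : cntR (fun k => TE24 (Tp k)) 20480 4096 = 2 := by decide +kernel
theorem cE24_6 : cntR (fun k => TE24 (Tp k)) 24576 4096 = 2 := by decide +kernel
theorem cE24_7 : cntR (fun k => TE24 (Tp k)) 28672 4096 = 0 := by decide +kernel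
theorem cE24_8 : cntR (fun k => TE24 (Tp k)) 32768 4096 = 2 := by decide +kernel
theorem cE24_9 : cntR (fun k => TE24 (Tp k)) 36864 4096 = 2 := by decide +kernel
theorem cE24_10 : cntR (fun k => TE24 (Tp k)) 40960 4096 = 0 := by decide +kernel
theorem cE24_11 : cntR (fun k => TE24 (Tp k)) 45056 4096 = 2 := by decide +kernel
theorem cE24_12 : cntR (fun k => TE24 (Tp k)) 49152 4096 = 2 := by decide +kernel
theorem cE24_13 : cntR (fun k => TE24 (Tp k)) 53248 4096 = 2 := by decide +kernel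
theorem cE24_14 : cntR (fun k => TE24 (Tp k)) 57344 4096 = 2 := by decide +kernel
theorem cE24_15 : cntR (fun k => TE24 (Tp k)) 61440 4096 = 0 := by decide +kernel
theorem cE24_16 : cntR (fun k => TE24 (Tp k)) 65536 4096 = 2 := by decide +kernel
theorem cE24_17 : cntR (fun k => TE24 (Tp k)) 69632 4096 = 10 := by decide +kernel
theorem cE24_18 : cntR (fun k => TE24 (Tp k)) 73728 4096 = 3 := by decide +kernel
theorem cE24_19 : cntR (fun k => TE24 (Tp k)) 77824 4096 = 9 := by decide +kernel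
theorem cE24_20 : cntR (fun k => TE24 (Tp k)) 81920 4096 = 4 := by decide +kernel
theorem cE24_21 : cntR (fun k => TE24 (Tp k)) 86016 4096 = 9 := by decide +kernel
theorem cE24_22 : cntR (fun k => TE24 (Tp k)) 90112 4096 = 10 := by decide +kernel
theorem cE24_23 : cntR (fun k => TE24 (Tp k)) 94208 4096 = 17 := by decide +kernel
theorem cE24_24 : cntR (fun k => TE24 (Tp k)) 98304 4096 = 32 := by decide +kernel
theorem cE24_25 : cntR (fun k => TE24 (Tp k)) 102400 4096 = 14 := by decide +kernel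
theorem cE24_26 : cntR (fun k => TE24 (Tp k)) 106496 4096 = 9 := by decide +kernel
theorem cE24_27 : cntR (fun k => TE24 (Tp k)) 110592 4096 = 3 := by decide +kernel
theorem cE24_28 : cntR (fun k => TE24 (Tp k)) 114688 4096 = 10 := by decide +kernel
theorem cE24_29 : cntR (fun k => TE24 (Tp k)) 118784 4096 = 3 := by decide +kernel
theorem cE24_30 : cntR (fun k => TE24 (Tp k)) 122880 4096 = 9 := by decide +kernel
theorem cE24_31 : cntR (fun k => TE24 (Tp k)) 126976 4096 = 3 := by decide +kernel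
theorem cE24_32 : cntR (fun k => TE24 (Tp k)) 131072 4096 = 11 := by decide +kernel
theorem cE24_33 : cntR (fun k => TE24 (Tp k)) 135168 4096 = 22 := by decide +kernel
theorem cE24_34 : cntR (fun k => TE24 (Tp k)) 139264 4096 = 23 := by decide +kernel
theorem cE24_35 : cntR (fun k => TE24 (Tp k)) 143360 4096 = 21 := by decide +kernel
theorem cE24_36 : cntR (fun k => TE24 (Tp k)) 147456 4096 = 21 := by decide +kernel
theorem cE24_37 : cntR (fun k => TE24 (Tp k)) 151552 4096 = 14 := by decide +kernel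
theorem cE24_38 : cntR (fun k => TE24 (Tp k)) 155648 4096 = 22 := by decide +kernel
theorem cE24_39 : cntR (fun k => TE24 (Tp k)) 159744 4096 = 21 := by decide +kernel
theorem cE24_40 : cntR (fun k => TE24 (Tp k)) 163840 4096 = 20 := by decide +kernel
theorem cE24_41 : cntR (fun k => TE24 (Tp k)) 167936 4096 = 21 := by decide +kernel
theorem cE24_42 : cntR (fun k => TE24 (Tp k)) 172032 4096 = 25 := by decide +kernel
theorem cE24_43 : cntR (fun k => TE24 (Tp k)) 176128 4096 = 15 := by decide +kernel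
theorem cE24_44 : cntR (fun k => TE24 (Tp k)) 180224 4096 = 28 := by decide +kernel
theorem cE24_45 : cntR (fun k => TE24 (Tp k)) 184320 4096 = 64 := by decide +kernel
theorem cE24_46 : cntR (fun k => TE24 (Tp k)) 188416 4096 = 30 := by decide +kernel
theorem cE24_47 : cntR (fun k => TE24 (Tp k)) 192512 4048 = 30 := by decide +kernel

theorem cntE24 : cntR (fun k => TE24 (Tp k)) 0 196560 = 552 := by
  have h47 : cntR (fun k => TE24 (Tp k)) 192512 4048 = 30 := cE24_47
  have h46 : cntR (fun k => TE24 (Tp k)) 188416 (4096 + 4048) = 60 := cnt_join cE24_46 h47 rfl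
  have h45 : cntR (fun k => TE24 (Tp k)) 184320 (4096 + 8144) = 124 := cnt_join cE24_45 h46 rfl
  have h44 : cntR (fun k => TE24 (Tp k)) 180224 (4096 + 12240) = 152 := cnt_join cE24_44 h45 rfl
  have h43 : cntR (fun k => TE24 (Tp k)) 176128 (4096 + 16336) = 167 := cnt_join cE24_43 h44 rfl
  have h42 : cntR (fun k => TE24 (Tp k)) 172032 (4096 + 20432) = 192 := cnt_join cE24_42 h43 rfl
  have h41 : cntR (fun k => TE24 (Tp k)) 167936 (4096 + 24528) = 213 := cnt_join cE24_41 h42 rfl
  have h40 : cntR (fun k => TE24 (Tp k)) 163840 (4096 + 28624) = 233 := cnt_join cE24_40 h41 rfl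
  have h39 : cntR (fun k => TE24 (Tp k)) 159744 (4096 + 32720) = 254 := cnt_join cE24_39 h40 rfl
  have h38 : cntR (fun k => TE24 (Tp k)) 155648 (4096 + 36816) = 276 := cnt_join cE24_38 h39 rfl
  have h37 : cntR (fun k => TE24 (Tp k)) 151552 (4096 + 40912) = 290 := cnt_join cE24_37 h38 rfl
  have h36 : cntR (fun k => TE24 (Tp k)) 147456 (4096 + 45008) = 311 := cnt_join cE24_36 h37 rfl
  have h35 : cntR (fun k => TE24 (Tp k)) 143360 (4096 + 49104) = 332 := cnt_join cE24_35 h36 rfl
  have h34 : cntR (fun k => TE24 (Tp k)) 139264 (4096 + 53200) = 355 := cnt_join cE24_34 h35 rfl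
  have h33 : cntR (fun k => TE24 (Tp k)) 135168 (4096 + 57296) = 377 := cnt_join cE24_33 h34 rfl
  have h32 : cntR (fun k => TE24 (Tp k)) 131072 (4096 + 61392) = 388 := cnt_join cE24_32 h33 rfl
  have h31 : cntR (fun k => TE24 (Tp k)) 126976 (4096 + 65488) = 391 := cnt_join cE24_31 h32 rfl
  have h30 : cntR (fun k => TE24 (Tp k)) 122880 (4096 + 69584) = 400 := cnt_join cE24_30 h31 rfl
  have h29 : cntR (fun k => TE24 (Tp k)) 118784 (4096 + 73680) = 403 := cnt_join cE24_29 h30 rfl
  have h28 : cntR (fun k => TE24 (Tp k)) 114688 (4096 + 77776) = 413 := cnt_join cE24_28 h29 rfl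
  have h27 : cntR (fun k => TE24 (Tp k)) 110592 (4096 + 81872) = 416 := cnt_join cE24_27 h28 rfl
  have h26 : cntR (fun k => TE24 (Tp k)) 106496 (4096 + 85968) = 425 := cnt_join cE24_26 h27 rfl
  have h25 : cntR (fun k => TE24 (Tp k)) 102400 (4096 + 90064) = 439 := cnt_join cE24_25 h26 rfl
  have h24 : cntR (fun k => TE24 (Tp k)) 98304 (4096 + 94160) = 471 := cnt_join cE24_24 h25 rfl
  have h23 : cntR (fun k => TE24 (Tp k)) 94208 (4096 + 98256) = 488 := cnt_join cE24_23 h24 rfl
  have h22 : cntR (fun k => TE24 (Tp k)) 90112 (4096 + 102352) = 498 := cnt_join cE24_22 h23 rfl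
  have h21 : cntR (fun k => TE24 (Tp k)) 86016 (4096 + 106448) = 507 := cnt_join cE24_21 h22 rfl
  have h20 : cntR (fun k => TE24 (Tp k)) 81920 (4096 + 110544) = 511 := cnt_join cE24_20 h21 rfl
  have h19 : cntR (fun k => TE24 (Tp k)) 77824 (4096 + 114640) = 520 := cnt_join cE24_19 h20 rfl
  have h18 : cntR (fun k => TE24 (Tp k)) 73728 (4096 + 118736) = 523 := cnt_join cE24_18 h19 rfl
  have h17 : cntR (fun k => TE24 (Tp k)) 69632 (4096 + 122832) = 533 := cnt_join cE24_17 h18 rfl
  have h16 : cntR (fun k => TE24 (Tp k)) 65536 (4096 + 126928) = 535 := cnt_join cE24_16 h17 rfl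
  have h15 : cntR (fun k => TE24 (Tp k)) 61440 (4096 + 131024) = 535 := cnt_join cE24_15 h16 rfl
  have h14 : cntR (fun k => TE24 (Tp k)) 57344 (4096 + 135120) = 537 := cnt_join cE24_14 h15 rfl
  have h13 : cntR (fun k => TE24 (Tp k)) 53248 (4096 + 139216) = 539 := cnt_join cE24_13 h14 rfl
  have h12 : cntR (fun k => TE24 (Tp k)) 49152 (4096 + 143312) = 541 := cnt_join cE24_12 h13 rfl
  have h11 : cntR (fun k => TE24 (Tp k)) 45056 (4096 + 147408) = 543 := cnt_join cE24_11 h12 rfl
  have h10 : cntR (fun k => TE24 (Tp k)) 40960 (4096 + 151504) = 543 := cnt_join cE24_10 h11 rfl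
  have h9 : cntR (fun k => TE24 (Tp k)) 36864 (4096 + 155600) = 545 := cnt_join cE24_9 h10 rfl
  have h8 : cntR (fun k => TE24 (Tp k)) 32768 (4096 + 159696) = 547 := cnt_join cE24_8 h9 rfl
  have h7 : cntR (fun k => TE24 (Tp k)) 28672 (4096 + 163792) = 547 := cnt_join cE24_7 h8 rfl
  have h6 : cntR (fun k => TE24 (Tp k)) 24576 (4096 + 167888) = 549 := cnt_join cE24_6 h7 rfl
  have h5 : cntR (fun k => TE24 (Tp k)) 20480 (4096 + 171984) = 551 := cnt_join cE24_5 h6 rfl
  have h4 : cntR (fun k => TE24 (Tp k)) 16384 (4096 + 176080) = 551 := cnt_join cE24_4 h5 rfl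
  have h3 : cntR (fun k => TE24 (Tp k)) 12288 (4096 + 180176) = 551 := cnt_join cE24_3 h4 rfl
  have h2 : cntR (fun k => TE24 (Tp k)) 8192 (4096 + 184272) = 552 := cnt_join cE24_2 h3 rfl
  have h1 : cntR (fun k => TE24 (Tp k)) 4096 (4096 + 188368) = 552 := cnt_join cE24_1 h2 rfl
  have h0 : cntR (fun k => TE24 (Tp k)) 0 (4096 + 192464) = 552 := cnt_join cE24_0 h1 rfl
  exact h0

/-- The test of the inner product -16. -/
def TE16 (P : ℕ) : Bool := tEq [(1, 2), (2, 2), (3, 2), (4, 4), (5, 2), (14, 2), (17, 2), (23, 2)] [(0, 2)] 0 240 P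

theorem cE16_0 : cntR (fun k => TE16 (Tp k)) 0 4096 = 585 := by decide +kernel
theorem cE16_1 : cntR (fun k => TE16 (Tp k)) 4096 4096 = 487 := by decide +kernel
theorem cE16_2 : cntR (fun k => TE16 (Tp k)) 8192 4096 = 552 := by decide +kernel
theorem cE16_3 : cntR (fun k => TE16 (Tp k)) 12288 4096 = 454 := by decide +kernel
theorem cE16_4 : cntR (fun k => TE16 (Tp k)) 16384 4096 = 359 := by decide +kernel
theorem cE16_5 : cntR (fun k => TE16 (Tp k)) 20480 4096 = 383 := by decide +kernel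
theorem cE16_6 : cntR (fun k => TE16 (Tp k)) 24576 4096 = 358 := by decide +kernel
theorem cE16_7 : cntR (fun k => TE16 (Tp k)) 28672 4096 = 370 := by decide +kernel
theorem cE16_8 : cntR (fun k => TE16 (Tp k)) 32768 4096 = 359 := by decide +kernel
theorem cE16_9 : cntR (fun k => TE16 (Tp k)) 36864 4096 = 353 := by decide +kernel
theorem cE16_10 : cntR (fun k => TE16 (Tp k)) 40960 4096 = 319 := by decide +kernel
theorem cE16_11 : cntR (fun k => TE16 (Tp k)) 45056 4096 = 369 := by decide +kernel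
theorem cE16_12 : cntR (fun k => TE16 (Tp k)) 49152 4096 = 347 := by decide +kernel
theorem cE16_13 : cntR (fun k => TE16 (Tp k)) 53248 4096 = 380 := by decide +kernel
theorem cE16_14 : cntR (fun k => TE16 (Tp k)) 57344 4096 = 370 := by decide +kernel
theorem cE16_15 : cntR (fun k => TE16 (Tp k)) 61440 4096 = 282 := by decide +kernel
theorem cE16_16 : cntR (fun k => TE16 (Tp k)) 65536 4096 = 170 := by decide +kernel
theorem cE16_17 : cntR (fun k => TE16 (Tp k)) 69632 4096 = 222 := by decide +kernel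
theorem cE16_18 : cntR (fun k => TE16 (Tp k)) 73728 4096 = 153 := by decide +kernel
theorem cE16_19 : cntR (fun k => TE16 (Tp k)) 77824 4096 = 232 := by decide +kernel
theorem cE16_20 : cntR (fun k => TE16 (Tp k)) 81920 4096 = 174 := by decide +kernel
theorem cE16_21 : cntR (fun k => TE16 (Tp k)) 86016 4096 = 235 := by decide +kernel
theorem cE16_22 : cntR (fun k => TE16 (Tp k)) 90112 4096 = 275 := by decide +kernel
theorem cE16_23 : cntR (fun k => TE16 (Tp k)) 94208 4096 = 375 := by decide +kernel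
theorem cE16_24 : cntR (fun k => TE16 (Tp k)) 98304 4096 = 238 := by decide +kernel
theorem cE16_25 : cntR (fun k => TE16 (Tp k)) 102400 4096 = 211 := by decide +kernel
theorem cE16_26 : cntR (fun k => TE16 (Tp k)) 106496 4096 = 229 := by decide +kernel
theorem cE16_27 : cntR (fun k => TE16 (Tp k)) 110592 4096 = 186 := by decide +kernel
theorem cE16_28 : cntR (fun k => TE16 (Tp k)) 114688 4096 = 215 := by decide +kernel
theorem cE16_29 : cntR (fun k => TE16 (Tp k)) 118784 4096 = 156 := by decide +kernel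
theorem cE16_30 : cntR (fun k => TE16 (Tp k)) 122880 4096 = 225 := by decide +kernel
theorem cE16_31 : cntR (fun k => TE16 (Tp k)) 126976 4096 = 166 := by decide +kernel
theorem cE16_32 : cntR (fun k => TE16 (Tp k)) 131072 4096 = 93 := by decide +kernel
theorem cE16_33 : cntR (fun k => TE16 (Tp k)) 135168 4096 = 111 := by decide +kernel
theorem cE16_34 : cntR (fun k => TE16 (Tp k)) 139264 4096 = 113 := by decide +kernel
theorem cE16_35 : cntR (fun k => TE16 (Tp k)) 143360 4096 = 111 := by decide +kernel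
theorem cE16_36 : cntR (fun k => TE16 (Tp k)) 147456 4096 = 115 := by decide +kernel
theorem cE16_37 : cntR (fun k => TE16 (Tp k)) 151552 4096 = 90 := by decide +kernel
theorem cE16_38 : cntR (fun k => TE16 (Tp k)) 155648 4096 = 138 := by decide +kernel
theorem cE16_39 : cntR (fun k => TE16 (Tp k)) 159744 4096 = 113 := by decide +kernel
theorem cE16_40 : cntR (fun k => TE16 (Tp k)) 163840 4096 = 115 := by decide +kernel
theorem cE16_41 : cntR (fun k => TE16 (Tp k)) 167936 4096 = 117 := by decide +kernel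
theorem cE16_42 : cntR (fun k => TE16 (Tp k)) 172032 4096 = 116 := by decide +kernel
theorem cE16_43 : cntR (fun k => TE16 (Tp k)) 176128 4096 = 30 := by decide +kernel
theorem cE16_44 : cntR (fun k => TE16 (Tp k)) 180224 4096 = 30 := by decide +kernel
theorem cE16_45 : cntR (fun k => TE16 (Tp k)) 184320 4096 = 57 := by decide +kernel
theorem cE16_46 : cntR (fun k => TE16 (Tp k)) 188416 4096 = 28 := by decide +kernel
theorem cE16_47 : cntR (fun k => TE16 (Tp k)) 192512 4048 = 12 := by decide +kernel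

theorem cntE16 : cntR (fun k => TE16 (Tp k)) 0 196560 = 11178 := by
  have h47 : cntR (fun k => TE16 (Tp k)) 192512 4048 = 12 := cE16_47
  have h46 : cntR (fun k => TE16 (Tp k)) 188416 (4096 + 4048) = 40 := cnt_join cE16_46 h47 rfl
  have h45 : cntR (fun k => TE16 (Tp k)) 184320 (4096 + 8144) = 97 := cnt_join cE16_45 h46 rfl
  have h44 : cntR (fun k => TE16 (Tp k)) 180224 (4096 + 12240) = 127 := cnt_join cE16_44 h45 rfl
  have h43 : cntR (fun k => TE16 (Tp k)) 176128 (4096 + 16336) = 157 := cnt_join cE16_43 h44 rfl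
  have h42 : cntR (fun k => TE16 (Tp k)) 172032 (4096 + 20432) = 273 := cnt_join cE16_42 h43 rfl
  have h41 : cntR (fun k => TE16 (Tp k)) 167936 (4096 + 24528) = 390 := cnt_join cE16_41 h42 rfl
  have h40 : cntR (fun k => TE16 (Tp k)) 163840 (4096 + 28624) = 505 := cnt_join cE16_40 h41 rfl
  have h39 : cntR (fun k => TE16 (Tp k)) 159744 (4096 + 32720) = 618 := cnt_join cE16_39 h40 rfl
  have h38 : cntR (fun k => TE16 (Tp k)) 155648 (4096 + 36816) = 756 := cnt_join cE16_38 h39 rfl
  have h37 : cntR (fun k => TE16 (Tp k)) 151552 (4096 + 40912) = 846 := cnt_join cE16_37 h38 rfl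
  have h36 : cntR (fun k => TE16 (Tp k)) 147456 (4096 + 45008) = 961 := cnt_join cE16_36 h37 rfl
  have h35 : cntR (fun k => TE16 (Tp k)) 143360 (4096 + 49104) = 1072 := cnt_join cE16_35 h36 rfl
  have h34 : cntR (fun k => TE16 (Tp k)) 139264 (4096 + 53200) = 1185 := cnt_join cE16_34 h35 rfl
  have h33 : cntR (fun k => TE16 (Tp k)) 135168 (4096 + 57296) = 1296 := cnt_join cE16_33 h34 rfl
  have h32 : cntR (fun k => TE16 (Tp k)) 131072 (4096 + 61392) = 1389 := cnt_join cE16_32 h33 rfl
  have h31 : cntR (fun k => TE16 (Tp k)) 126976 (4096 + 65488) = 1555 := cnt_join cE16_31 h32 rfl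
  have h30 : cntR (fun k => TE16 (Tp k)) 122880 (4096 + 69584) = 1780 := cnt_join cE16_30 h31 rfl
  have h29 : cntR (fun k => TE16 (Tp k)) 118784 (4096 + 73680) = 1936 := cnt_join cE16_29 h30 rfl
  have h28 : cntR (fun k => TE16 (Tp k)) 114688 (4096 + 77776) = 2151 := cnt_join cE16_28 h29 rfl
  have h27 : cntR (fun k => TE16 (Tp k)) 110592 (4096 + 81872) = 2337 := cnt_join cE16_27 h28 rfl
  have h26 : cntR (fun k => TE16 (Tp k)) 106496 (4096 + 85968) = 2566 := cnt_join cE16_26 h27 rfl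
  have h25 : cntR (fun k => TE16 (Tp k)) 102400 (4096 + 90064) = 2777 := cnt_join cE16_25 h26 rfl
  have h24 : cntR (fun k => TE16 (Tp k)) 98304 (4096 + 94160) = 3015 := cnt_join cE16_24 h25 rfl
  have h23 : cntR (fun k => TE16 (Tp k)) 94208 (4096 + 98256) = 3390 := cnt_join cE16_23 h24 rfl
  have h22 : cntR (fun k => TE16 (Tp k)) 90112 (4096 + 102352) = 3665 := cnt_join cE16_22 h23 rfl
  have h21 : cntR (fun k => TE16 (Tp k)) 86016 (4096 + 106448) = 3900 := cnt_join cE16_21 h22 rfl
  have h20 : cntR (fun k => TE16 (Tp k)) 81920 (4096 + 110544) = 4074 := cnt_join cE16_20 h21 rfl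
  have h19 : cntR (fun k => TE16 (Tp k)) 77824 (4096 + 114640) = 4306 := cnt_join cE16_19 h20 rfl
  have h18 : cntR (fun k => TE16 (Tp k)) 73728 (4096 + 118736) = 4459 := cnt_join cE16_18 h19 rfl
  have h17 : cntR (fun k => TE16 (Tp k)) 69632 (4096 + 122832) = 4681 := cnt_join cE16_17 h18 rfl
  have h16 : cntR (fun k => TE16 (Tp k)) 65536 (4096 + 126928) = 4851 := cnt_join cE16_16 h17 rfl
  have h15 : cntR (fun k => TE16 (Tp k)) 61440 (4096 + 131024) = 5133 := cnt_join cE16_15 h16 rfl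
  have h14 : cntR (fun k => TE16 (Tp k)) 57344 (4096 + 135120) = 5503 := cnt_join cE16_14 h15 rfl
  have h13 : cntR (fun k => TE16 (Tp k)) 53248 (4096 + 139216) = 5883 := cnt_join cE16_13 h14 rfl
  have h12 : cntR (fun k => TE16 (Tp k)) 49152 (4096 + 143312) = 6230 := cnt_join cE16_12 h13 rfl
  have h11 : cntR (fun k => TE16 (Tp k)) 45056 (4096 + 147408) = 6599 := cnt_join cE16_11 h12 rfl
  have h10 : cntR (fun k => TE16 (Tp k)) 40960 (4096 + 151504) = 6918 := cnt_join cE16_10 h11 rfl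
  have h9 : cntR (fun k => TE16 (Tp k)) 36864 (4096 + 155600) = 7271 := cnt_join cE16_9 h10 rfl
  have h8 : cntR (fun k => TE16 (Tp k)) 32768 (4096 + 159696) = 7630 := cnt_join cE16_8 h9 rfl
  have h7 : cntR (fun k => TE16 (Tp k)) 28672 (4096 + 163792) = 8000 := cnt_join cE16_7 h8 rfl
  have h6 : cntR (fun k => TE16 (Tp k)) 24576 (4096 + 167888) = 8358 := cnt_join cE16_6 h7 rfl
  have h5 : cntR (fun k => TE16 (Tp k)) 20480 (4096 + 171984) = 8741 := cnt_join cE16_5 h6 rfl
  have h4 : cntR (fun k => TE16 (Tp k)) 16384 (4096 + 176080) = 9100 := cnt_join cE16_4 h5 rfl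
  have h3 : cntR (fun k => TE16 (Tp k)) 12288 (4096 + 180176) = 9554 := cnt_join cE16_3 h4 rfl
  have h2 : cntR (fun k => TE16 (Tp k)) 8192 (4096 + 184272) = 10106 := cnt_join cE16_2 h3 rfl
  have h1 : cntR (fun k => TE16 (Tp k)) 4096 (4096 + 188368) = 10593 := cnt_join cE16_1 h2 rfl
  have h0 : cntR (fun k => TE16 (Tp k)) 0 (4096 + 192464) = 11178 := cnt_join cE16_0 h1 rfl
  exact h0

end Cfsg.Agent.H02.CoT
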