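import Cfsg.Agent.Lib.H02.CoR

/-!
The orbit of 22 minimal vectors.
-/

set_option autoImplicit false
set_option Elab.async false
set_option maxRecDepth 100000

namespace Cfsg.Agent.H02.CoYb

open Cfsg Cfsg.Agent.H02.CoK Cfsg.Agent.H02.CoM Cfsg.Agent.H02.CoR


/-- Part 0. -/
def B0 : ℕ := 0xc50000e9c6318be317c62f8be317be318c62f00100000109c62f8be2f8c5f17be318c6318c62f000c20000e9c5f17be2f7c5f17c5f17be318c62f000c10000e9c5ef7be318c62f8c5f18c6318c62f000c40000e9be317be2f8c62f7bdef7c6318c62f000c00000e9be2f7be317c5f18bdef8be318c62f00105000109bdf18be318c5f18c62f7c6318c62f00087000079bdef8be2f7c62f7c62f8be318c62f000800000194a1083a1084a108420e8425284a1000086000069425083a1084a1084a10842128424e00082000079421283a5084210842109421284a0e00041000009421093a5084a10841d08421294210000810000a9421083a528421074210842528425000046000009421083a4e8421094210842528425000042000009421083a10942108421083a1294a5000043000009421083a108425284210842529420e00082000019421083a10841ce84210842529420e000840000a9421083a10742108421084a1294a50000800000a9421073a5084a1084250842129421000045000009420e83a5084210842107421284a0e0004000000941d083a1084a1083a10842128424e000000000093a1083a1084a10842128425284a10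

/-- The blocks. -/
def Bk (i : ℕ) : ℕ := B0

/-- An entry. -/
def E (j : ℕ) : ℕ := Nat.land (Nat.shiftRight (Bk (Nat.shiftRight j 7)) (Nat.mul 160 (Nat.land j 127))) 1461501637330902918203684832716283019655932542975

/-- A vector. -/
def O (j : ℕ) : ℕ := Nat.land (E j) 1329227995784915872903807060280344575

/-- The parent. -/
def par (j : ℕ) : ℕ := Nat.land (Nat.shiftRight (E j) 120) 1048575

/-- The generator. -/
def gen (j : ℕ) : ℕ := Nat.land (Nat.shiftRight (E j) 140) 63

/-- The level. -/
def lev (j : ℕ) : ℕ := Nat.shiftRight (E j) 146

/-- The generators. -/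
def Gs : List (List Stp) := [[.mono 968697531846493914309070461010542754 7936709],
  [.mono 970215741404391251045574791881884768 6337856],
  [.mono 981798700259315797376067313554884769 5770785],
  [.mono 980587578886987428875572913031431173 6827971],
  [.mono 975154507790852451206982433149226528 0],
  [.mono 968819978386788937173968970972248613 3717985],
  [.mono 975367909185160478702325496684250272 4819776],
  [.mono 101885596425635379717433176217620106 14817140, .xi, .mono 859628952766931148509659192921174113 9066346, .xi, .mono 186437675819912758519945180489014862 9099948]]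

/-- The fixed vectors. -/
def Us : List ℕ := [769129908928726144935740255100291662, 602976414252624590687130068015593938, 686053154163035132099153512156906000, 602976409455611660822764372561054286]

/-- The root. -/
def b0 : ℕ := 766533757946207400095380388977330704

/-- The size. -/
def N : ℕ := 22

theorem okG : okGs Gs Us = true := by decide +kernel

theorem O_lt (j : ℕ) : O j < 2 ^ 120 := Nat.lt_of_le_of_lt Nat.and_le_right (by norm_num)

theorem c0 : allB (tchk2 Gs O par gen lev b0 N) 0 22 = true := by decide +kernel

theorem all_ok : ∀ j < N, tchk2 Gs O par gen lev b0 N j = true := by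
  intro i hi
  have hi' : i < 22 := hi
  have h : ∀ q < 1, allB (tchk2 Gs O par gen lev b0 N) (1024 * q) (min 1024 (22 - 1024 * q)) = true := by
    intro q hq
    interval_cases q
    exacts [c0]
  have hq : i / 1024 < 1 := by omega
  refine allB_spec (h _ hq) i (Nat.mul_div_le i 1024) ?_
  omega

theorem main (b : Cfsg.leechLattice) (hb : Cfsg.Agent.H02.CoK.dec b0 = b.1) (hbn : Cfsg.sqNorm b.1 ≤ 64)
    (S : Set Cfsg.leechLattice) (hS : S.ncard = N) (hinv : ∀ g : Cfsg.Co0, Fix Us g → g • b ∈ S) :
    Tab S O N ∧ ∀ x ∈ S, ∃ g : Cfsg.Co0, Fix Us g ∧ g • b = x :=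
  tree_main okG (by decide) (of_tchk2 all_ok).1 (of_tchk2 all_ok).2 O_lt b hb hbn S hS hinv

end Cfsg.Agent.H02.CoYb
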