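import Cfsg.Agent.Lib.H02.CoZe

/-!
The census of 2025 minimal vectors.
-/

set_option autoImplicit false
set_option Elab.async false
set_option maxRecDepth 100000

namespace Cfsg.Agent.H02.CoZf

open Cfsg.Agent.H02.CoK Cfsg.Agent.H02.CoL Cfsg.Agent.H02.CoM Cfsg.Agent.H02.CoR

open Cfsg.Agent.H02.CoZe

theorem c24 : cntR (fun k => TZ (Tp k)) 98304 4096 = 25 := by decide +kernel
theorem c25 : cntR (fun k => TZ (Tp k)) 102400 4096 = 40 := by decide +kernel
theorem c26 : cntR (fun k => TZ (Tp k)) 106496 4096 = 33 := by decide +kernel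
theorem c27 : cntR (fun k => TZ (Tp k)) 110592 4096 = 32 := by decide +kernel
theorem c28 : cntR (fun k => TZ (Tp k)) 114688 4096 = 52 := by decide +kernel
theorem c29 : cntR (fun k => TZ (Tp k)) 118784 4096 = 28 := by decide +kernel
theorem c30 : cntR (fun k => TZ (Tp k)) 122880 4096 = 25 := by decide +kernel
theorem c31 : cntR (fun k => TZ (Tp k)) 126976 4096 = 90 := by decide +kernel
theorem c32 : cntR (fun k => TZ (Tp k)) 131072 4096 = 5 := by decide +kernel
theorem c33 : cntR (fun k => TZ (Tp k)) 135168 4096 = 18 := by decide +kernel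
theorem c34 : cntR (fun k => TZ (Tp k)) 139264 4096 = 60 := by decide +kernel
theorem c35 : cntR (fun k => TZ (Tp k)) 143360 4096 = 21 := by decide +kernel
theorem c36 : cntR (fun k => TZ (Tp k)) 147456 4096 = 86 := by decide +kernel
theorem c37 : cntR (fun k => TZ (Tp k)) 151552 4096 = 151 := by decide +kernel
theorem c38 : cntR (fun k => TZ (Tp k)) 155648 4096 = 26 := by decide +kernel
theorem c39 : cntR (fun k => TZ (Tp k)) 159744 4096 = 87 := by decide +kernel
theorem c40 : cntR (fun k => TZ (Tp k)) 163840 4096 = 139 := by decide +kernel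
theorem c41 : cntR (fun k => TZ (Tp k)) 167936 4096 = 156 := by decide +kernel
theorem c42 : cntR (fun k => TZ (Tp k)) 172032 4096 = 294 := by decide +kernel
theorem c43 : cntR (fun k => TZ (Tp k)) 176128 4096 = 206 := by decide +kernel
theorem c44 : cntR (fun k => TZ (Tp k)) 180224 4096 = 38 := by decide +kernel
theorem c45 : cntR (fun k => TZ (Tp k)) 184320 4096 = 130 := by decide +kernel
theorem c46 : cntR (fun k => TZ (Tp k)) 188416 4096 = 183 := by decide +kernel
theorem c47 : cntR (fun k => TZ (Tp k)) 192512 4048 = 100 := by decide +kernel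

theorem cntZ : cntR (fun k => TZ (Tp k)) 0 196560 = 2025 := by
  have h47 : cntR (fun k => TZ (Tp k)) 192512 4048 = 100 := c47
  have h46 : cntR (fun k => TZ (Tp k)) 188416 (4096 + 4048) = 283 := cnt_join c46 h47 rfl
  have h45 : cntR (fun k => TZ (Tp k)) 184320 (4096 + 8144) = 413 := cnt_join c45 h46 rfl
  have h44 : cntR (fun k => TZ (Tp k)) 180224 (4096 + 12240) = 451 := cnt_join c44 h45 rfl
  have h43 : cntR (fun k => TZ (Tp k)) 176128 (4096 + 16336) = 657 := cnt_join c43 h44 rfl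
  have h42 : cntR (fun k => TZ (Tp k)) 172032 (4096 + 20432) = 951 := cnt_join c42 h43 rfl
  have h41 : cntR (fun k => TZ (Tp k)) 167936 (4096 + 24528) = 1107 := cnt_join c41 h42 rfl
  have h40 : cntR (fun k => TZ (Tp k)) 163840 (4096 + 28624) = 1246 := cnt_join c40 h41 rfl
  have h39 : cntR (fun k => TZ (Tp k)) 159744 (4096 + 32720) = 1333 := cnt_join c39 h40 rfl
  have h38 : cntR (fun k => TZ (Tp k)) 155648 (4096 + 36816) = 1359 := cnt_join c38 h39 rfl
  have h37 : cntR (fun k => TZ (Tp k)) 151552 (4096 + 40912) = 1510 := cnt_join c37 h38 rfl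
  have h36 : cntR (fun k => TZ (Tp k)) 147456 (4096 + 45008) = 1596 := cnt_join c36 h37 rfl
  have h35 : cntR (fun k => TZ (Tp k)) 143360 (4096 + 49104) = 1617 := cnt_join c35 h36 rfl
  have h34 : cntR (fun k => TZ (Tp k)) 139264 (4096 + 53200) = 1677 := cnt_join c34 h35 rfl
  have h33 : cntR (fun k => TZ (Tp k)) 135168 (4096 + 57296) = 1695 := cnt_join c33 h34 rfl
  have h32 : cntR (fun k => TZ (Tp k)) 131072 (4096 + 61392) = 1700 := cnt_join c32 h33 rfl
  have h31 : cntR (fun k => TZ (Tp k)) 126976 (4096 + 65488) = 1790 := cnt_join c31 h32 rfl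
  have h30 : cntR (fun k => TZ (Tp k)) 122880 (4096 + 69584) = 1815 := cnt_join c30 h31 rfl
  have h29 : cntR (fun k => TZ (Tp k)) 118784 (4096 + 73680) = 1843 := cnt_join c29 h30 rfl
  have h28 : cntR (fun k => TZ (Tp k)) 114688 (4096 + 77776) = 1895 := cnt_join c28 h29 rfl
  have h27 : cntR (fun k => TZ (Tp k)) 110592 (4096 + 81872) = 1927 := cnt_join c27 h28 rfl
  have h26 : cntR (fun k => TZ (Tp k)) 106496 (4096 + 85968) = 1960 := cnt_join c26 h27 rfl
  have h25 : cntR (fun k => TZ (Tp k)) 102400 (4096 + 90064) = 2000 := cnt_join c25 h26 rfl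
  have h24 : cntR (fun k => TZ (Tp k)) 98304 (4096 + 94160) = 2025 := cnt_join c24 h25 rfl
  have h23 : cntR (fun k => TZ (Tp k)) 94208 (4096 + 98256) = 2025 := cnt_join CoZe.c23 h24 rfl
  have h22 : cntR (fun k => TZ (Tp k)) 90112 (4096 + 102352) = 2025 := cnt_join CoZe.c22 h23 rfl
  have h21 : cntR (fun k => TZ (Tp k)) 86016 (4096 + 106448) = 2025 := cnt_join CoZe.c21 h22 rfl
  have h20 : cntR (fun k => TZ (Tp k)) 81920 (4096 + 110544) = 2025 := cnt_join CoZe.c20 h21 rfl
  have h19 : cntR (fun k => TZ (Tp k)) 77824 (4096 + 114640) = 2025 := cnt_join CoZe.c19 h20 rfl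
  have h18 : cntR (fun k => TZ (Tp k)) 73728 (4096 + 118736) = 2025 := cnt_join CoZe.c18 h19 rfl
  have h17 : cntR (fun k => TZ (Tp k)) 69632 (4096 + 122832) = 2025 := cnt_join CoZe.c17 h18 rfl
  have h16 : cntR (fun k => TZ (Tp k)) 65536 (4096 + 126928) = 2025 := cnt_join CoZe.c16 h17 rfl
  have h15 : cntR (fun k => TZ (Tp k)) 61440 (4096 + 131024) = 2025 := cnt_join CoZe.c15 h16 rfl
  have h14 : cntR (fun k => TZ (Tp k)) 57344 (4096 + 135120) = 2025 := cnt_join CoZe.c14 h15 rfl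
  have h13 : cntR (fun k => TZ (Tp k)) 53248 (4096 + 139216) = 2025 := cnt_join CoZe.c13 h14 rfl
  have h12 : cntR (fun k => TZ (Tp k)) 49152 (4096 + 143312) = 2025 := cnt_join CoZe.c12 h13 rfl
  have h11 : cntR (fun k => TZ (Tp k)) 45056 (4096 + 147408) = 2025 := cnt_join CoZe.c11 h12 rfl
  have h10 : cntR (fun k => TZ (Tp k)) 40960 (4096 + 151504) = 2025 := cnt_join CoZe.c10 h11 rfl
  have h9 : cntR (fun k => TZ (Tp k)) 36864 (4096 + 155600) = 2025 := cnt_join CoZe.c9 h10 rfl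
  have h8 : cntR (fun k => TZ (Tp k)) 32768 (4096 + 159696) = 2025 := cnt_join CoZe.c8 h9 rfl
  have h7 : cntR (fun k => TZ (Tp k)) 28672 (4096 + 163792) = 2025 := cnt_join CoZe.c7 h8 rfl
  have h6 : cntR (fun k => TZ (Tp k)) 24576 (4096 + 167888) = 2025 := cnt_join CoZe.c6 h7 rfl
  have h5 : cntR (fun k => TZ (Tp k)) 20480 (4096 + 171984) = 2025 := cnt_join CoZe.c5 h6 rfl
  have h4 : cntR (fun k => TZ (Tp k)) 16384 (4096 + 176080) = 2025 := cnt_join CoZe.c4 h5 rfl
  have h3 : cntR (fun k => TZ (Tp k)) 12288 (4096 + 180176) = 2025 := cnt_join CoZe.c3 h4 rfl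
  have h2 : cntR (fun k => TZ (Tp k)) 8192 (4096 + 184272) = 2025 := cnt_join CoZe.c2 h3 rfl
  have h1 : cntR (fun k => TZ (Tp k)) 4096 (4096 + 188368) = 2025 := cnt_join CoZe.c1 h2 rfl
  have h0 : cntR (fun k => TZ (Tp k)) 0 (4096 + 192464) = 2025 := cnt_join CoZe.c0 h1 rfl
  exact h0

end Cfsg.Agent.H02.CoZf
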