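import Cfsg.Agent.Lib.H02.J3E

/-!
Kernel checks of the tables.
-/

set_option autoImplicit false
set_option maxRecDepth 100000

namespace Cfsg.Agent.H02.J3F

open Cfsg.Agent.H02.J3A Cfsg.Agent.H02.J3B Cfsg.Agent.H02.J3D Cfsg.Agent.H02.J3E

theorem cM0 : allR testM 0 128 = true := by decide +kernel
theorem cM1 : allR testM 128 128 = true := by decide +kernel
theorem cM2 : allR testM 256 128 = true := by decide +kernel
theorem cM3 : allR testM 384 128 = true := by decide +kernel
theorem cM4 : allR testM 512 128 = true := by decide +kernel
theorem cM5 : allR testM 640 128 = true := by decide +kernel
theorem cM6 : allR testM 768 128 = true := by decide +kernel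
theorem cM7 : allR testM 896 128 = true := by decide +kernel
theorem cM8 : allR testM 1024 128 = true := by decide +kernel
theorem cM9 : allR testM 1152 128 = true := by decide +kernel
theorem cM10 : allR testM 1280 128 = true := by decide +kernel
theorem cM11 : allR testM 1408 128 = true := by decide +kernel
theorem cM12 : allR testM 1536 128 = true := by decide +kernel
theorem cM13 : allR testM 1664 128 = true := by decide +kernel
theorem cM14 : allR testM 1792 128 = true := by decide +kernel
theorem cM15 : allR testM 1920 128 = true := by decide +kernel
theorem cM16 : allR testM 2048 128 = true := by decide +kernel
theorem cM17 : allR testM 2176 128 = true := by decide +kernel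
theorem cM18 : allR testM 2304 128 = true := by decide +kernel
theorem cM19 : allR testM 2432 128 = true := by decide +kernel
theorem cM20 : allR testM 2560 128 = true := by decide +kernel
theorem cM21 : allR testM 2688 128 = true := by decide +kernel
theorem cM22 : allR testM 2816 128 = true := by decide +kernel
theorem cM23 : allR testM 2944 128 = true := by decide +kernel
theorem cM24 : allR testM 3072 128 = true := by decide +kernel
theorem cM25 : allR testM 3200 128 = true := by decide +kernel
theorem cM26 : allR testM 3328 128 = true := by decide +kernel
theorem cM27 : allR testM 3456 128 = true := by decide +kernel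
theorem cM28 : allR testM 3584 128 = true := by decide +kernel
theorem cM29 : allR testM 3712 128 = true := by decide +kernel
theorem cM30 : allR testM 3840 128 = true := by decide +kernel
theorem cM31 : allR testM 3968 128 = true := by decide +kernel
theorem cM32 : allR testM 4096 128 = true := by decide +kernel
theorem cM33 : allR testM 4224 128 = true := by decide +kernel
theorem cM34 : allR testM 4352 128 = true := by decide +kernel
theorem cM35 : allR testM 4480 128 = true := by decide +kernel
theorem cM36 : allR testM 4608 128 = true := by decide +kernel
theorem cM37 : allR testM 4736 128 = true := by decide +kernel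
theorem cM38 : allR testM 4864 128 = true := by decide +kernel
theorem cM39 : allR testM 4992 128 = true := by decide +kernel
theorem cM40 : allR testM 5120 128 = true := by decide +kernel
theorem cM41 : allR testM 5248 128 = true := by decide +kernel
theorem cM42 : allR testM 5376 128 = true := by decide +kernel
theorem cM43 : allR testM 5504 128 = true := by decide +kernel
theorem cM44 : allR testM 5632 128 = true := by decide +kernel
theorem cM45 : allR testM 5760 72 = true := by decide +kernel

theorem cM_all {i : ℕ} (hi : i < 5832) : testM i = true := by
  have h : ∀ q < 46, allR testM (128 * q) (min 128 (5832 - 128 * q)) = true := by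
    intro q hq
    interval_cases q
    exacts [cM0, cM1, cM2, cM3, cM4, cM5, cM6, cM7, cM8, cM9, cM10, cM11, cM12, cM13, cM14, cM15, cM16, cM17, cM18, cM19, cM20, cM21, cM22, cM23, cM24, cM25, cM26, cM27, cM28, cM29, cM30, cM31, cM32, cM33, cM34, cM35, cM36, cM37, cM38, cM39, cM40, cM41, cM42, cM43, cM44, cM45]
  have hq : i / 128 < 46 := by omega
  refine allR_spec (h _ hq) i (Nat.mul_div_le i 128) ?_
  omega

theorem cF0 : allR testF 0 128 = true := by decide +kernel
theorem cF1 : allR testF 128 128 = true := by decide +kernel
theorem cF2 : allR testF 256 128 = true := by decide +kernel
theorem cF3 : allR testF 384 128 = true := by decide +kernel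
theorem cF4 : allR testF 512 128 = true := by decide +kernel
theorem cF5 : allR testF 640 128 = true := by decide +kernel
theorem cF6 : allR testF 768 128 = true := by decide +kernel
theorem cF7 : allR testF 896 128 = true := by decide +kernel
theorem cF8 : allR testF 1024 128 = true := by decide +kernel
theorem cF9 : allR testF 1152 128 = true := by decide +kernel
theorem cF10 : allR testF 1280 128 = true := by decide +kernel
theorem cF11 : allR testF 1408 128 = true := by decide +kernel
theorem cF12 : allR testF 1536 128 = true := by decide +kernel
theorem cF13 : allR testF 1664 128 = true := by decide +kernel
theorem cF14 : allR testF 1792 128 = true := by decide +kernel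
theorem cF15 : allR testF 1920 128 = true := by decide +kernel
theorem cF16 : allR testF 2048 128 = true := by decide +kernel
theorem cF17 : allR testF 2176 128 = true := by decide +kernel
theorem cF18 : allR testF 2304 128 = true := by decide +kernel
theorem cF19 : allR testF 2432 128 = true := by decide +kernel
theorem cF20 : allR testF 2560 128 = true := by decide +kernel
theorem cF21 : allR testF 2688 128 = true := by decide +kernel
theorem cF22 : allR testF 2816 128 = true := by decide +kernel
theorem cF23 : allR testF 2944 128 = true := by decide +kernel
theorem cF24 : allR testF 3072 128 = true := by decide +kernel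
theorem cF25 : allR testF 3200 128 = true := by decide +kernel
theorem cF26 : allR testF 3328 128 = true := by decide +kernel
theorem cF27 : allR testF 3456 128 = true := by decide +kernel
theorem cF28 : allR testF 3584 128 = true := by decide +kernel
theorem cF29 : allR testF 3712 128 = true := by decide +kernel
theorem cF30 : allR testF 3840 128 = true := by decide +kernel
theorem cF31 : allR testF 3968 128 = true := by decide +kernel
theorem cF32 : allR testF 4096 128 = true := by decide +kernel
theorem cF33 : allR testF 4224 128 = true := by decide +kernel
theorem cF34 : allR testF 4352 128 = true := by decide +kernel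
theorem cF35 : allR testF 4480 128 = true := by decide +kernel
theorem cF36 : allR testF 4608 128 = true := by decide +kernel
theorem cF37 : allR testF 4736 128 = true := by decide +kernel
theorem cF38 : allR testF 4864 128 = true := by decide +kernel
theorem cF39 : allR testF 4992 128 = true := by decide +kernel
theorem cF40 : allR testF 5120 128 = true := by decide +kernel
theorem cF41 : allR testF 5248 128 = true := by decide +kernel
theorem cF42 : allR testF 5376 128 = true := by decide +kernel
theorem cF43 : allR testF 5504 128 = true := by decide +kernel
theorem cF44 : allR testF 5632 128 = true := by decide +kernel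
theorem cF45 : allR testF 5760 128 = true := by decide +kernel
theorem cF46 : allR testF 5888 128 = true := by decide +kernel
theorem cF47 : allR testF 6016 128 = true := by decide +kernel
theorem cF48 : allR testF 6144 128 = true := by decide +kernel
theorem cF49 : allR testF 6272 128 = true := by decide +kernel
theorem cF50 : allR testF 6400 128 = true := by decide +kernel
theorem cF51 : allR testF 6528 128 = true := by decide +kernel
theorem cF52 : allR testF 6656 128 = true := by decide +kernel
theorem cF53 : allR testF 6784 128 = true := by decide +kernel
theorem cF54 : allR testF 6912 128 = true := by decide +kernel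
theorem cF55 : allR testF 7040 128 = true := by decide +kernel
theorem cF56 : allR testF 7168 128 = true := by decide +kernel
theorem cF57 : allR testF 7296 128 = true := by decide +kernel
theorem cF58 : allR testF 7424 128 = true := by decide +kernel
theorem cF59 : allR testF 7552 128 = true := by decide +kernel
theorem cF60 : allR testF 7680 128 = true := by decide +kernel
theorem cF61 : allR testF 7808 128 = true := by decide +kernel
theorem cF62 : allR testF 7936 128 = true := by decide +kernel
theorem cF63 : allR testF 8064 128 = true := by decide +kernel
theorem cF64 : allR testF 8192 128 = true := by decide +kernel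
theorem cF65 : allR testF 8320 128 = true := by decide +kernel
theorem cF66 : allR testF 8448 128 = true := by decide +kernel
theorem cF67 : allR testF 8576 128 = true := by decide +kernel
theorem cF68 : allR testF 8704 128 = true := by decide +kernel
theorem cF69 : allR testF 8832 128 = true := by decide +kernel
theorem cF70 : allR testF 8960 128 = true := by decide +kernel
theorem cF71 : allR testF 9088 128 = true := by decide +kernel
theorem cF72 : allR testF 9216 128 = true := by decide +kernel
theorem cF73 : allR testF 9344 128 = true := by decide +kernel
theorem cF74 : allR testF 9472 128 = true := by decide +kernel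
theorem cF75 : allR testF 9600 128 = true := by decide +kernel
theorem cF76 : allR testF 9728 128 = true := by decide +kernel
theorem cF77 : allR testF 9856 128 = true := by decide +kernel
theorem cF78 : allR testF 9984 128 = true := by decide +kernel
theorem cF79 : allR testF 10112 128 = true := by decide +kernel
theorem cF80 : allR testF 10240 128 = true := by decide +kernel
theorem cF81 : allR testF 10368 128 = true := by decide +kernel
theorem cF82 : allR testF 10496 128 = true := by decide +kernel
theorem cF83 : allR testF 10624 128 = true := by decide +kernel
theorem cF84 : allR testF 10752 128 = true := by decide +kernel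
theorem cF85 : allR testF 10880 128 = true := by decide +kernel
theorem cF86 : allR testF 11008 128 = true := by decide +kernel
theorem cF87 : allR testF 11136 128 = true := by decide +kernel
theorem cF88 : allR testF 11264 128 = true := by decide +kernel
theorem cF89 : allR testF 11392 128 = true := by decide +kernel
theorem cF90 : allR testF 11520 128 = true := by decide +kernel
theorem cF91 : allR testF 11648 128 = true := by decide +kernel
theorem cF92 : allR testF 11776 128 = true := by decide +kernel
theorem cF93 : allR testF 11904 128 = true := by decide +kernel
theorem cF94 : allR testF 12032 128 = true := by decide +kernel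
theorem cF95 : allR testF 12160 128 = true := by decide +kernel
theorem cF96 : allR testF 12288 128 = true := by decide +kernel
theorem cF97 : allR testF 12416 128 = true := by decide +kernel
theorem cF98 : allR testF 12544 128 = true := by decide +kernel
theorem cF99 : allR testF 12672 128 = true := by decide +kernel
theorem cF100 : allR testF 12800 128 = true := by decide +kernel
theorem cF101 : allR testF 12928 128 = true := by decide +kernel
theorem cF102 : allR testF 13056 128 = true := by decide +kernel
theorem cF103 : allR testF 13184 128 = true := by decide +kernel
theorem cF104 : allR testF 13312 128 = true := by decide +kernel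
theorem cF105 : allR testF 13440 128 = true := by decide +kernel
theorem cF106 : allR testF 13568 128 = true := by decide +kernel
theorem cF107 : allR testF 13696 128 = true := by decide +kernel
theorem cF108 : allR testF 13824 128 = true := by decide +kernel
theorem cF109 : allR testF 13952 128 = true := by decide +kernel
theorem cF110 : allR testF 14080 128 = true := by decide +kernel
theorem cF111 : allR testF 14208 128 = true := by decide +kernel
theorem cF112 : allR testF 14336 128 = true := by decide +kernel
theorem cF113 : allR testF 14464 128 = true := by decide +kernel
theorem cF114 : allR testF 14592 128 = true := by decide +kernel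
theorem cF115 : allR testF 14720 128 = true := by decide +kernel
theorem cF116 : allR testF 14848 128 = true := by decide +kernel
theorem cF117 : allR testF 14976 128 = true := by decide +kernel
theorem cF118 : allR testF 15104 128 = true := by decide +kernel
theorem cF119 : allR testF 15232 128 = true := by decide +kernel
theorem cF120 : allR testF 15360 128 = true := by decide +kernel
theorem cF121 : allR testF 15488 128 = true := by decide +kernel
theorem cF122 : allR testF 15616 128 = true := by decide +kernel
theorem cF123 : allR testF 15744 128 = true := by decide +kernel
theorem cF124 : allR testF 15872 128 = true := by decide +kernel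
theorem cF125 : allR testF 16000 128 = true := by decide +kernel
theorem cF126 : allR testF 16128 128 = true := by decide +kernel
theorem cF127 : allR testF 16256 128 = true := by decide +kernel
theorem cF128 : allR testF 16384 128 = true := by decide +kernel
theorem cF129 : allR testF 16512 128 = true := by decide +kernel
theorem cF130 : allR testF 16640 128 = true := by decide +kernel
theorem cF131 : allR testF 16768 128 = true := by decide +kernel
theorem cF132 : allR testF 16896 128 = true := by decide +kernel
theorem cF133 : allR testF 17024 128 = true := by decide +kernel
theorem cF134 : allR testF 17152 128 = true := by decide +kernel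
theorem cF135 : allR testF 17280 128 = true := by decide +kernel
theorem cF136 : allR testF 17408 128 = true := by decide +kernel
theorem cF137 : allR testF 17536 128 = true := by decide +kernel
theorem cF138 : allR testF 17664 128 = true := by decide +kernel
theorem cF139 : allR testF 17792 128 = true := by decide +kernel
theorem cF140 : allR testF 17920 128 = true := by decide +kernel
theorem cF141 : allR testF 18048 128 = true := by decide +kernel
theorem cF142 : allR testF 18176 128 = true := by decide +kernel
theorem cF143 : allR testF 18304 128 = true := by decide +kernel
theorem cF144 : allR testF 18432 128 = true := by decide +kernel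
theorem cF145 : allR testF 18560 128 = true := by decide +kernel
theorem cF146 : allR testF 18688 128 = true := by decide +kernel
theorem cF147 : allR testF 18816 128 = true := by decide +kernel
theorem cF148 : allR testF 18944 128 = true := by decide +kernel
theorem cF149 : allR testF 19072 128 = true := by decide +kernel
theorem cF150 : allR testF 19200 128 = true := by decide +kernel
theorem cF151 : allR testF 19328 128 = true := by decide +kernel
theorem cF152 : allR testF 19456 128 = true := by decide +kernel
theorem cF153 : allR testF 19584 128 = true := by decide +kernel
theorem cF154 : allR testF 19712 128 = true := by decide +kernel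
theorem cF155 : allR testF 19840 128 = true := by decide +kernel
theorem cF156 : allR testF 19968 128 = true := by decide +kernel
theorem cF157 : allR testF 20096 128 = true := by decide +kernel
theorem cF158 : allR testF 20224 128 = true := by decide +kernel
theorem cF159 : allR testF 20352 128 = true := by decide +kernel
theorem cF160 : allR testF 20480 128 = true := by decide +kernel
theorem cF161 : allR testF 20608 128 = true := by decide +kernel
theorem cF162 : allR testF 20736 128 = true := by decide +kernel
theorem cF163 : allR testF 20864 128 = true := by decide +kernel
theorem cF164 : allR testF 20992 128 = true := by decide +kernel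
theorem cF165 : allR testF 21120 128 = true := by decide +kernel
theorem cF166 : allR testF 21248 128 = true := by decide +kernel
theorem cF167 : allR testF 21376 128 = true := by decide +kernel
theorem cF168 : allR testF 21504 128 = true := by decide +kernel
theorem cF169 : allR testF 21632 128 = true := by decide +kernel
theorem cF170 : allR testF 21760 128 = true := by decide +kernel
theorem cF171 : allR testF 21888 128 = true := by decide +kernel
theorem cF172 : allR testF 22016 128 = true := by decide +kernel
theorem cF173 : allR testF 22144 128 = true := by decide +kernel
theorem cF174 : allR testF 22272 128 = true := by decide +kernel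
theorem cF175 : allR testF 22400 128 = true := by decide +kernel
theorem cF176 : allR testF 22528 128 = true := by decide +kernel
theorem cF177 : allR testF 22656 128 = true := by decide +kernel
theorem cF178 : allR testF 22784 128 = true := by decide +kernel
theorem cF179 : allR testF 22912 128 = true := by decide +kernel
theorem cF180 : allR testF 23040 128 = true := by decide +kernel
theorem cF181 : allR testF 23168 128 = true := by decide +kernel
theorem cF182 : allR testF 23296 128 = true := by decide +kernel
theorem cF183 : allR testF 23424 128 = true := by decide +kernel
theorem cF184 : allR testF 23552 128 = true := by decide +kernel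
theorem cF185 : allR testF 23680 128 = true := by decide +kernel
theorem cF186 : allR testF 23808 128 = true := by decide +kernel
theorem cF187 : allR testF 23936 128 = true := by decide +kernel
theorem cF188 : allR testF 24064 128 = true := by decide +kernel
theorem cF189 : allR testF 24192 128 = true := by decide +kernel
theorem cF190 : allR testF 24320 128 = true := by decide +kernel
theorem cF191 : allR testF 24448 128 = true := by decide +kernel
theorem cF192 : allR testF 24576 128 = true := by decide +kernel
theorem cF193 : allR testF 24704 128 = true := by decide +kernel
theorem cF194 : allR testF 24832 128 = true := by decide +kernel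
theorem cF195 : allR testF 24960 128 = true := by decide +kernel
theorem cF196 : allR testF 25088 128 = true := by decide +kernel
theorem cF197 : allR testF 25216 128 = true := by decide +kernel
theorem cF198 : allR testF 25344 128 = true := by decide +kernel
theorem cF199 : allR testF 25472 128 = true := by decide +kernel
theorem cF200 : allR testF 25600 128 = true := by decide +kernel
theorem cF201 : allR testF 25728 112 = true := by decide +kernel

theorem cF_all {i : ℕ} (hi : i < 25840) : testF i = true := by
  have h : ∀ q < 202, allR testF (128 * q) (min 128 (25840 - 128 * q)) = true := by
    intro q hq
    interval_cases q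
    exacts [cF0, cF1, cF2, cF3, cF4, cF5, cF6, cF7, cF8, cF9, cF10, cF11, cF12, cF13, cF14, cF15, cF16, cF17, cF18, cF19, cF20, cF21, cF22, cF23, cF24, cF25, cF26, cF27, cF28, cF29, cF30, cF31, cF32, cF33, cF34, cF35, cF36, cF37, cF38, cF39, cF40, cF41, cF42, cF43, cF44, cF45, cF46, cF47, cF48, cF49, cF50, cF51, cF52, cF53, cF54, cF55, cF56, cF57, cF58, cF59, cF60, cF61, cF62, cF63, cF64, cF65, cF66, cF67, cF68, cF69, cF70, cF71, cF72, cF73, cF74, cF75, cF76, cF77, cF78, cF79, cF80, cF81, cF82, cF83, cF84, cF85, cF86, cF87, cF88, cF89, cF90, cF91, cF92, cF93, cF94, cF95, cF96, cF97, cF98, cF99, cF100, cF101, cF102, cF103, cF104, cF105, cF106, cF107, cF108, cF109, cF110, cF111, cF112, cF113, cF114, cF115, cF116, cF117, cF118, cF119, cF120, cF121, cF122, cF123, cF124, cF125, cF126, cF127, cF128, cF129, cF130, cF131, cF132, cF133, cF134, cF135, cF136, cF137, cF138, cF139, cF140, cF141, cF142, cF143, cF144, cF145, cF146, cF147, cF148, cF149, cF150, cF151, cF152, cF153, cF154, cF155, cF156, cF157, cF158, cF159, cF160, cF161, cF162, cF163, cF164, cF165, cF166, cF167, cF168, cF169, cF170, cF171, cF172, cF173, cF174, cF175, cF176, cF177, cF178, cF179, cF180, cF181, cF182, cF183, cF184, cF185, cF186, cF187, cF188, cF189, cF190, cF191, cF192, cF193,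 cF194, cF195, cF196, cF197, cF198, cF199, cF200, cF201]
  have hq : i / 128 < 202 := by omega
  refine allR_spec (h _ hq) i (Nat.mul_div_le i 128) ?_
  omega

theorem cC0 : allR testC 0 128 = true := by decide +kernel
theorem cC1 : allR testC 128 128 = true := by decide +kernel
theorem cC2 : allR testC 256 128 = true := by decide +kernel
theorem cC3 : allR testC 384 128 = true := by decide +kernel
theorem cC4 : allR testC 512 128 = true := by decide +kernel
theorem cC5 : allR testC 640 128 = true := by decide +kernel
theorem cC6 : allR testC 768 128 = true := by decide +kernel
theorem cC7 : allR testC 896 128 = true := by decide +kernel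
theorem cC8 : allR testC 1024 128 = true := by decide +kernel
theorem cC9 : allR testC 1152 128 = true := by decide +kernel
theorem cC10 : allR testC 1280 128 = true := by decide +kernel
theorem cC11 : allR testC 1408 128 = true := by decide +kernel
theorem cC12 : allR testC 1536 128 = true := by decide +kernel
theorem cC13 : allR testC 1664 128 = true := by decide +kernel
theorem cC14 : allR testC 1792 128 = true := by decide +kernel
theorem cC15 : allR testC 1920 128 = true := by decide +kernel
theorem cC16 : allR testC 2048 128 = true := by decide +kernel
theorem cC17 : allR testC 2176 128 = true := by decide +kernel
theorem cC18 : allR testC 2304 128 = true := by decide +kernel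
theorem cC19 : allR testC 2432 128 = true := by decide +kernel
theorem cC20 : allR testC 2560 128 = true := by decide +kernel
theorem cC21 : allR testC 2688 128 = true := by decide +kernel
theorem cC22 : allR testC 2816 128 = true := by decide +kernel
theorem cC23 : allR testC 2944 128 = true := by decide +kernel
theorem cC24 : allR testC 3072 128 = true := by decide +kernel
theorem cC25 : allR testC 3200 128 = true := by decide +kernel
theorem cC26 : allR testC 3328 128 = true := by decide +kernel
theorem cC27 : allR testC 3456 128 = true := by decide +kernel
theorem cC28 : allR testC 3584 128 = true := by decide +kernel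
theorem cC29 : allR testC 3712 128 = true := by decide +kernel
theorem cC30 : allR testC 3840 128 = true := by decide +kernel
theorem cC31 : allR testC 3968 128 = true := by decide +kernel
theorem cC32 : allR testC 4096 128 = true := by decide +kernel
theorem cC33 : allR testC 4224 128 = true := by decide +kernel
theorem cC34 : allR testC 4352 128 = true := by decide +kernel
theorem cC35 : allR testC 4480 128 = true := by decide +kernel
theorem cC36 : allR testC 4608 128 = true := by decide +kernel
theorem cC37 : allR testC 4736 128 = true := by decide +kernel
theorem cC38 : allR testC 4864 128 = true := by decide +kernel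
theorem cC39 : allR testC 4992 128 = true := by decide +kernel
theorem cC40 : allR testC 5120 128 = true := by decide +kernel
theorem cC41 : allR testC 5248 128 = true := by decide +kernel
theorem cC42 : allR testC 5376 128 = true := by decide +kernel
theorem cC43 : allR testC 5504 128 = true := by decide +kernel
theorem cC44 : allR testC 5632 128 = true := by decide +kernel
theorem cC45 : allR testC 5760 72 = true := by decide +kernel

theorem cC_all {i : ℕ} (hi : i < 5832) : testC i = true := by
  have h : ∀ q < 46, allR testC (128 * q) (min 128 (5832 - 128 * q)) = true := by
    intro q hq
    interval_cases q
    exacts [cC0, cC1, cC2, cC3, cC4, cC5, cC6, cC7, cC8, cC9, cC10, cC11, cC12, cC13, cC14, cC15, cC16, cC17, cC18, cC19, cC20, cC21, cC22, cC23, cC24, cC25, cC26, cC27, cC28, cC29, cC30, cC31, cC32, cC33, cC34, cC35, cC36, cC37, cC38, cC39, cC40, cC41, cC42, cC43, cC44, cC45]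
  have hq : i / 128 < 46 := by omega
  refine allR_spec (h _ hq) i (Nat.mul_div_le i 128) ?_
  omega

theorem cQ0 : allR testQ 0 128 = true := by decide +kernel

theorem cQ_all {i : ℕ} (hi : i < 128) : testQ i = true := by
  have h : ∀ q < 1, allR testQ (128 * q) (min 128 (128 - 128 * q)) = true := by
    intro q hq
    interval_cases q
    exacts [cQ0]
  have hq : i / 128 < 1 := by omega
  refine allR_spec (h _ hq) i (Nat.mul_div_le i 128) ?_
  omega

end Cfsg.Agent.H02.J3F
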