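import Cfsg.Agent.Lib.H02.J3L

/-!
Kernel checks of the tables of the subgroup of index 6156.
-/

set_option autoImplicit false
set_option maxRecDepth 100000

namespace Cfsg.Agent.H02.J3M

open Cfsg.Agent.H02.J3A Cfsg.Agent.H02.J3B Cfsg.Agent.H02.J3D Cfsg.Agent.H02.J3E Cfsg.Agent.H02.J3L

theorem cL0 : allR testL 0 128 = true := by decide +kernel
theorem cL1 : allR testL 128 128 = true := by decide +kernel
theorem cL2 : allR testL 256 128 = true := by decide +kernel
theorem cL3 : allR testL 384 128 = true := by decide +kernel
theorem cL4 : allR testL 512 128 = true := by decide +kernel
theorem cL5 : allR testL 640 128 = true := by decide +kernel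
theorem cL6 : allR testL 768 128 = true := by decide +kernel
theorem cL7 : allR testL 896 128 = true := by decide +kernel
theorem cL8 : allR testL 1024 128 = true := by decide +kernel
theorem cL9 : allR testL 1152 128 = true := by decide +kernel
theorem cL10 : allR testL 1280 128 = true := by decide +kernel
theorem cL11 : allR testL 1408 128 = true := by decide +kernel
theorem cL12 : allR testL 1536 128 = true := by decide +kernel
theorem cL13 : allR testL 1664 128 = true := by decide +kernel
theorem cL14 : allR testL 1792 128 = true := by decide +kernel
theorem cL15 : allR testL 1920 128 = true := by decide +kernel
theorem cL16 : allR testL 2048 128 = true := by decide +kernel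
theorem cL17 : allR testL 2176 128 = true := by decide +kernel
theorem cL18 : allR testL 2304 128 = true := by decide +kernel
theorem cL19 : allR testL 2432 128 = true := by decide +kernel
theorem cL20 : allR testL 2560 128 = true := by decide +kernel
theorem cL21 : allR testL 2688 128 = true := by decide +kernel
theorem cL22 : allR testL 2816 128 = true := by decide +kernel
theorem cL23 : allR testL 2944 128 = true := by decide +kernel
theorem cL24 : allR testL 3072 128 = true := by decide +kernel
theorem cL25 : allR testL 3200 128 = true := by decide +kernel
theorem cL26 : allR testL 3328 128 = true := by decide +kernel
theorem cL27 : allR testL 3456 128 = true := by decide +kernel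
theorem cL28 : allR testL 3584 128 = true := by decide +kernel
theorem cL29 : allR testL 3712 128 = true := by decide +kernel
theorem cL30 : allR testL 3840 128 = true := by decide +kernel
theorem cL31 : allR testL 3968 128 = true := by decide +kernel
theorem cL32 : allR testL 4096 128 = true := by decide +kernel
theorem cL33 : allR testL 4224 128 = true := by decide +kernel
theorem cL34 : allR testL 4352 128 = true := by decide +kernel
theorem cL35 : allR testL 4480 128 = true := by decide +kernel
theorem cL36 : allR testL 4608 128 = true := by decide +kernel
theorem cL37 : allR testL 4736 128 = true := by decide +kernel
theorem cL38 : allR testL 4864 128 = true := by decide +kernel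
theorem cL39 : allR testL 4992 128 = true := by decide +kernel
theorem cL40 : allR testL 5120 128 = true := by decide +kernel
theorem cL41 : allR testL 5248 128 = true := by decide +kernel
theorem cL42 : allR testL 5376 128 = true := by decide +kernel
theorem cL43 : allR testL 5504 128 = true := by decide +kernel
theorem cL44 : allR testL 5632 128 = true := by decide +kernel
theorem cL45 : allR testL 5760 128 = true := by decide +kernel
theorem cL46 : allR testL 5888 128 = true := by decide +kernel
theorem cL47 : allR testL 6016 128 = true := by decide +kernel
theorem cL48 : allR testL 6144 128 = true := by decide +kernel
theorem cL49 : allR testL 6272 128 = true := by decide +kernel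
theorem cL50 : allR testL 6400 128 = true := by decide +kernel
theorem cL51 : allR testL 6528 128 = true := by decide +kernel
theorem cL52 : allR testL 6656 128 = true := by decide +kernel
theorem cL53 : allR testL 6784 128 = true := by decide +kernel
theorem cL54 : allR testL 6912 128 = true := by decide +kernel
theorem cL55 : allR testL 7040 128 = true := by decide +kernel
theorem cL56 : allR testL 7168 128 = true := by decide +kernel
theorem cL57 : allR testL 7296 128 = true := by decide +kernel
theorem cL58 : allR testL 7424 128 = true := by decide +kernel
theorem cL59 : allR testL 7552 128 = true := by decide +kernel
theorem cL60 : allR testL 7680 128 = true := by decide +kernel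
theorem cL61 : allR testL 7808 128 = true := by decide +kernel
theorem cL62 : allR testL 7936 128 = true := by decide +kernel
theorem cL63 : allR testL 8064 128 = true := by decide +kernel
theorem cL64 : allR testL 8192 128 = true := by decide +kernel
theorem cL65 : allR testL 8320 128 = true := by decide +kernel
theorem cL66 : allR testL 8448 128 = true := by decide +kernel
theorem cL67 : allR testL 8576 128 = true := by decide +kernel
theorem cL68 : allR testL 8704 128 = true := by decide +kernel
theorem cL69 : allR testL 8832 128 = true := by decide +kernel
theorem cL70 : allR testL 8960 128 = true := by decide +kernel
theorem cL71 : allR testL 9088 128 = true := by decide +kernel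
theorem cL72 : allR testL 9216 128 = true := by decide +kernel
theorem cL73 : allR testL 9344 128 = true := by decide +kernel
theorem cL74 : allR testL 9472 128 = true := by decide +kernel
theorem cL75 : allR testL 9600 128 = true := by decide +kernel
theorem cL76 : allR testL 9728 128 = true := by decide +kernel
theorem cL77 : allR testL 9856 128 = true := by decide +kernel
theorem cL78 : allR testL 9984 128 = true := by decide +kernel
theorem cL79 : allR testL 10112 128 = true := by decide +kernel
theorem cL80 : allR testL 10240 128 = true := by decide +kernel
theorem cL81 : allR testL 10368 128 = true := by decide +kernel
theorem cL82 : allR testL 10496 128 = true := by decide +kernel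
theorem cL83 : allR testL 10624 128 = true := by decide +kernel
theorem cL84 : allR testL 10752 128 = true := by decide +kernel
theorem cL85 : allR testL 10880 128 = true := by decide +kernel
theorem cL86 : allR testL 11008 128 = true := by decide +kernel
theorem cL87 : allR testL 11136 128 = true := by decide +kernel
theorem cL88 : allR testL 11264 128 = true := by decide +kernel
theorem cL89 : allR testL 11392 128 = true := by decide +kernel
theorem cL90 : allR testL 11520 128 = true := by decide +kernel
theorem cL91 : allR testL 11648 128 = true := by decide +kernel
theorem cL92 : allR testL 11776 128 = true := by decide +kernel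
theorem cL93 : allR testL 11904 128 = true := by decide +kernel
theorem cL94 : allR testL 12032 128 = true := by decide +kernel
theorem cL95 : allR testL 12160 128 = true := by decide +kernel
theorem cL96 : allR testL 12288 128 = true := by decide +kernel
theorem cL97 : allR testL 12416 128 = true := by decide +kernel
theorem cL98 : allR testL 12544 128 = true := by decide +kernel
theorem cL99 : allR testL 12672 128 = true := by decide +kernel
theorem cL100 : allR testL 12800 128 = true := by decide +kernel
theorem cL101 : allR testL 12928 128 = true := by decide +kernel
theorem cL102 : allR testL 13056 128 = true := by decide +kernel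
theorem cL103 : allR testL 13184 128 = true := by decide +kernel
theorem cL104 : allR testL 13312 128 = true := by decide +kernel
theorem cL105 : allR testL 13440 128 = true := by decide +kernel
theorem cL106 : allR testL 13568 128 = true := by decide +kernel
theorem cL107 : allR testL 13696 128 = true := by decide +kernel
theorem cL108 : allR testL 13824 128 = true := by decide +kernel
theorem cL109 : allR testL 13952 128 = true := by decide +kernel
theorem cL110 : allR testL 14080 128 = true := by decide +kernel
theorem cL111 : allR testL 14208 128 = true := by decide +kernel
theorem cL112 : allR testL 14336 128 = true := by decide +kernel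
theorem cL113 : allR testL 14464 128 = true := by decide +kernel
theorem cL114 : allR testL 14592 128 = true := by decide +kernel
theorem cL115 : allR testL 14720 128 = true := by decide +kernel
theorem cL116 : allR testL 14848 128 = true := by decide +kernel
theorem cL117 : allR testL 14976 128 = true := by decide +kernel
theorem cL118 : allR testL 15104 128 = true := by decide +kernel
theorem cL119 : allR testL 15232 128 = true := by decide +kernel
theorem cL120 : allR testL 15360 128 = true := by decide +kernel
theorem cL121 : allR testL 15488 128 = true := by decide +kernel
theorem cL122 : allR testL 15616 128 = true := by decide +kernel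
theorem cL123 : allR testL 15744 128 = true := by decide +kernel
theorem cL124 : allR testL 15872 128 = true := by decide +kernel
theorem cL125 : allR testL 16000 128 = true := by decide +kernel
theorem cL126 : allR testL 16128 128 = true := by decide +kernel
theorem cL127 : allR testL 16256 128 = true := by decide +kernel
theorem cL128 : allR testL 16384 128 = true := by decide +kernel
theorem cL129 : allR testL 16512 128 = true := by decide +kernel
theorem cL130 : allR testL 16640 128 = true := by decide +kernel
theorem cL131 : allR testL 16768 128 = true := by decide +kernel
theorem cL132 : allR testL 16896 128 = true := by decide +kernel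
theorem cL133 : allR testL 17024 128 = true := by decide +kernel
theorem cL134 : allR testL 17152 128 = true := by decide +kernel
theorem cL135 : allR testL 17280 128 = true := by decide +kernel
theorem cL136 : allR testL 17408 128 = true := by decide +kernel
theorem cL137 : allR testL 17536 128 = true := by decide +kernel
theorem cL138 : allR testL 17664 128 = true := by decide +kernel
theorem cL139 : allR testL 17792 128 = true := by decide +kernel
theorem cL140 : allR testL 17920 128 = true := by decide +kernel
theorem cL141 : allR testL 18048 128 = true := by decide +kernel
theorem cL142 : allR testL 18176 128 = true := by decide +kernel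
theorem cL143 : allR testL 18304 128 = true := by decide +kernel
theorem cL144 : allR testL 18432 128 = true := by decide +kernel
theorem cL145 : allR testL 18560 128 = true := by decide +kernel
theorem cL146 : allR testL 18688 128 = true := by decide +kernel
theorem cL147 : allR testL 18816 128 = true := by decide +kernel
theorem cL148 : allR testL 18944 128 = true := by decide +kernel
theorem cL149 : allR testL 19072 128 = true := by decide +kernel
theorem cL150 : allR testL 19200 128 = true := by decide +kernel
theorem cL151 : allR testL 19328 128 = true := by decide +kernel
theorem cL152 : allR testL 19456 128 = true := by decide +kernel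
theorem cL153 : allR testL 19584 128 = true := by decide +kernel
theorem cL154 : allR testL 19712 128 = true := by decide +kernel
theorem cL155 : allR testL 19840 128 = true := by decide +kernel
theorem cL156 : allR testL 19968 128 = true := by decide +kernel
theorem cL157 : allR testL 20096 128 = true := by decide +kernel
theorem cL158 : allR testL 20224 128 = true := by decide +kernel
theorem cL159 : allR testL 20352 128 = true := by decide +kernel
theorem cL160 : allR testL 20480 128 = true := by decide +kernel
theorem cL161 : allR testL 20608 128 = true := by decide +kernel
theorem cL162 : allR testL 20736 128 = true := by decide +kernel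
theorem cL163 : allR testL 20864 128 = true := by decide +kernel
theorem cL164 : allR testL 20992 128 = true := by decide +kernel
theorem cL165 : allR testL 21120 128 = true := by decide +kernel
theorem cL166 : allR testL 21248 128 = true := by decide +kernel
theorem cL167 : allR testL 21376 128 = true := by decide +kernel
theorem cL168 : allR testL 21504 128 = true := by decide +kernel
theorem cL169 : allR testL 21632 128 = true := by decide +kernel
theorem cL170 : allR testL 21760 128 = true := by decide +kernel
theorem cL171 : allR testL 21888 128 = true := by decide +kernel
theorem cL172 : allR testL 22016 128 = true := by decide +kernel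
theorem cL173 : allR testL 22144 128 = true := by decide +kernel
theorem cL174 : allR testL 22272 128 = true := by decide +kernel
theorem cL175 : allR testL 22400 128 = true := by decide +kernel
theorem cL176 : allR testL 22528 128 = true := by decide +kernel
theorem cL177 : allR testL 22656 128 = true := by decide +kernel
theorem cL178 : allR testL 22784 128 = true := by decide +kernel
theorem cL179 : allR testL 22912 128 = true := by decide +kernel
theorem cL180 : allR testL 23040 128 = true := by decide +kernel
theorem cL181 : allR testL 23168 128 = true := by decide +kernel
theorem cL182 : allR testL 23296 128 = true := by decide +kernel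
theorem cL183 : allR testL 23424 128 = true := by decide +kernel
theorem cL184 : allR testL 23552 128 = true := by decide +kernel
theorem cL185 : allR testL 23680 128 = true := by decide +kernel
theorem cL186 : allR testL 23808 128 = true := by decide +kernel
theorem cL187 : allR testL 23936 128 = true := by decide +kernel
theorem cL188 : allR testL 24064 128 = true := by decide +kernel
theorem cL189 : allR testL 24192 128 = true := by decide +kernel
theorem cL190 : allR testL 24320 128 = true := by decide +kernel
theorem cL191 : allR testL 24448 32 = true := by decide +kernel

theorem cL_all {i : ℕ} (hi : i < 24480) : testL i = true := by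
  have h : ∀ q < 192, allR testL (128 * q) (min 128 (24480 - 128 * q)) = true := by
    intro q hq
    interval_cases q
    exacts [cL0, cL1, cL2, cL3, cL4, cL5, cL6, cL7, cL8, cL9, cL10, cL11, cL12, cL13, cL14, cL15, cL16, cL17, cL18, cL19, cL20, cL21, cL22, cL23, cL24, cL25, cL26, cL27, cL28, cL29, cL30, cL31, cL32, cL33, cL34, cL35, cL36, cL37, cL38, cL39, cL40, cL41, cL42, cL43, cL44, cL45, cL46, cL47, cL48, cL49, cL50, cL51, cL52, cL53, cL54, cL55, cL56, cL57, cL58, cL59, cL60, cL61, cL62, cL63, cL64, cL65, cL66, cL67, cL68, cL69, cL70, cL71, cL72, cL73, cL74, cL75, cL76, cL77, cL78, cL79, cL80, cL81, cL82, cL83, cL84, cL85, cL86, cL87, cL88, cL89, cL90, cL91, cL92, cL93, cL94, cL95, cL96, cL97, cL98, cL99, cL100, cL101, cL102, cL103, cL104, cL105, cL106, cL107, cL108, cL109, cL110, cL111, cL112, cL113, cL114, cL115, cL116, cL117, cL118, cL119, cL120, cL121, cL122, cL123, cL124, cL125, cL126, cL127, cL128, cL129, cL130, cL131, cL132, cL133, cL134, cL135, cL136, cL137, cL138, cL139, cL140, cL141, cL142, cL143, cL144, cL145, cL146, cL147, cL148, cL149, cL150, cL151, cL152, cL153, cL154, cL155, cL156, cL157, cL158, cL159, cL160, cL161, cL162, cL163, cL164, cL165, cL166, cL167, cL168, cL169, cL170, cL171, cL172, cL173, cL174, cL175, cL176, cL177, cL178,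 cL179, cL180, cL181, cL182, cL183, cL184, cL185, cL186, cL187, cL188, cL189, cL190, cL191]
  have hq : i / 128 < 192 := by omega
  refine allR_spec (h _ hq) i (Nat.mul_div_le i 128) ?_
  omega

end Cfsg.Agent.H02.J3M
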