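import Cfsg.Agent.Lib.H02.J3P

/-!
Kernel checks of the tables of the orbits on lines.
-/

set_option autoImplicit false
set_option Elab.async false
set_option maxRecDepth 100000

namespace Cfsg.Agent.H02.J3Q

open Cfsg.Agent.H02.J3A Cfsg.Agent.H02.J3B Cfsg.Agent.H02.J3D Cfsg.Agent.H02.J3E Cfsg.Agent.H02.J3P

/-- Transpose of a generator. -/
def tb : Mx := ⟨1, 16384, 1024, 256, 16, 4096, 65536, 64, 4⟩

/-- Transpose of a generator. -/
def td : Mx := ⟨64, 256, 1024, 4096, 32768, 196608, 1, 4, 16⟩

/-- Transpose of a generator. -/
def tc : Mx := ⟨1, 4164, 4176, 4116, 66816, 17664, 84, 82944, 82176⟩

/-- The transposed generators. -/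
def tg (s : ℕ) : Mx := cond (Nat.beq s 0) tb (cond (Nat.beq s 1) td tc)

/-- The entry of the first orbit. -/
def We (k : ℕ) : ℕ :=
  Nat.land (Nat.shiftRight (WB (Nat.shiftRight k 8)) (Nat.mul 92 (Nat.land k 255))) 4951760157141521099596496895

/-- The vector. -/
def Wv (k : ℕ) : ℕ := Nat.land (We k) 262143

/-- The image under a generator: index. -/
def Wn (k s : ℕ) : ℕ := Nat.land (Nat.shiftRight (We k) (Nat.add 18 (Nat.mul 17 s))) 32767

/-- The image under a generator: coefficient. -/
def Wc (k s : ℕ) : ℕ := Nat.land (Nat.shiftRight (We k) (Nat.add 33 (Nat.mul 17 s))) 3

/-- The parent. -/
def Wp (k : ℕ) : ℕ := Nat.land (Nat.shiftRight (We k) 69) 32767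

/-- The generator from the parent. -/
def Wg (k : ℕ) : ℕ := Nat.land (Nat.shiftRight (We k) 84) 3

/-- The depth. -/
def Wd (k : ℕ) : ℕ := Nat.shiftRight (We k) 86

/-- The lowest set bit. -/
def lowB (n : ℕ) : ℕ := Nat.log2 (Nat.land n (Nat.xor n (Nat.sub n 1)))

/-- A normalized vector. -/
def canonOK (n : ℕ) : Bool := Nat.beq (ent n (Nat.shiftRight (lowB n) 1)) 1

/-- A step of the first orbit. -/
def wStep (k s : ℕ) : Bool :=
  Nat.ble (Wn k s) 23255 && Nat.ble 1 (Wc k s) && Nat.beq (vm (Wv k) (tg s)) (scal (Wc k s) (Wv (Wn k s)))

/-- The test of the first orbit. -/
def testW (k : ℕ) : Bool :=
  wStep k 0 && wStep k 1 && wStep k 2 &&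
  Nat.ble (scal 2 (Wv k)) 262143 && Nat.ble (scal 3 (Wv k)) 262143 &&
  Nat.beq (scal 1 (Wv k)) (Wv k) && canonOK (Wv k) && !canonOK (scal 2 (Wv k)) && !canonOK (scal 3 (Wv k)) &&
  (Nat.beq k 23255 || Nat.blt (Wv k) (Wv (k + 1))) &&
  (Nat.beq k 0 || (Nat.ble (Wp k) 23255 && Nat.ble (Wg k) 2 && Nat.blt (Wd (Wp k)) (Wd k) && Nat.beq (Wn (Wp k) (Wg k)) k))

/-- The entry of the second orbit. -/
def Ve (k : ℕ) : ℕ :=
  Nat.land (Nat.shiftRight (VB (Nat.shiftRight k 8)) (Nat.mul 38 (Nat.land k 255))) 274877906943

/-- The vector. -/
def Vv (k : ℕ) : ℕ := Nat.land (Ve k) 262143

/-- The parent. -/
def Vp (k : ℕ) : ℕ := Nat.land (Nat.shiftRight (Ve k) 18) 65535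

/-- The generator from the parent. -/
def Vg (k : ℕ) : ℕ := Nat.land (Nat.shiftRight (Ve k) 34) 3

/-- The coefficient. -/
def Vc (k : ℕ) : ℕ := Nat.shiftRight (Ve k) 36

/-- The test of the second orbit. -/
def testV (k : ℕ) : Bool :=
  Nat.beq k 0 || (Nat.blt (Vp k) k && Nat.ble (Vg k) 2 && Nat.ble 1 (Vc k) && Nat.ble (Vc k) 3 &&
    Nat.beq (vm (Vv (Vp k)) (tg (Vg k))) (scal (Vc k) (Vv k)))

/-- The entry of the cover. -/
def Oe (n : ℕ) : ℕ :=
  Nat.land (Nat.shiftRight (OB (Nat.shiftRight n 8)) (Nat.mul 18 (Nat.land n 255))) 262143

/-- A nonzero entry. -/
def nz (n j : ℕ) : Bool := !Nat.beq (ent n j) 0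

/-- The parity of the weight. -/
def wtOdd (n : ℕ) : Bool :=
  xor (nz n 8) (xor (nz n 7) (xor (nz n 6) (xor (nz n 5) (xor (nz n 4) (xor (nz n 3) (xor (nz n 2) (xor (nz n 1) (nz n 0))))))))

/-- The test of the cover. -/
def testO (n : ℕ) : Bool :=
  Nat.beq n 0 || wtOdd n ||
    (Nat.ble (Nat.land (Oe n) 65535) 43604 && Nat.ble 1 (Nat.shiftRight (Oe n) 16) && Nat.ble (Nat.shiftRight (Oe n) 16) 3 &&
      Nat.beq (scal (Nat.shiftRight (Oe n) 16) (Vv (Nat.land (Oe n) 65535))) n)

theorem cW0 : allR testW 0 256 = true := by decide +kernel
theorem cW1 : allR testW 256 256 = true := by decide +kernel
theorem cW2 : allR testW 512 256 = true := by decide +kernel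
theorem cW3 : allR testW 768 256 = true := by decide +kernel
theorem cW4 : allR testW 1024 256 = true := by decide +kernel
theorem cW5 : allR testW 1280 256 = true := by decide +kernel
theorem cW6 : allR testW 1536 256 = true := by decide +kernel
theorem cW7 : allR testW 1792 256 = true := by decide +kernel
theorem cW8 : allR testW 2048 256 = true := by decide +kernel
theorem cW9 : allR testW 2304 256 = true := by decide +kernel
theorem cW10 : allR testW 2560 256 = true := by decide +kernel
theorem cW11 : allR testW 2816 256 = true := by decide +kernel
theorem cW12 : allR testW 3072 256 = true := by decide +kernel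
theorem cW13 : allR testW 3328 256 = true := by decide +kernel
theorem cW14 : allR testW 3584 256 = true := by decide +kernel
theorem cW15 : allR testW 3840 256 = true := by decide +kernel
theorem cW16 : allR testW 4096 256 = true := by decide +kernel
theorem cW17 : allR testW 4352 256 = true := by decide +kernel
theorem cW18 : allR testW 4608 256 = true := by decide +kernel
theorem cW19 : allR testW 4864 256 = true := by decide +kernel
theorem cW20 : allR testW 5120 256 = true := by decide +kernel
theorem cW21 : allR testW 5376 256 = true := by decide +kernel
theorem cW22 : allR testW 5632 256 = true := by decide +kernel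
theorem cW23 : allR testW 5888 256 = true := by decide +kernel
theorem cW24 : allR testW 6144 256 = true := by decide +kernel
theorem cW25 : allR testW 6400 256 = true := by decide +kernel
theorem cW26 : allR testW 6656 256 = true := by decide +kernel
theorem cW27 : allR testW 6912 256 = true := by decide +kernel
theorem cW28 : allR testW 7168 256 = true := by decide +kernel
theorem cW29 : allR testW 7424 256 = true := by decide +kernel
theorem cW30 : allR testW 7680 256 = true := by decide +kernel
theorem cW31 : allR testW 7936 256 = true := by decide +kernel
theorem cW32 : allR testW 8192 256 = true := by decide +kernel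
theorem cW33 : allR testW 8448 256 = true := by decide +kernel
theorem cW34 : allR testW 8704 256 = true := by decide +kernel
theorem cW35 : allR testW 8960 256 = true := by decide +kernel
theorem cW36 : allR testW 9216 256 = true := by decide +kernel
theorem cW37 : allR testW 9472 256 = true := by decide +kernel
theorem cW38 : allR testW 9728 256 = true := by decide +kernel
theorem cW39 : allR testW 9984 256 = true := by decide +kernel
theorem cW40 : allR testW 10240 256 = true := by decide +kernel
theorem cW41 : allR testW 10496 256 = true := by decide +kernel
theorem cW42 : allR testW 10752 256 = true := by decide +kernel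
theorem cW43 : allR testW 11008 256 = true := by decide +kernel
theorem cW44 : allR testW 11264 256 = true := by decide +kernel
theorem cW45 : allR testW 11520 256 = true := by decide +kernel
theorem cW46 : allR testW 11776 256 = true := by decide +kernel
theorem cW47 : allR testW 12032 256 = true := by decide +kernel
theorem cW48 : allR testW 12288 256 = true := by decide +kernel
theorem cW49 : allR testW 12544 256 = true := by decide +kernel
theorem cW50 : allR testW 12800 256 = true := by decide +kernel
theorem cW51 : allR testW 13056 256 = true := by decide +kernel
theorem cW52 : allR testW 13312 256 = true := by decide +kernel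
theorem cW53 : allR testW 13568 256 = true := by decide +kernel
theorem cW54 : allR testW 13824 256 = true := by decide +kernel
theorem cW55 : allR testW 14080 256 = true := by decide +kernel
theorem cW56 : allR testW 14336 256 = true := by decide +kernel
theorem cW57 : allR testW 14592 256 = true := by decide +kernel
theorem cW58 : allR testW 14848 256 = true := by decide +kernel
theorem cW59 : allR testW 15104 256 = true := by decide +kernel
theorem cW60 : allR testW 15360 256 = true := by decide +kernel
theorem cW61 : allR testW 15616 256 = true := by decide +kernel
theorem cW62 : allR testW 15872 256 = true := by decide +kernel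
theorem cW63 : allR testW 16128 256 = true := by decide +kernel
theorem cW64 : allR testW 16384 256 = true := by decide +kernel
theorem cW65 : allR testW 16640 256 = true := by decide +kernel
theorem cW66 : allR testW 16896 256 = true := by decide +kernel
theorem cW67 : allR testW 17152 256 = true := by decide +kernel
theorem cW68 : allR testW 17408 256 = true := by decide +kernel
theorem cW69 : allR testW 17664 256 = true := by decide +kernel
theorem cW70 : allR testW 17920 256 = true := by decide +kernel
theorem cW71 : allR testW 18176 256 = true := by decide +kernel
theorem cW72 : allR testW 18432 256 = true := by decide +kernel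
theorem cW73 : allR testW 18688 256 = true := by decide +kernel
theorem cW74 : allR testW 18944 256 = true := by decide +kernel
theorem cW75 : allR testW 19200 256 = true := by decide +kernel
theorem cW76 : allR testW 19456 256 = true := by decide +kernel
theorem cW77 : allR testW 19712 256 = true := by decide +kernel
theorem cW78 : allR testW 19968 256 = true := by decide +kernel
theorem cW79 : allR testW 20224 256 = true := by decide +kernel
theorem cW80 : allR testW 20480 256 = true := by decide +kernel
theorem cW81 : allR testW 20736 256 = true := by decide +kernel
theorem cW82 : allR testW 20992 256 = true := by decide +kernel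
theorem cW83 : allR testW 21248 256 = true := by decide +kernel
theorem cW84 : allR testW 21504 256 = true := by decide +kernel
theorem cW85 : allR testW 21760 256 = true := by decide +kernel
theorem cW86 : allR testW 22016 256 = true := by decide +kernel
theorem cW87 : allR testW 22272 256 = true := by decide +kernel
theorem cW88 : allR testW 22528 256 = true := by decide +kernel
theorem cW89 : allR testW 22784 256 = true := by decide +kernel
theorem cW90 : allR testW 23040 216 = true := by decide +kernel

theorem cW_all {i : ℕ} (hi : i < 23256) : testW i = true := by
  have h : ∀ q < 91, allR testW (256 * q) (min 256 (23256 - 256 * q)) = true := by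
    intro q hq
    interval_cases q
    exacts [cW0, cW1, cW2, cW3, cW4, cW5, cW6, cW7, cW8, cW9, cW10, cW11, cW12, cW13, cW14, cW15, cW16, cW17, cW18, cW19, cW20, cW21, cW22, cW23, cW24, cW25, cW26, cW27, cW28, cW29, cW30, cW31, cW32, cW33, cW34, cW35, cW36, cW37, cW38, cW39, cW40, cW41, cW42, cW43, cW44, cW45, cW46, cW47, cW48, cW49, cW50, cW51, cW52, cW53, cW54, cW55, cW56, cW57, cW58, cW59, cW60, cW61, cW62, cW63, cW64, cW65, cW66, cW67, cW68, cW69, cW70, cW71, cW72, cW73, cW74, cW75, cW76, cW77, cW78, cW79, cW80, cW81, cW82, cW83, cW84, cW85, cW86, cW87, cW88, cW89, cW90]
  have hq : i / 256 < 91 := by omega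
  refine allR_spec (h _ hq) i (Nat.mul_div_le i 256) ?_
  omega

theorem cV0 : allR testV 0 512 = true := by decide +kernel
theorem cV1 : allR testV 512 512 = true := by decide +kernel
theorem cV2 : allR testV 1024 512 = true := by decide +kernel
theorem cV3 : allR testV 1536 512 = true := by decide +kernel
theorem cV4 : allR testV 2048 512 = true := by decide +kernel
theorem cV5 : allR testV 2560 512 = true := by decide +kernel
theorem cV6 : allR testV 3072 512 = true := by decide +kernel
theorem cV7 : allR testV 3584 512 = true := by decide +kernel
theorem cV8 : allR testV 4096 512 = true := by decide +kernel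
theorem cV9 : allR testV 4608 512 = true := by decide +kernel
theorem cV10 : allR testV 5120 512 = true := by decide +kernel
theorem cV11 : allR testV 5632 512 = true := by decide +kernel
theorem cV12 : allR testV 6144 512 = true := by decide +kernel
theorem cV13 : allR testV 6656 512 = true := by decide +kernel
theorem cV14 : allR testV 7168 512 = true := by decide +kernel
theorem cV15 : allR testV 7680 512 = true := by decide +kernel
theorem cV16 : allR testV 8192 512 = true := by decide +kernel
theorem cV17 : allR testV 8704 512 = true := by decide +kernel
theorem cV18 : allR testV 9216 512 = true := by decide +kernel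
theorem cV19 : allR testV 9728 512 = true := by decide +kernel
theorem cV20 : allR testV 10240 512 = true := by decide +kernel
theorem cV21 : allR testV 10752 512 = true := by decide +kernel
theorem cV22 : allR testV 11264 512 = true := by decide +kernel
theorem cV23 : allR testV 11776 512 = true := by decide +kernel
theorem cV24 : allR testV 12288 512 = true := by decide +kernel
theorem cV25 : allR testV 12800 512 = true := by decide +kernel
theorem cV26 : allR testV 13312 512 = true := by decide +kernel
theorem cV27 : allR testV 13824 512 = true := by decide +kernel
theorem cV28 : allR testV 14336 512 = true := by decide +kernel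
theorem cV29 : allR testV 14848 512 = true := by decide +kernel
theorem cV30 : allR testV 15360 512 = true := by decide +kernel
theorem cV31 : allR testV 15872 512 = true := by decide +kernel
theorem cV32 : allR testV 16384 512 = true := by decide +kernel
theorem cV33 : allR testV 16896 512 = true := by decide +kernel
theorem cV34 : allR testV 17408 512 = true := by decide +kernel
theorem cV35 : allR testV 17920 512 = true := by decide +kernel
theorem cV36 : allR testV 18432 512 = true := by decide +kernel
theorem cV37 : allR testV 18944 512 = true := by decide +kernel
theorem cV38 : allR testV 19456 512 = true := by decide +kernel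
theorem cV39 : allR testV 19968 512 = true := by decide +kernel
theorem cV40 : allR testV 20480 512 = true := by decide +kernel
theorem cV41 : allR testV 20992 512 = true := by decide +kernel
theorem cV42 : allR testV 21504 512 = true := by decide +kernel
theorem cV43 : allR testV 22016 512 = true := by decide +kernel
theorem cV44 : allR testV 22528 512 = true := by decide +kernel
theorem cV45 : allR testV 23040 512 = true := by decide +kernel
theorem cV46 : allR testV 23552 512 = true := by decide +kernel
theorem cV47 : allR testV 24064 512 = true := by decide +kernel
theorem cV48 : allR testV 24576 512 = true := by decide +kernel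
theorem cV49 : allR testV 25088 512 = true := by decide +kernel
theorem cV50 : allR testV 25600 512 = true := by decide +kernel
theorem cV51 : allR testV 26112 512 = true := by decide +kernel
theorem cV52 : allR testV 26624 512 = true := by decide +kernel
theorem cV53 : allR testV 27136 512 = true := by decide +kernel
theorem cV54 : allR testV 27648 512 = true := by decide +kernel
theorem cV55 : allR testV 28160 512 = true := by decide +kernel
theorem cV56 : allR testV 28672 512 = true := by decide +kernel
theorem cV57 : allR testV 29184 512 = true := by decide +kernel
theorem cV58 : allR testV 29696 512 = true := by decide +kernel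
theorem cV59 : allR testV 30208 512 = true := by decide +kernel
theorem cV60 : allR testV 30720 512 = true := by decide +kernel
theorem cV61 : allR testV 31232 512 = true := by decide +kernel
theorem cV62 : allR testV 31744 512 = true := by decide +kernel
theorem cV63 : allR testV 32256 512 = true := by decide +kernel
theorem cV64 : allR testV 32768 512 = true := by decide +kernel
theorem cV65 : allR testV 33280 512 = true := by decide +kernel
theorem cV66 : allR testV 33792 512 = true := by decide +kernel
theorem cV67 : allR testV 34304 512 = true := by decide +kernel
theorem cV68 : allR testV 34816 512 = true := by decide +kernel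
theorem cV69 : allR testV 35328 512 = true := by decide +kernel
theorem cV70 : allR testV 35840 512 = true := by decide +kernel
theorem cV71 : allR testV 36352 512 = true := by decide +kernel
theorem cV72 : allR testV 36864 512 = true := by decide +kernel
theorem cV73 : allR testV 37376 512 = true := by decide +kernel
theorem cV74 : allR testV 37888 512 = true := by decide +kernel
theorem cV75 : allR testV 38400 512 = true := by decide +kernel
theorem cV76 : allR testV 38912 512 = true := by decide +kernel
theorem cV77 : allR testV 39424 512 = true := by decide +kernel
theorem cV78 : allR testV 39936 512 = true := by decide +kernel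
theorem cV79 : allR testV 40448 512 = true := by decide +kernel
theorem cV80 : allR testV 40960 512 = true := by decide +kernel
theorem cV81 : allR testV 41472 512 = true := by decide +kernel
theorem cV82 : allR testV 41984 512 = true := by decide +kernel
theorem cV83 : allR testV 42496 512 = true := by decide +kernel
theorem cV84 : allR testV 43008 512 = true := by decide +kernel
theorem cV85 : allR testV 43520 85 = true := by decide +kernel

theorem cV_all {i : ℕ} (hi : i < 43605) : testV i = true := by
  have h : ∀ q < 86, allR testV (512 * q) (min 512 (43605 - 512 * q)) = true := by
    intro q hq
    interval_cases q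
    exacts [cV0, cV1, cV2, cV3, cV4, cV5, cV6, cV7, cV8, cV9, cV10, cV11, cV12, cV13, cV14, cV15, cV16, cV17, cV18, cV19, cV20, cV21, cV22, cV23, cV24, cV25, cV26, cV27, cV28, cV29, cV30, cV31, cV32, cV33, cV34, cV35, cV36, cV37, cV38, cV39, cV40, cV41, cV42, cV43, cV44, cV45, cV46, cV47, cV48, cV49, cV50, cV51, cV52, cV53, cV54, cV55, cV56, cV57, cV58, cV59, cV60, cV61, cV62, cV63, cV64, cV65, cV66, cV67, cV68, cV69, cV70, cV71, cV72, cV73, cV74, cV75, cV76, cV77, cV78, cV79, cV80, cV81, cV82, cV83, cV84, cV85]
  have hq : i / 512 < 86 := by omega
  refine allR_spec (h _ hq) i (Nat.mul_div_le i 512) ?_
  omega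

theorem cO0 : allR testO 0 1024 = true := by decide +kernel
theorem cO1 : allR testO 1024 1024 = true := by decide +kernel
theorem cO2 : allR testO 2048 1024 = true := by decide +kernel
theorem cO3 : allR testO 3072 1024 = true := by decide +kernel
theorem cO4 : allR testO 4096 1024 = true := by decide +kernel
theorem cO5 : allR testO 5120 1024 = true := by decide +kernel
theorem cO6 : allR testO 6144 1024 = true := by decide +kernel
theorem cO7 : allR testO 7168 1024 = true := by decide +kernel
theorem cO8 : allR testO 8192 1024 = true := by decide +kernel
theorem cO9 : allR testO 9216 1024 = true := by decide +kernel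
theorem cO10 : allR testO 10240 1024 = true := by decide +kernel
theorem cO11 : allR testO 11264 1024 = true := by decide +kernel
theorem cO12 : allR testO 12288 1024 = true := by decide +kernel
theorem cO13 : allR testO 13312 1024 = true := by decide +kernel
theorem cO14 : allR testO 14336 1024 = true := by decide +kernel
theorem cO15 : allR testO 15360 1024 = true := by decide +kernel
theorem cO16 : allR testO 16384 1024 = true := by decide +kernel
theorem cO17 : allR testO 17408 1024 = true := by decide +kernel
theorem cO18 : allR testO 18432 1024 = true := by decide +kernel
theorem cO19 : allR testO 19456 1024 = true := by decide +kernel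
theorem cO20 : allR testO 20480 1024 = true := by decide +kernel
theorem cO21 : allR testO 21504 1024 = true := by decide +kernel
theorem cO22 : allR testO 22528 1024 = true := by decide +kernel
theorem cO23 : allR testO 23552 1024 = true := by decide +kernel
theorem cO24 : allR testO 24576 1024 = true := by decide +kernel
theorem cO25 : allR testO 25600 1024 = true := by decide +kernel
theorem cO26 : allR testO 26624 1024 = true := by decide +kernel
theorem cO27 : allR testO 27648 1024 = true := by decide +kernel
theorem cO28 : allR testO 28672 1024 = true := by decide +kernel
theorem cO29 : allR testO 29696 1024 = true := by decide +kernel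
theorem cO30 : allR testO 30720 1024 = true := by decide +kernel
theorem cO31 : allR testO 31744 1024 = true := by decide +kernel
theorem cO32 : allR testO 32768 1024 = true := by decide +kernel
theorem cO33 : allR testO 33792 1024 = true := by decide +kernel
theorem cO34 : allR testO 34816 1024 = true := by decide +kernel
theorem cO35 : allR testO 35840 1024 = true := by decide +kernel
theorem cO36 : allR testO 36864 1024 = true := by decide +kernel
theorem cO37 : allR testO 37888 1024 = true := by decide +kernel
theorem cO38 : allR testO 38912 1024 = true := by decide +kernel
theorem cO39 : allR testO 39936 1024 = true := by decide +kernel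
theorem cO40 : allR testO 40960 1024 = true := by decide +kernel
theorem cO41 : allR testO 41984 1024 = true := by decide +kernel
theorem cO42 : allR testO 43008 1024 = true := by decide +kernel
theorem cO43 : allR testO 44032 1024 = true := by decide +kernel
theorem cO44 : allR testO 45056 1024 = true := by decide +kernel
theorem cO45 : allR testO 46080 1024 = true := by decide +kernel
theorem cO46 : allR testO 47104 1024 = true := by decide +kernel
theorem cO47 : allR testO 48128 1024 = true := by decide +kernel
theorem cO48 : allR testO 49152 1024 = true := by decide +kernel
theorem cO49 : allR testO 50176 1024 = true := by decide +kernel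
theorem cO50 : allR testO 51200 1024 = true := by decide +kernel
theorem cO51 : allR testO 52224 1024 = true := by decide +kernel
theorem cO52 : allR testO 53248 1024 = true := by decide +kernel
theorem cO53 : allR testO 54272 1024 = true := by decide +kernel
theorem cO54 : allR testO 55296 1024 = true := by decide +kernel
theorem cO55 : allR testO 56320 1024 = true := by decide +kernel
theorem cO56 : allR testO 57344 1024 = true := by decide +kernel
theorem cO57 : allR testO 58368 1024 = true := by decide +kernel
theorem cO58 : allR testO 59392 1024 = true := by decide +kernel
theorem cO59 : allR testO 60416 1024 = true := by decide +kernel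
theorem cO60 : allR testO 61440 1024 = true := by decide +kernel
theorem cO61 : allR testO 62464 1024 = true := by decide +kernel
theorem cO62 : allR testO 63488 1024 = true := by decide +kernel
theorem cO63 : allR testO 64512 1024 = true := by decide +kernel
theorem cO64 : allR testO 65536 1024 = true := by decide +kernel
theorem cO65 : allR testO 66560 1024 = true := by decide +kernel
theorem cO66 : allR testO 67584 1024 = true := by decide +kernel
theorem cO67 : allR testO 68608 1024 = true := by decide +kernel
theorem cO68 : allR testO 69632 1024 = true := by decide +kernel
theorem cO69 : allR testO 70656 1024 = true := by decide +kernel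
theorem cO70 : allR testO 71680 1024 = true := by decide +kernel
theorem cO71 : allR testO 72704 1024 = true := by decide +kernel
theorem cO72 : allR testO 73728 1024 = true := by decide +kernel
theorem cO73 : allR testO 74752 1024 = true := by decide +kernel
theorem cO74 : allR testO 75776 1024 = true := by decide +kernel
theorem cO75 : allR testO 76800 1024 = true := by decide +kernel
theorem cO76 : allR testO 77824 1024 = true := by decide +kernel
theorem cO77 : allR testO 78848 1024 = true := by decide +kernel
theorem cO78 : allR testO 79872 1024 = true := by decide +kernel
theorem cO79 : allR testO 80896 1024 = true := by decide +kernel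
theorem cO80 : allR testO 81920 1024 = true := by decide +kernel
theorem cO81 : allR testO 82944 1024 = true := by decide +kernel
theorem cO82 : allR testO 83968 1024 = true := by decide +kernel
theorem cO83 : allR testO 84992 1024 = true := by decide +kernel
theorem cO84 : allR testO 86016 1024 = true := by decide +kernel
theorem cO85 : allR testO 87040 1024 = true := by decide +kernel
theorem cO86 : allR testO 88064 1024 = true := by decide +kernel
theorem cO87 : allR testO 89088 1024 = true := by decide +kernel
theorem cO88 : allR testO 90112 1024 = true := by decide +kernel
theorem cO89 : allR testO 91136 1024 = true := by decide +kernel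
theorem cO90 : allR testO 92160 1024 = true := by decide +kernel
theorem cO91 : allR testO 93184 1024 = true := by decide +kernel
theorem cO92 : allR testO 94208 1024 = true := by decide +kernel
theorem cO93 : allR testO 95232 1024 = true := by decide +kernel
theorem cO94 : allR testO 96256 1024 = true := by decide +kernel
theorem cO95 : allR testO 97280 1024 = true := by decide +kernel
theorem cO96 : allR testO 98304 1024 = true := by decide +kernel
theorem cO97 : allR testO 99328 1024 = true := by decide +kernel
theorem cO98 : allR testO 100352 1024 = true := by decide +kernel
theorem cO99 : allR testO 101376 1024 = true := by decide +kernel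
theorem cO100 : allR testO 102400 1024 = true := by decide +kernel
theorem cO101 : allR testO 103424 1024 = true := by decide +kernel
theorem cO102 : allR testO 104448 1024 = true := by decide +kernel
theorem cO103 : allR testO 105472 1024 = true := by decide +kernel
theorem cO104 : allR testO 106496 1024 = true := by decide +kernel
theorem cO105 : allR testO 107520 1024 = true := by decide +kernel
theorem cO106 : allR testO 108544 1024 = true := by decide +kernel
theorem cO107 : allR testO 109568 1024 = true := by decide +kernel
theorem cO108 : allR testO 110592 1024 = true := by decide +kernel
theorem cO109 : allR testO 111616 1024 = true := by decide +kernel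
theorem cO110 : allR testO 112640 1024 = true := by decide +kernel
theorem cO111 : allR testO 113664 1024 = true := by decide +kernel
theorem cO112 : allR testO 114688 1024 = true := by decide +kernel
theorem cO113 : allR testO 115712 1024 = true := by decide +kernel
theorem cO114 : allR testO 116736 1024 = true := by decide +kernel
theorem cO115 : allR testO 117760 1024 = true := by decide +kernel
theorem cO116 : allR testO 118784 1024 = true := by decide +kernel
theorem cO117 : allR testO 119808 1024 = true := by decide +kernel
theorem cO118 : allR testO 120832 1024 = true := by decide +kernel
theorem cO119 : allR testO 121856 1024 = true := by decide +kernel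
theorem cO120 : allR testO 122880 1024 = true := by decide +kernel
theorem cO121 : allR testO 123904 1024 = true := by decide +kernel
theorem cO122 : allR testO 124928 1024 = true := by decide +kernel
theorem cO123 : allR testO 125952 1024 = true := by decide +kernel
theorem cO124 : allR testO 126976 1024 = true := by decide +kernel
theorem cO125 : allR testO 128000 1024 = true := by decide +kernel
theorem cO126 : allR testO 129024 1024 = true := by decide +kernel
theorem cO127 : allR testO 130048 1024 = true := by decide +kernel
theorem cO128 : allR testO 131072 1024 = true := by decide +kernel
theorem cO129 : allR testO 132096 1024 = true := by decide +kernel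
theorem cO130 : allR testO 133120 1024 = true := by decide +kernel
theorem cO131 : allR testO 134144 1024 = true := by decide +kernel
theorem cO132 : allR testO 135168 1024 = true := by decide +kernel
theorem cO133 : allR testO 136192 1024 = true := by decide +kernel
theorem cO134 : allR testO 137216 1024 = true := by decide +kernel
theorem cO135 : allR testO 138240 1024 = true := by decide +kernel
theorem cO136 : allR testO 139264 1024 = true := by decide +kernel
theorem cO137 : allR testO 140288 1024 = true := by decide +kernel
theorem cO138 : allR testO 141312 1024 = true := by decide +kernel
theorem cO139 : allR testO 142336 1024 = true := by decide +kernel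
theorem cO140 : allR testO 143360 1024 = true := by decide +kernel
theorem cO141 : allR testO 144384 1024 = true := by decide +kernel
theorem cO142 : allR testO 145408 1024 = true := by decide +kernel
theorem cO143 : allR testO 146432 1024 = true := by decide +kernel
theorem cO144 : allR testO 147456 1024 = true := by decide +kernel
theorem cO145 : allR testO 148480 1024 = true := by decide +kernel
theorem cO146 : allR testO 149504 1024 = true := by decide +kernel
theorem cO147 : allR testO 150528 1024 = true := by decide +kernel
theorem cO148 : allR testO 151552 1024 = true := by decide +kernel
theorem cO149 : allR testO 152576 1024 = true := by decide +kernel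
theorem cO150 : allR testO 153600 1024 = true := by decide +kernel
theorem cO151 : allR testO 154624 1024 = true := by decide +kernel
theorem cO152 : allR testO 155648 1024 = true := by decide +kernel
theorem cO153 : allR testO 156672 1024 = true := by decide +kernel
theorem cO154 : allR testO 157696 1024 = true := by decide +kernel
theorem cO155 : allR testO 158720 1024 = true := by decide +kernel
theorem cO156 : allR testO 159744 1024 = true := by decide +kernel
theorem cO157 : allR testO 160768 1024 = true := by decide +kernel
theorem cO158 : allR testO 161792 1024 = true := by decide +kernel
theorem cO159 : allR testO 162816 1024 = true := by decide +kernel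
theorem cO160 : allR testO 163840 1024 = true := by decide +kernel
theorem cO161 : allR testO 164864 1024 = true := by decide +kernel
theorem cO162 : allR testO 165888 1024 = true := by decide +kernel
theorem cO163 : allR testO 166912 1024 = true := by decide +kernel
theorem cO164 : allR testO 167936 1024 = true := by decide +kernel
theorem cO165 : allR testO 168960 1024 = true := by decide +kernel
theorem cO166 : allR testO 169984 1024 = true := by decide +kernel
theorem cO167 : allR testO 171008 1024 = true := by decide +kernel
theorem cO168 : allR testO 172032 1024 = true := by decide +kernel
theorem cO169 : allR testO 173056 1024 = true := by decide +kernel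
theorem cO170 : allR testO 174080 1024 = true := by decide +kernel
theorem cO171 : allR testO 175104 1024 = true := by decide +kernel
theorem cO172 : allR testO 176128 1024 = true := by decide +kernel
theorem cO173 : allR testO 177152 1024 = true := by decide +kernel
theorem cO174 : allR testO 178176 1024 = true := by decide +kernel
theorem cO175 : allR testO 179200 1024 = true := by decide +kernel
theorem cO176 : allR testO 180224 1024 = true := by decide +kernel
theorem cO177 : allR testO 181248 1024 = true := by decide +kernel
theorem cO178 : allR testO 182272 1024 = true := by decide +kernel
theorem cO179 : allR testO 183296 1024 = true := by decide +kernel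
theorem cO180 : allR testO 184320 1024 = true := by decide +kernel
theorem cO181 : allR testO 185344 1024 = true := by decide +kernel
theorem cO182 : allR testO 186368 1024 = true := by decide +kernel
theorem cO183 : allR testO 187392 1024 = true := by decide +kernel
theorem cO184 : allR testO 188416 1024 = true := by decide +kernel
theorem cO185 : allR testO 189440 1024 = true := by decide +kernel
theorem cO186 : allR testO 190464 1024 = true := by decide +kernel
theorem cO187 : allR testO 191488 1024 = true := by decide +kernel
theorem cO188 : allR testO 192512 1024 = true := by decide +kernel
theorem cO189 : allR testO 193536 1024 = true := by decide +kernel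
theorem cO190 : allR testO 194560 1024 = true := by decide +kernel
theorem cO191 : allR testO 195584 1024 = true := by decide +kernel
theorem cO192 : allR testO 196608 1024 = true := by decide +kernel
theorem cO193 : allR testO 197632 1024 = true := by decide +kernel
theorem cO194 : allR testO 198656 1024 = true := by decide +kernel
theorem cO195 : allR testO 199680 1024 = true := by decide +kernel
theorem cO196 : allR testO 200704 1024 = true := by decide +kernel
theorem cO197 : allR testO 201728 1024 = true := by decide +kernel
theorem cO198 : allR testO 202752 1024 = true := by decide +kernel
theorem cO199 : allR testO 203776 1024 = true := by decide +kernel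
theorem cO200 : allR testO 204800 1024 = true := by decide +kernel
theorem cO201 : allR testO 205824 1024 = true := by decide +kernel
theorem cO202 : allR testO 206848 1024 = true := by decide +kernel
theorem cO203 : allR testO 207872 1024 = true := by decide +kernel
theorem cO204 : allR testO 208896 1024 = true := by decide +kernel
theorem cO205 : allR testO 209920 1024 = true := by decide +kernel
theorem cO206 : allR testO 210944 1024 = true := by decide +kernel
theorem cO207 : allR testO 211968 1024 = true := by decide +kernel
theorem cO208 : allR testO 212992 1024 = true := by decide +kernel
theorem cO209 : allR testO 214016 1024 = true := by decide +kernel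
theorem cO210 : allR testO 215040 1024 = true := by decide +kernel
theorem cO211 : allR testO 216064 1024 = true := by decide +kernel
theorem cO212 : allR testO 217088 1024 = true := by decide +kernel
theorem cO213 : allR testO 218112 1024 = true := by decide +kernel
theorem cO214 : allR testO 219136 1024 = true := by decide +kernel
theorem cO215 : allR testO 220160 1024 = true := by decide +kernel
theorem cO216 : allR testO 221184 1024 = true := by decide +kernel
theorem cO217 : allR testO 222208 1024 = true := by decide +kernel
theorem cO218 : allR testO 223232 1024 = true := by decide +kernel
theorem cO219 : allR testO 224256 1024 = true := by decide +kernel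
theorem cO220 : allR testO 225280 1024 = true := by decide +kernel
theorem cO221 : allR testO 226304 1024 = true := by decide +kernel
theorem cO222 : allR testO 227328 1024 = true := by decide +kernel
theorem cO223 : allR testO 228352 1024 = true := by decide +kernel
theorem cO224 : allR testO 229376 1024 = true := by decide +kernel
theorem cO225 : allR testO 230400 1024 = true := by decide +kernel
theorem cO226 : allR testO 231424 1024 = true := by decide +kernel
theorem cO227 : allR testO 232448 1024 = true := by decide +kernel
theorem cO228 : allR testO 233472 1024 = true := by decide +kernel
theorem cO229 : allR testO 234496 1024 = true := by decide +kernel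
theorem cO230 : allR testO 235520 1024 = true := by decide +kernel
theorem cO231 : allR testO 236544 1024 = true := by decide +kernel
theorem cO232 : allR testO 237568 1024 = true := by decide +kernel
theorem cO233 : allR testO 238592 1024 = true := by decide +kernel
theorem cO234 : allR testO 239616 1024 = true := by decide +kernel
theorem cO235 : allR testO 240640 1024 = true := by decide +kernel
theorem cO236 : allR testO 241664 1024 = true := by decide +kernel
theorem cO237 : allR testO 242688 1024 = true := by decide +kernel
theorem cO238 : allR testO 243712 1024 = true := by decide +kernel
theorem cO239 : allR testO 244736 1024 = true := by decide +kernel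
theorem cO240 : allR testO 245760 1024 = true := by decide +kernel
theorem cO241 : allR testO 246784 1024 = true := by decide +kernel
theorem cO242 : allR testO 247808 1024 = true := by decide +kernel
theorem cO243 : allR testO 248832 1024 = true := by decide +kernel
theorem cO244 : allR testO 249856 1024 = true := by decide +kernel
theorem cO245 : allR testO 250880 1024 = true := by decide +kernel
theorem cO246 : allR testO 251904 1024 = true := by decide +kernel
theorem cO247 : allR testO 252928 1024 = true := by decide +kernel
theorem cO248 : allR testO 253952 1024 = true := by decide +kernel
theorem cO249 : allR testO 254976 1024 = true := by decide +kernel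
theorem cO250 : allR testO 256000 1024 = true := by decide +kernel
theorem cO251 : allR testO 257024 1024 = true := by decide +kernel
theorem cO252 : allR testO 258048 1024 = true := by decide +kernel
theorem cO253 : allR testO 259072 1024 = true := by decide +kernel
theorem cO254 : allR testO 260096 1024 = true := by decide +kernel
theorem cO255 : allR testO 261120 1024 = true := by decide +kernel

theorem cO_all {i : ℕ} (hi : i < 262144) : testO i = true := by
  have h : ∀ q < 256, allR testO (1024 * q) (min 1024 (262144 - 1024 * q)) = true := by
    intro q hq
    interval_cases q
    exacts [cO0, cO1, cO2, cO3, cO4, cO5, cO6, cO7, cO8, cO9, cO10, cO11, cO12, cO13, cO14, cO15, cO16, cO17, cO18, cO19, cO20, cO21, cO22, cO23, cO24, cO25, cO26, cO27, cO28, cO29, cO30, cO31, cO32, cO33, cO34, cO35, cO36, cO37, cO38, cO39, cO40, cO41, cO42, cO43, cO44, cO45, cO46, cO47, cO48, cO49, cO50, cO51, cO52, cO53, cO54, cO55, cO56, cO57, cO58, cO59, cO60, cO61, cO62, cO63, cO64, cO65, cO66, cO67, cO68, cO69, cO70, cO71, cO72, cO73, cO74, cO75, cO76, cO77, cO78, cO79, cO80, cO81, cO82, cO83, cO84, cO85, cO86, cO87, cO88, cO89, cO90, cO91, cO92, cO93, cO94, cO95, cO96, cO97, cO98, cO99, cO100, cO101, cO102, cO103, cO104,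 cO105, cO106, cO107, cO108, cO109, cO110, cO111, cO112, cO113, cO114, cO115, cO116, cO117, cO118, cO119, cO120, cO121, cO122, cO123, cO124, cO125, cO126, cO127, cO128, cO129, cO130, cO131, cO132, cO133, cO134, cO135, cO136, cO137, cO138, cO139, cO140, cO141, cO142, cO143, cO144, cO145, cO146, cO147, cO148, cO149, cO150, cO151, cO152, cO153, cO154, cO155, cO156, cO157, cO158, cO159, cO160, cO161, cO162, cO163, cO164, cO165, cO166, cO167, cO168, cO169, cO170, cO171, cO172, cO173, cO174, cO175, cO176, cO177, cO178, cO179, cO180, cO181, cO182, cO183, cO184, cO185, cO186, cO187, cO188, cO189, cO190, cO191, cO192, cO193, cO194, cO195, cO196, cO197, cO198, cO199, cO200, cO201, cO202, cO203, cO204, cO205, cO206, cO207, cO208, cO209, cO210, cO211, cO212, cO213, cO214, cO215, cO216, cO217, cO218, cO219, cO220, cO221, cO222, cO223, cO224, cO225, cO226, cO227, cO228, cO229, cO230, cO231, cO232, cO233, cO234, cO235, cO236, cO237, cO238, cO239, cO240, cO241, cO242, cO243, cO244, cO245, cO246, cO247, cO248, cO249, cO250, cO251, cO252, cO253, cO254, cO255]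
  have hq : i / 1024 < 256 := by omega
  refine allR_spec (h _ hq) i (Nat.mul_div_le i 1024) ?_
  omega


end Cfsg.Agent.H02.J3Q
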