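import Mathlib
import Cfsg.Agent.Lib.H09.Conj
import Cfsg.Agent.Lib.H01.Basic
import Cfsg.Agent.Lib.H01.Solv

set_option autoImplicit false

namespace Cfsg.Agent.H02

universe u

open scoped Pointwise

section Conj

variable {G : Type*} [Group G]

theorem smul_conj_eq_map (g : G) (H : Subgroup G) :
    MulAut.conj g • H = H.map (MulAut.conj g).toMonoidHom := rfl

theorem S0559_aux {H K A B : Subgroup G} (hHK : ∀ g : G, ∃ h ∈ H, ∃ k ∈ K, g = h * k)
    (hA : ∃ x : G, A = MulAut.conj x • H) (hB : ∃ y : G, B = MulAut.conj y • K) :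
    (∀ g : G, ∃ a ∈ A, ∃ b ∈ B, g = a * b) ∧
      ∃ g : G, A = MulAut.conj g • H ∧ B = MulAut.conj g • K := by
  obtain ⟨x, rfl⟩ := hA
  obtain ⟨y, rfl⟩ := hB
  obtain ⟨h, hh, k, hk, hxy⟩ := hHK (x⁻¹ * y)
  -- `g = x * h = y * k⁻¹`
  have hxh : x * h = y * k⁻¹ := by
    rw [eq_mul_inv_iff_mul_eq, mul_assoc, ← hxy]
    group
  have h1 : MulAut.conj (x * h) • H = MulAut.conj x • H := by
    rw [smul_conj_eq_map, smul_conj_eq_map, Cfsg.Agent.H09.map_conj_mul,
      Cfsg.Agent.H09.map_conj_eq_of_mem_normalizer (Subgroup.le_normalizer hh)]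
  have h2 : MulAut.conj (x * h) • K = MulAut.conj y • K := by
    rw [hxh, smul_conj_eq_map, smul_conj_eq_map, Cfsg.Agent.H09.map_conj_mul,
      Cfsg.Agent.H09.map_conj_eq_of_mem_normalizer (Subgroup.le_normalizer (K.inv_mem hk))]
  refine ⟨?_, x * h, h1.symm, h2.symm⟩
  intro g
  rw [← h1, ← h2]
  set z := x * h
  obtain ⟨h', hh', k', hk', he⟩ := hHK (z⁻¹ * g * z)
  refine ⟨z * h' * z⁻¹, ?_, z * k' * z⁻¹, ?_, ?_⟩
  · rw [smul_conj_eq_map]
    exact Cfsg.Agent.H09.conj_mem_map z hh'
  · rw [smul_conj_eq_map]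
    exact Cfsg.Agent.H09.conj_mem_map z hk'
  · calc g = z * (z⁻¹ * g * z) * z⁻¹ := by group
      _ = z * h' * z⁻¹ * (z * k' * z⁻¹) := by rw [he]; group

end Conj

section S0562

variable {G : Type*} [Group G] [Finite G]

theorem mem_normalizer_of_conj_le {J : Subgroup G} {h : G} (hle : ∀ x ∈ J, h * x * h⁻¹ ∈ J) :
    h ∈ Subgroup.normalizer (J : Set G) := by
  have h1 : J.map (MulAut.conj h).toMonoidHom ≤ J := by
    rintro _ ⟨x, hx, rfl⟩
    exact hle x hx
  have h2 : Nat.card (J.map (MulAut.conj h).toMonoidHom) = Nat.card J :=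
    Subgroup.card_map_of_injective (MulAut.conj h).injective
  have h3 : J.map (MulAut.conj h).toMonoidHom = J :=
    Subgroup.eq_of_le_of_card_ge h1 h2.ge
  exact Cfsg.Agent.H09.mem_normalizer_of_map_conj_eq h3

theorem S0562_aux {H K A B : Subgroup G} (hHK : ∀ g : G, ∃ h ∈ H, ∃ k ∈ K, g = h * k)
    (hA : A ≤ H) (hAn : (A.subgroupOf H).Normal) (hB : B ≤ K) (hBn : (B.subgroupOf K).Normal) :
    ∀ g ∈ Subgroup.normalizer ((A ⊔ B : Subgroup G) : Set G),
      ∃ h ∈ Subgroup.normalizer ((A ⊔ B : Subgroup G) : Set G) ⊓ H,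
        ∃ k ∈ Subgroup.normalizer ((A ⊔ B : Subgroup G) : Set G) ⊓ K, g = h * k := by
  intro g hg
  obtain ⟨h, hh, k, hk, rfl⟩ := hHK g
  set J := A ⊔ B with hJ
  have hnA : ∀ a ∈ A, h * a * h⁻¹ ∈ A := by
    intro a ha
    have := hAn.conj_mem ⟨a, hA ha⟩ ha ⟨h, hh⟩
    exact this
  have hnB : ∀ b ∈ B, k * b * k⁻¹ ∈ B := by
    intro b hb
    have := hBn.conj_mem ⟨b, hB hb⟩ hb ⟨k, hk⟩
    exact this
  have hnB' : ∀ b ∈ B, k⁻¹ * b * k ∈ B := by
    intro b hb
    have := hBn.conj_mem ⟨b, hB hb⟩ hb ⟨k, hk⟩⁻¹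
    rw [inv_inv] at this
    exact this
  have hhJ : h ∈ Subgroup.normalizer (J : Set G) := by
    apply mem_normalizer_of_conj_le
    have hle : J ≤ J.comap (MulAut.conj h).toMonoidHom := by
      rw [hJ]
      apply sup_le
      · intro a ha
        exact (le_sup_left : A ≤ A ⊔ B) (hnA a ha)
      · intro b hb
        have h1 : k⁻¹ * b * k ∈ J := (le_sup_right : B ≤ A ⊔ B) (hnB' b hb)
        have h2 := (Subgroup.mem_normalizer_iff.mp hg _).mp h1
        have h3 : h * k * (k⁻¹ * b * k) * (h * k)⁻¹ = h * b * h⁻¹ := by group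
        rw [h3] at h2
        exact h2
    intro x hx
    exact hle hx
  have hkJ : k ∈ Subgroup.normalizer (J : Set G) := by
    have := (Subgroup.normalizer (J : Set G)).mul_mem
      ((Subgroup.normalizer (J : Set G)).inv_mem hhJ) hg
    simpa using this
  exact ⟨h, ⟨hhJ, hh⟩, k, ⟨hkJ, hk⟩, rfl⟩

end S0562

section S0554

variable {G : Type u} [Group G]

theorem prod_ofFn_one (t : ℕ) : (List.ofFn (fun _ : Fin t => (1 : G))).prod = 1 := by
  induction t with
  | zero => simp
  | succ t ih => simp [List.ofFn_succ, ih]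

theorem prod_mul_normal {t : ℕ} (S : Fin t → Subgroup G) (N : Subgroup G) [hN : N.Normal]
    (j : Fin t) (hj : N ≤ S j) (s : Fin t → G) (hs : ∀ i, s i ∈ S i) (n : G) (hn : n ∈ N) :
    ∃ s' : Fin t → G, (∀ i, s' i ∈ S i) ∧ (List.ofFn s).prod * n = (List.ofFn s').prod := by
  induction t with
  | zero => exact j.elim0
  | succ t ih =>
    refine Fin.cases ?_ (fun j' hj' => ?_) j hj
    · intro hj0
      set r := (List.ofFn (fun i : Fin t => s i.succ)).prod with hr
      have hn' : r * n * r⁻¹ ∈ N := hN.conj_mem n hn r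
      refine ⟨Fin.cons (s 0 * (r * n * r⁻¹)) (fun i => s i.succ), ?_, ?_⟩
      · intro i
        refine Fin.cases ?_ (fun i' => ?_) i
        · simp only [Fin.cons_zero]
          exact (S 0).mul_mem (hs 0) (hj0 hn')
        · simp only [Fin.cons_succ]
          exact hs _
      · rw [List.ofFn_succ, List.ofFn_succ]
        simp only [Fin.cons_zero, Fin.cons_succ, List.prod_cons]
        rw [← hr]
        group
    · obtain ⟨s', hs', he⟩ := ih (fun i => S i.succ) j' hj' (fun i => s i.succ) (fun i => hs _)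
      refine ⟨Fin.cons (s 0) s', ?_, ?_⟩
      · intro i
        refine Fin.cases ?_ (fun i' => ?_) i
        · simp only [Fin.cons_zero]
          exact hs 0
        · simp only [Fin.cons_succ]
          exact hs' _
      · rw [List.ofFn_succ, List.ofFn_succ]
        simp only [Fin.cons_zero, Fin.cons_succ, List.prod_cons]
        rw [← he, mul_assoc]

theorem S0554_aux : ∀ (c : ℕ) (G : Type u) [Group G] [Finite G] [Group.IsSolvable G], Nat.card G = c →
    ∀ (t : ℕ) (p : Fin t → ℕ) (_hp : ∀ i, (p i).Prime)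
    (_hall : ∀ q : ℕ, q.Prime → q ∣ Nat.card G → ∃ i, p i = q) (S : (i : Fin t) → Sylow (p i) G),
    ∀ g : G, ∃ s : (i : Fin t) → G, (∀ i, s i ∈ (S i : Subgroup G)) ∧ g = (List.ofFn s).prod := by
  intro c
  induction c using Nat.strong_induction_on with
  | _ c ih =>
    intro G _ _ _ hc t p hp hall S g
    by_cases hnt : Nontrivial G
    · obtain ⟨N, hNn, hN, hNmin⟩ := Cfsg.Agent.H01.exists_minimal_normal (G := G)
      haveI := hNn
      obtain ⟨-, q, hq, hpow⟩ := Cfsg.Agent.H01.minimal_normal_elementary_abelian N hN hNmin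
      haveI : Fact q.Prime := ⟨hq⟩
      have hNq : IsPGroup q N := by
        intro x
        refine ⟨1, ?_⟩
        apply Subtype.ext
        simpa using hpow x.1 x.2
      have hntN : Nontrivial N := (Subgroup.nontrivial_iff_ne_bot N).mpr hN
      have hqd : q ∣ Nat.card G := by
        obtain ⟨k, hk⟩ := IsPGroup.iff_card.mp hNq
        have hk0 : k ≠ 0 := by
          rintro rfl
          rw [pow_zero] at hk
          have := Finite.one_lt_card (α := N)
          omega
        have h1 : Nat.card N ∣ Nat.card G := Subgroup.card_subgroup_dvd_card N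
        rw [hk] at h1
        exact (dvd_pow_self q hk0).trans h1
      obtain ⟨j, hj⟩ := hall q hq hqd
      subst hj
      haveI hf : ∀ i, Fact (p i).Prime := fun i => ⟨hp i⟩
      have hNS : N ≤ (S j : Subgroup G) := hNq.le_sylow_of_normal (S j)
      have hlt : Nat.card (G ⧸ N) < c := by
        rw [← hc]
        have h1 := N.card_mul_index
        have h2 : 1 < Nat.card N := Finite.one_lt_card
        have h3 : N.index = Nat.card (G ⧸ N) := rfl
        rw [← h3]
        have h4 : 0 < N.index := Nat.pos_of_ne_zero N.index_ne_zero_of_finite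
        nlinarith
      let π := QuotientGroup.mk' N
      have hπ : Function.Surjective π := QuotientGroup.mk'_surjective N
      have hall' : ∀ q' : ℕ, q'.Prime → q' ∣ Nat.card (G ⧸ N) → ∃ i, p i = q' := by
        intro q' hq' hd
        exact hall q' hq' (hd.trans (Subgroup.card_quotient_dvd_card N))
      obtain ⟨s, hs, hes⟩ := ih _ hlt (G ⧸ N) rfl t p hp hall'
        (fun i => (S i).mapSurjective hπ) (π g)
      have hlift : ∀ i, ∃ x ∈ (S i : Subgroup G), π x = s i := by
        intro i
        have := hs i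
        exact this
      choose x hx hxe using hlift
      have hprod : π (List.ofFn x).prod = (List.ofFn s).prod := by
        rw [map_list_prod, List.map_ofFn]
        congr 2
        funext i
        exact hxe i
      rw [← hprod] at hes
      have hmem : ((List.ofFn x).prod)⁻¹ * g ∈ N := by
        have : (g : G ⧸ N) = ((List.ofFn x).prod : G) := hes
        have h1 := QuotientGroup.eq.mp this.symm
        exact h1
      obtain ⟨s', hs', he⟩ := prod_mul_normal (fun i => (S i : Subgroup G)) N j hNS x hx _ hmem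
      refine ⟨s', hs', ?_⟩
      rw [← he]
      group
    · rw [not_nontrivial_iff_subsingleton] at hnt
      refine ⟨fun _ => 1, fun i => Subgroup.one_mem _, ?_⟩
      rw [prod_ofFn_one]
      exact Subsingleton.elim _ _

end S0554

end Cfsg.Agent.H02
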