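import Mathlib
import Cfsg.Agent.Lib.H02.SolvF

set_option autoImplicit false

namespace Cfsg.Agent.H02

universe u

open scoped Pointwise

variable {G : Type*} [Group G]

theorem mul_iSup_subgroup {ι : Sort*} (X : Subgroup G) (Y : ι → Subgroup G)
    (h : ∀ i, ∃ S : Subgroup G, (S : Set G) = (X : Set G) * (Y i : Set G)) :
    ∃ T : Subgroup G, (T : Set G) = (X : Set G) * ((⨆ i, Y i : Subgroup G) : Set G) := by
  set J := ⨆ i, Y i with hJ
  have hgen : ∀ i, ∀ y ∈ Y i, ∀ x ∈ X, ∃ x' ∈ X, ∃ y' ∈ Y i, y * x = x' * y' := by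
    intro i y hy x hx
    obtain ⟨S, hS⟩ := h i
    have hxS : x ∈ S := by
      rw [← SetLike.mem_coe, hS]
      exact ⟨x, hx, 1, (Y i).one_mem, by simp⟩
    have hyS : y ∈ S := by
      rw [← SetLike.mem_coe, hS]
      exact ⟨1, X.one_mem, y, hy, by simp⟩
    have hm : y * x ∈ (S : Set G) := S.mul_mem hyS hxS
    rw [hS] at hm
    obtain ⟨x', hx', y', hy', he⟩ := hm
    exact ⟨x', hx', y', hy', he.symm⟩
  have hJX : ∀ j ∈ J, ∀ x ∈ X, ∃ x' ∈ X, ∃ j' ∈ J, j * x = x' * j' := by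
    intro j hj
    refine Subgroup.iSup_induction Y (C := fun j => ∀ x ∈ X, ∃ x' ∈ X, ∃ j' ∈ J, j * x = x' * j') hj ?_ ?_ ?_
    · intro i y hy x hx
      obtain ⟨x', hx', y', hy', he⟩ := hgen i y hy x hx
      exact ⟨x', hx', y', Subgroup.mem_iSup_of_mem i hy', he⟩
    · intro x hx
      exact ⟨x, hx, 1, J.one_mem, by simp⟩
    · intro a b iha ihb x hx
      obtain ⟨x₁, hx₁, j₁, hj₁, he₁⟩ := ihb x hx
      obtain ⟨x₂, hx₂, j₂, hj₂, he₂⟩ := iha x₁ hx₁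
      refine ⟨x₂, hx₂, j₂ * j₁, J.mul_mem hj₂ hj₁, ?_⟩
      rw [mul_assoc, he₁, ← mul_assoc, he₂, mul_assoc]
  refine ⟨{ carrier := (X : Set G) * (J : Set G)
            one_mem' := ⟨1, X.one_mem, 1, J.one_mem, by simp⟩
            mul_mem' := ?_
            inv_mem' := ?_ }, rfl⟩
  · rintro _ _ ⟨x, hx, j, hj, rfl⟩ ⟨x', hx', j', hj', rfl⟩
    obtain ⟨x'', hx'', j'', hj'', he⟩ := hJX j hj x' hx'
    refine ⟨x * x'', X.mul_mem hx hx'', j'' * j', J.mul_mem hj'' hj', ?_⟩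
    change x * x'' * (j'' * j') = x * j * (x' * j')
    calc x * x'' * (j'' * j') = x * (x'' * j'') * j' := by group
      _ = x * (j * x') * j' := by rw [he]
      _ = x * j * (x' * j') := by group
  · rintro _ ⟨x, hx, j, hj, rfl⟩
    obtain ⟨x'', hx'', j'', hj'', he⟩ := hJX j⁻¹ (J.inv_mem hj) x⁻¹ (X.inv_mem hx)
    refine ⟨x'', hx'', j'', hj'', ?_⟩
    change x'' * j'' = (x * j)⁻¹
    rw [← he, mul_inv_rev]

theorem conj_smul_smul (x z : G) (B : Subgroup G) :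
    MulAut.conj x • (MulAut.conj z • B) = MulAut.conj (x * z) • B := by
  rw [map_mul, mul_smul]

/-- Kegel's condition. -/
def KegelGood (A B : Subgroup G) : Prop :=
  ∀ x : G, ∃ S : Subgroup G, S ≠ ⊤ ∧ (S : Set G) = (A : Set G) * ((MulAut.conj x • B : Subgroup G) : Set G)

theorem kegelGood_conj {A B : Subgroup G} (h : KegelGood A B) (z : G) :
    KegelGood A (MulAut.conj z • B) := by
  intro x
  rw [conj_smul_smul]
  exact h _

theorem conj_smul_iSup {ι : Sort*} (x : G) (Y : ι → Subgroup G) :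
    MulAut.conj x • (⨆ i, Y i : Subgroup G) = ⨆ i, MulAut.conj x • Y i := by
  change (⨆ i, Y i : Subgroup G).map (MulAut.conj x).toMonoidHom = ⨆ i, (Y i).map (MulAut.conj x).toMonoidHom
  rw [Subgroup.map_iSup]

theorem mem_conj_smul_iff {x y : G} {J : Subgroup G} : y ∈ MulAut.conj x • J ↔ x⁻¹ * y * x ∈ J := by
  rw [Subgroup.mem_pointwise_smul_iff_inv_smul_mem, MulAut.smul_def, MulAut.conj_inv_apply]

theorem kegelGood_star {A B : Subgroup G} (h : KegelGood A B) :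
    KegelGood A (⨆ a : A, MulAut.conj (a : G) • B) := by
  intro x
  set J := ⨆ a : A, MulAut.conj (a : G) • B with hJ
  have hJx : MulAut.conj x • J = ⨆ a : A, MulAut.conj x • (MulAut.conj (a : G) • B) := by
    rw [hJ, conj_smul_iSup]
  obtain ⟨T, hT⟩ := mul_iSup_subgroup A (fun a : A => MulAut.conj x • (MulAut.conj (a : G) • B)) (by
    intro a
    rw [conj_smul_smul]
    obtain ⟨S, -, hS⟩ := h (x * a)
    exact ⟨S, hS⟩)
  rw [← hJx] at hT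
  refine ⟨T, ?_, hT⟩
  obtain ⟨S₀, hS₀, hS₀e⟩ := h 1
  have hmem1 : ∀ b ∈ B, b ∈ S₀ := by
    intro b hb
    rw [← SetLike.mem_coe, hS₀e]
    refine ⟨1, A.one_mem, b, ?_, by simp⟩
    simpa using hb
  have hmemA : ∀ a ∈ A, a ∈ S₀ := by
    intro a ha
    rw [← SetLike.mem_coe, hS₀e]
    refine ⟨a, ha, 1, Subgroup.one_mem _, by simp⟩
  have hJS : J ≤ S₀ := by
    apply iSup_le
    intro a y hy
    rw [mem_conj_smul_iff] at hy
    have h1 := hmem1 _ hy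
    have h2 := S₀.mul_mem (S₀.mul_mem (hmemA a a.2) h1) (S₀.inv_mem (hmemA a a.2))
    simpa [mul_assoc] using h2
  intro hTtop
  apply hS₀
  -- `x⁻¹ ∈ T`
  have hxT : x⁻¹ ∈ (T : Set G) := by rw [hTtop]; trivial
  rw [hT] at hxT
  obtain ⟨a₀, ha₀, w, hw, he⟩ := hxT
  have hw' : x⁻¹ * w * x ∈ J := mem_conj_smul_iff.mp hw
  have hbJ : x⁻¹ * w * x ∈ S₀ := hJS hw'
  have he' : a₀ * w = x⁻¹ := he
  have hw2 : w = a₀⁻¹ * x⁻¹ := by rw [← he']; group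
  -- x⁻¹ w x = x⁻¹ a₀⁻¹ : so x⁻¹ ∈ S₀
  have hx1 : x⁻¹ * a₀⁻¹ ∈ S₀ := by
    have : x⁻¹ * w * x = x⁻¹ * a₀⁻¹ := by rw [hw2]; group
    rwa [this] at hbJ
  have hxS : x ∈ S₀ := by
    have h3 := S₀.mul_mem hx1 (hmemA a₀ ha₀)
    have : x⁻¹ * a₀⁻¹ * a₀ = x⁻¹ := by group
    rw [this] at h3
    simpa using S₀.inv_mem h3
  -- then `T ≤ S₀`
  apply eq_top_iff.mpr
  rw [← hTtop]
  intro t ht
  rw [← SetLike.mem_coe, hT] at ht
  obtain ⟨a, ha, w', hw', rfl⟩ := ht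
  have hw'' : x⁻¹ * w' * x ∈ J := mem_conj_smul_iff.mp hw'
  have h4 := hJS hw''
  have h5 : w' = x * (x⁻¹ * w' * x) * x⁻¹ := by group
  refine S₀.mul_mem (hmemA a ha) ?_
  rw [h5]
  exact S₀.mul_mem (S₀.mul_mem hxS h4) (S₀.inv_mem hxS)

theorem kegel_lemma {G : Type*} [Group G] [Finite G] (A B : Subgroup G)
    (h : KegelGood A B) : ∃ N : Subgroup G, N.Normal ∧ N ≠ ⊤ ∧ (A ≤ N ∨ B ≤ N) := by
  classical
  let 𝒮 : Set (Subgroup G) := {B' | B ≤ B' ∧ KegelGood A B'}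
  have hne : 𝒮.Nonempty := ⟨B, le_refl _, h⟩
  obtain ⟨B₁, hB₁⟩ := 𝒮.toFinite.exists_maximal hne
  have hB₁mem : B₁ ∈ 𝒮 := hB₁.1
  have hmax : ∀ y ∈ 𝒮, B₁ ≤ y → y ≤ B₁ := fun y hy hle => hB₁.2 hy hle
  have hgood : KegelGood A B₁ := hB₁mem.2
  have hBB₁ : B ≤ B₁ := hB₁mem.1
  -- key: `a (z B₁ z⁻¹) a⁻¹ ≤ z B₁ z⁻¹`
  have hkey : ∀ z : G, ∀ a ∈ A, ∀ b ∈ B₁, z⁻¹ * a * (z * b * z⁻¹) * a⁻¹ * z ∈ B₁ := by
    intro z a ha b hb
    have hg1 : KegelGood A (MulAut.conj z • B₁) := kegelGood_conj hgood z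
    have hg2 := kegelGood_star hg1
    have hg3 := kegelGood_conj hg2 z⁻¹
    have hle : B₁ ≤ MulAut.conj z⁻¹ • (⨆ a : A, MulAut.conj (a : G) • (MulAut.conj z • B₁)) := by
      intro y hy
      rw [mem_conj_smul_iff]
      refine Subgroup.mem_iSup_of_mem (1 : A) ?_
      rw [mem_conj_smul_iff, mem_conj_smul_iff]
      have : z⁻¹ * ((↑(1 : A) : G)⁻¹ * (z⁻¹⁻¹ * y * z⁻¹) * (↑(1 : A) : G)) * z = y := by
        simp only [OneMemClass.coe_one, inv_one, mul_one, one_mul, inv_inv]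
        group
      rw [this]
      exact hy
    have hin : MulAut.conj z⁻¹ • (⨆ a : A, MulAut.conj (a : G) • (MulAut.conj z • B₁)) ∈ 𝒮 :=
      ⟨hBB₁.trans hle, hg3⟩
    have hle2 := hmax _ hin hle
    apply hle2
    rw [mem_conj_smul_iff]
    refine Subgroup.mem_iSup_of_mem ⟨a, ha⟩ ?_
    rw [mem_conj_smul_iff, mem_conj_smul_iff]
    have : z⁻¹ * ((↑(⟨a, ha⟩ : A) : G)⁻¹ * (z⁻¹⁻¹ * (z⁻¹ * a * (z * b * z⁻¹) * a⁻¹ * z) * z⁻¹) * (↑(⟨a, ha⟩ : A) : G)) * z = b := by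
      simp only [inv_inv]
      group
    rw [this]
    exact hb
  have hnorm : ∀ z : G, ∀ a ∈ A, z⁻¹ * a * z ∈ Subgroup.normalizer (B₁ : Set G) := by
    intro z a ha
    apply mem_normalizer_of_conj_le
    intro b hb
    have := hkey z a ha b hb
    have he : (z⁻¹ * a * z) * b * (z⁻¹ * a * z)⁻¹ = z⁻¹ * a * (z * b * z⁻¹) * a⁻¹ * z := by group
    rw [he]
    exact this
  have hcl : Subgroup.normalClosure (A : Set G) ≤ Subgroup.normalizer (B₁ : Set G) := by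
    rw [Subgroup.normalClosure]
    rw [Subgroup.closure_le]
    intro y hy
    obtain ⟨a, ha, hc⟩ := Group.mem_conjugatesOfSet_iff.mp hy
    obtain ⟨g, rfl⟩ := isConj_iff.mp hc
    have := hnorm g⁻¹ a ha
    simpa using this
  by_cases htop : Subgroup.normalClosure (A : Set G) = ⊤
  · have hN : B₁.Normal := by
      rw [htop] at hcl
      exact Subgroup.normalizer_eq_top_iff.mp (top_le_iff.mp hcl)
    refine ⟨B₁, hN, ?_, Or.inr hBB₁⟩
    intro hB₁top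
    obtain ⟨S, hS, hSe⟩ := hgood 1
    apply hS
    rw [eq_top_iff, ← hB₁top]
    intro b hb
    rw [← SetLike.mem_coe, hSe]
    refine ⟨1, A.one_mem, b, ?_, by simp⟩
    simpa using hb
  · exact ⟨_, inferInstance, htop, Or.inl (Subgroup.le_normalClosure)⟩

end Cfsg.Agent.H02
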