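import Mathlib
import Cfsg.Agent.Lib.H13.FrobFusion
import Cfsg.Agent.Lib.H18.Nilp
import Cfsg.Agent.Lib.H01.Fitting
import Cfsg.Agent.Lib.H01.Hall
import Cfsg.Agent.Lib.H02.SolvL
import Cfsg.Agent.Lib.H02.SolvF
import Cfsg.Prelude.Def_SolvableStructure

set_option autoImplicit false

namespace Cfsg.Agent.H02

universe u

open Cfsg

theorem exists_normal_prime_index {G : Type u} [Group G] [Finite G] [Group.IsSolvable G] [Nontrivial G] :
    ∃ M : Subgroup G, M.Normal ∧ M.index.Prime := by
  classical
  have hK : commutator G ≠ ⊤ := by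
    intro h
    obtain ⟨n, hn⟩ := (isSolvable_def G).mp inferInstance
    have h2 : ∀ m, derivedSeries G m = ⊤ := by
      intro m
      induction m with
      | zero => rfl
      | succ m ih =>
        rw [derivedSeries_succ, ih]
        have : (⁅(⊤ : Subgroup G), (⊤ : Subgroup G)⁆) = commutator G := rfl
        rw [this, h]
    rw [h2] at hn
    exact top_ne_bot hn
  obtain ⟨M, hM, hKM⟩ := (eq_top_or_exists_le_coatom (commutator G)).resolve_left hK
  have hMn : M.Normal := by
    constructor
    intro x hx g
    have h1 : g * x * g⁻¹ * x⁻¹ ∈ M := hKM (Subgroup.commutator_mem_commutator (Subgroup.mem_top g) (Subgroup.mem_top x))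
    have h2 : g * x * g⁻¹ = (g * x * g⁻¹ * x⁻¹) * x := by group
    rw [h2]
    exact M.mul_mem h1 hx
  refine ⟨M, hMn, ?_⟩
  have hcomm : IsMulCommutative (G ⧸ M) := by
    refine ⟨⟨fun a b => ?_⟩⟩
    induction a using QuotientGroup.induction_on with
    | H a =>
    induction b using QuotientGroup.induction_on with
    | H b =>
    rw [← QuotientGroup.mk_mul, ← QuotientGroup.mk_mul, QuotientGroup.eq]
    have h1 : b⁻¹ * a⁻¹ * (b⁻¹)⁻¹ * (a⁻¹)⁻¹ ∈ M := hKM (Subgroup.commutator_mem_commutator (Subgroup.mem_top _) (Subgroup.mem_top _))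
    have h2 : (a * b)⁻¹ * (b * a) = b⁻¹ * a⁻¹ * (b⁻¹)⁻¹ * (a⁻¹)⁻¹ := by
      group
    rw [h2]
    exact h1
  have hnt : Nontrivial (G ⧸ M) := by
    apply QuotientGroup.nontrivial_iff.mpr hM.1
  have hsimple : IsSimpleGroup (G ⧸ M) := by
    constructor
    intro N _
    have h1 : M ≤ N.comap (QuotientGroup.mk' M) := by
      intro x hx
      rw [Subgroup.mem_comap]
      have : (QuotientGroup.mk' M) x = 1 := (QuotientGroup.eq_one_iff x).mpr hx
      rw [this]
      exact N.one_mem
    rcases h1.lt_or_eq with h2 | h2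
    · right
      have h3 := hM.2 _ h2
      have hs := QuotientGroup.mk'_surjective M
      rw [eq_top_iff]
      intro y _
      obtain ⟨x, rfl⟩ := hs y
      have hx : x ∈ N.comap (QuotientGroup.mk' M) := by rw [h3]; trivial
      exact hx
    · left
      rw [eq_bot_iff]
      intro y hy
      obtain ⟨x, rfl⟩ := QuotientGroup.mk'_surjective M y
      have hx : x ∈ M := by rw [h2]; exact hy
      exact (Subgroup.mem_bot).mpr ((QuotientGroup.eq_one_iff x).mpr hx)
  exact Group.is_simple_iff_prime_card.mp hsimple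

theorem comm_of_mem_nilpotent {G : Type*} [Group G] {T : Subgroup G} (hT : Group.IsNilpotent T) {a b : G}
    (ha : a ∈ T) (hb : b ∈ T) (hc : (orderOf a).Coprime (orderOf b)) : a * b = b * a := by
  have := Cfsg.Agent.H18.commute_of_coprime_orderOf T ⟨a, ha⟩ ⟨b, hb⟩ (by simpa [Subgroup.orderOf_mk] using hc)
  exact congrArg Subtype.val this.eq

theorem IsMinimalNonNilpotent_quot {G : Type u} [Group G] [Finite G] (hG : IsMinimalNonNilpotent G)
    (N : Subgroup G) [N.Normal] (hnot : ¬ Group.IsNilpotent (G ⧸ N)) : IsMinimalNonNilpotent (G ⧸ N) := by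
  refine ⟨hnot, ?_⟩
  intro K hK
  have hne : K.comap (QuotientGroup.mk' N) ≠ ⊤ := by
    intro h
    apply hK
    rw [eq_top_iff]
    intro y _
    obtain ⟨x, rfl⟩ := QuotientGroup.mk'_surjective N y
    have : x ∈ K.comap (QuotientGroup.mk' N) := by rw [h]; trivial
    exact this
  have hnil := hG.2 _ hne
  exact nilpotent_of_surjective ((QuotientGroup.mk' N).subgroupComap K)
    ((QuotientGroup.mk' N).subgroupComap_surjective_of_surjective K (QuotientGroup.mk'_surjective N))

theorem solvable_of_normal_quot {G : Type u} [Group G] (N : Subgroup G) [N.Normal]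
    (h1 : Group.IsSolvable N) (h2 : Group.IsSolvable (G ⧸ N)) : Group.IsSolvable G := by
  refine Group.isSolvable_of_ker_le_range N.subtype (QuotientGroup.mk' N) ?_
  intro x hx
  have h3 : x ∈ N := by
    rw [MonoidHom.mem_ker] at hx
    exact (QuotientGroup.eq_one_iff x).mp hx
  exact ⟨⟨x, h3⟩, rfl⟩

theorem minNonNil_solvable : ∀ (n : ℕ) (G : Type u) [Group G] [Finite G], Nat.card G = n →
    IsMinimalNonNilpotent G → Group.IsSolvable G := by
  intro n
  induction n using Nat.strong_induction_on with
  | _ n ih =>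
  intro G _ _ hn hG
  classical
  have hnt : Nontrivial G := by
    by_contra hnt
    rw [not_nontrivial_iff_subsingleton] at hnt
    exact hG.1 inferInstance
  have h1G : 1 < Nat.card G := Finite.one_lt_card
  obtain ⟨p, hp, hpG⟩ := Nat.exists_prime_and_dvd h1G.ne'
  haveI : Fact p.Prime := ⟨hp⟩
  by_cases hF : Cfsg.Agent.H13.FrobCond p G
  · obtain ⟨P, N, hN, hc⟩ := Cfsg.Agent.H13.hasNormalPComplement_of_frobCond hF
    have hNtop : N ≠ ⊤ := by
      rintro rfl
      have h2 := hc.disjoint
      have h3 : (P : Subgroup G) = ⊥ := by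
        rw [disjoint_comm] at h2
        exact disjoint_top.mp (by simpa using h2)
      have h4 := Sylow.card_eq_multiplicity P
      rw [h3, Subgroup.card_bot] at h4
      have h5 : 0 < (Nat.card G).factorization p := hp.factorization_pos_of_dvd Nat.card_pos.ne' hpG
      have h6 : 1 < p ^ (Nat.card G).factorization p := Nat.one_lt_pow h5.ne' hp.one_lt
      omega
    have hNnil := hG.2 N hNtop
    have hNsol : Group.IsSolvable N := inferInstance
    have hquot : IsPGroup p (G ⧸ N) := by
      rw [IsPGroup.iff_card]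
      have h7 : Nat.card (G ⧸ N) = Nat.card P := by
        have h8 : N.index = Nat.card P := hc.symm.index_eq_card
        exact h8
      rw [h7, Sylow.card_eq_multiplicity]
      exact ⟨_, rfl⟩
    have hqnil := hquot.isNilpotent
    exact solvable_of_normal_quot N hNsol inferInstance
  · unfold Cfsg.Agent.H13.FrobCond at hF
    push Not at hF
    obtain ⟨Q, hQ, g, hgN, hgc, hgC⟩ := hF
    have hNtop : Subgroup.normalizer (Q : Set G) = ⊤ := by
      by_contra hne
      have hnil := hG.2 _ hne
      apply hgC
      rw [Subgroup.mem_centralizer_iff]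
      intro y hy
      obtain ⟨k, hk⟩ := (IsPGroup.iff_orderOf.mp hQ) ⟨y, hy⟩
      have hoy : orderOf y = p ^ k := by
        rw [← hk, Subgroup.orderOf_mk]
      have hcop : (orderOf y).Coprime (orderOf g) := by
        rw [hoy]
        exact (Nat.Coprime.pow_left k hgc.symm)
      exact comm_of_mem_nilpotent hnil (Subgroup.le_normalizer hy) hgN hcop
    have hQn : Q.Normal := Subgroup.normalizer_eq_top_iff.mp hNtop
    have hQbot : Q ≠ ⊥ := by
      rintro rfl
      apply hgC
      rw [Subgroup.mem_centralizer_iff]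
      intro y hy
      have : y = 1 := hy
      simp [this]
    have hlt : Nat.card (G ⧸ Q) < n := by
      rw [← hn]
      have h1 := Subgroup.card_eq_card_quotient_mul_card_subgroup Q
      have h2 : 1 < Nat.card Q := by
        have : Nontrivial Q := (Subgroup.nontrivial_iff_ne_bot Q).mpr hQbot
        exact Finite.one_lt_card
      have h3 : 0 < Nat.card (G ⧸ Q) := Nat.card_pos
      rw [h1]
      exact lt_mul_of_one_lt_right h3 h2
    have hQsol : Group.IsSolvable Q := by
      have := hQ.isNilpotent
      infer_instance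
    by_cases hnq : Group.IsNilpotent (G ⧸ Q)
    · exact solvable_of_normal_quot Q hQsol inferInstance
    · exact solvable_of_normal_quot Q hQsol
        (ih _ hlt (G ⧸ Q) rfl (IsMinimalNonNilpotent_quot hG Q hnq))

end Cfsg.Agent.H02
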