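import Mathlib
import Cfsg.Agent.Lib.H02.Schmidt

set_option autoImplicit false

namespace Cfsg.Agent.H02

universe u

open Cfsg

theorem normal_sylow_of_le_nilpotent {G : Type u} [Group G] [Finite G] {q : ℕ} [Fact q.Prime] (Q : Sylow q G)
    (M : Subgroup G) [hM : M.Normal] (hnil : Group.IsNilpotent M) (hQM : (Q : Subgroup G) ≤ M) :
    (Q : Subgroup G).Normal := by
  classical
  let R : Sylow q M := Q.subtype hQM
  have hRn : (R : Subgroup M).Normal := by
    have := (Group.isNilpotent_of_finite_tfae (G := M)).out 0 3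
    exact this.mp hnil q inferInstance R
  haveI hsub := Sylow.unique_of_normal R hRn |>.instSubsingleton
  constructor
  intro x hx g
  let X : Subgroup G := (Q : Subgroup G).map (MulAut.conj g).toMonoidHom
  have hXp : IsPGroup q X := Q.isPGroup'.map _
  have hXM : X ≤ M := by
    rintro _ ⟨y, hy, rfl⟩
    exact hM.conj_mem y (hQM hy) g
  have hX' : IsPGroup q (X.subgroupOf M) := hXp.comap_of_injective M.subtype M.subtype_injective
  obtain ⟨R', hR'⟩ := hX'.exists_le_sylow
  have hRR' : R' = R := Subsingleton.elim _ _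
  rw [hRR'] at hR'
  have hmem : g * x * g⁻¹ ∈ X := ⟨x, hx, rfl⟩
  have h1 : (⟨g * x * g⁻¹, hXM hmem⟩ : M) ∈ (R : Subgroup M) := hR' (Subgroup.mem_subgroupOf.mpr hmem)
  rw [Sylow.coe_subtype, Subgroup.mem_subgroupOf] at h1
  exact h1

theorem sylow_le_of_index_prime {G : Type u} [Group G] [Finite G] {q : ℕ} [Fact q.Prime] (Q : Sylow q G)
    (M : Subgroup G) [hM : M.Normal] (hne : q ≠ M.index) (hM2 : M.index.Prime) : (Q : Subgroup G) ≤ M := by
  have hq : q.Prime := Fact.out
  rw [← Subgroup.relIndex_eq_one]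
  have h1 : M.relIndex Q ∣ M.index := Subgroup.relIndex_dvd_index_of_normal M Q
  have h2 : M.relIndex Q ∣ Nat.card Q := Subgroup.relIndex_dvd_card M Q
  rw [Sylow.card_eq_multiplicity] at h2
  obtain ⟨k, -, hk⟩ := (Nat.dvd_prime_pow hq).mp h2
  rw [hk] at h1 ⊢
  rcases k with _ | k
  · simp
  · exfalso
    have h3 : q ∣ M.index := (dvd_pow_self q (Nat.succ_ne_zero k)).trans h1
    exact hne ((Nat.prime_dvd_prime_iff_eq hq hM2).mp h3)

theorem schmidt {G : Type u} [Group G] [Finite G] (hG : IsMinimalNonNilpotent G) :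
    ∃ (p q : ℕ) (_ : Fact p.Prime) (_ : Fact q.Prime), p ≠ q ∧ ∃ (P : Sylow p G) (Q : Sylow q G),
      IsCyclic P ∧ (Q : Subgroup G).Normal ∧ (P : Subgroup G) ⊔ Q = ⊤ ∧
      ¬ ∀ x ∈ (P : Subgroup G), ∀ y ∈ (Q : Subgroup G), x * y = y * x := by
  classical
  have hsol : Group.IsSolvable G := minNonNil_solvable _ G rfl hG
  have hnt : Nontrivial G := by
    by_contra hnt
    rw [not_nontrivial_iff_subsingleton] at hnt
    exact hG.1 inferInstance
  obtain ⟨M, hMn, hMp⟩ := exists_normal_prime_index (G := G)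
  set p := M.index with hp
  haveI hpf : Fact p.Prime := ⟨hMp⟩
  have hMtop : M ≠ ⊤ := by
    rintro rfl
    rw [hp, Subgroup.index_top] at hMp
    exact Nat.not_prime_one hMp
  have hMnil := hG.2 M hMtop
  obtain ⟨P⟩ : Nonempty (Sylow p G) := inferInstance
  have hQM : ∀ (q : ℕ) [Fact q.Prime], q ≠ p → ∀ Q : Sylow q G, (Q : Subgroup G) ≤ M :=
    fun q _ hqp Q => sylow_le_of_index_prime Q M hqp hMp
  have hQn : ∀ (q : ℕ) [Fact q.Prime], q ≠ p → ∀ Q : Sylow q G, (Q : Subgroup G).Normal :=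
    fun q _ hqp Q => normal_sylow_of_le_nilpotent Q M hMnil (hQM q hqp Q)
  have hclaim : ∃ (q : ℕ) (_ : Fact q.Prime), q ≠ p ∧ ∃ Q : Sylow q G,
      ¬ ∀ x ∈ (P : Subgroup G), ∀ y ∈ (Q : Subgroup G), x * y = y * x := by
    by_contra hcon
    push Not at hcon
    apply hG.1
    have hPn : (P : Subgroup G).Normal := by
      rw [← Subgroup.normalizer_eq_top_iff]
      apply Cfsg.Agent.H01.eq_top_of_forall_sylow_le
      intro r hr
      by_cases hrp : r = p
      · subst hrp
        exact ⟨P, Subgroup.le_normalizer⟩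
      · obtain ⟨R⟩ : Nonempty (Sylow r G) := inferInstance
        refine ⟨R, ?_⟩
        intro x hx
        apply mem_normalizer_of_conj_le
        intro y hy
        have h1 := hcon r hr hrp R y hy x hx
        have h2 : x * y * x⁻¹ = y := by
          rw [← h1]
          group
        rw [h2]
        exact hy
    have hT := (Group.isNilpotent_of_finite_tfae (G := G)).out 0 3
    apply hT.mpr
    intro r hr R
    by_cases hrp : r = p
    · subst hrp
      haveI := Sylow.unique_of_normal P hPn |>.instSubsingleton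
      rw [Subsingleton.elim R P]
      exact hPn
    · exact hQn r hrp R
  obtain ⟨q, hqf, hqp, Q, hnc⟩ := hclaim
  have hQnorm := hQn q hqp Q
  have hPq : p ≠ q := hqp.symm
  have hcop : ∀ x ∈ (P : Subgroup G), ∀ y ∈ (Q : Subgroup G), (orderOf x).Coprime (orderOf y) := by
    intro x hx y hy
    obtain ⟨a, ha⟩ := (IsPGroup.iff_orderOf.mp P.isPGroup') ⟨x, hx⟩
    obtain ⟨b, hb⟩ := (IsPGroup.iff_orderOf.mp Q.isPGroup') ⟨y, hy⟩
    rw [Subgroup.orderOf_mk] at ha hb
    rw [ha, hb]
    exact Nat.coprime_pow_primes _ _ Fact.out Fact.out hPq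
  have hT : (P : Subgroup G) ⊔ Q = ⊤ := by
    by_contra hne
    have hnil := hG.2 _ hne
    apply hnc
    intro x hx y hy
    exact comm_of_mem_nilpotent hnil ((le_sup_left : (P : Subgroup G) ≤ _) hx)
      ((le_sup_right : (Q : Subgroup G) ≤ _) hy) (hcop x hx y hy)
  refine ⟨p, q, hpf, hqf, hPq, P, Q, ?_, hQnorm, hT, hnc⟩
  by_contra hncyc
  apply hnc
  intro x hx y hy
  have hXP : Subgroup.zpowers x ≤ (P : Subgroup G) := by
    rw [Subgroup.zpowers_le]
    exact hx
  have hne : Subgroup.zpowers x ⊔ (Q : Subgroup G) ≠ ⊤ := by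
    intro htop
    have h1 := Cfsg.Agent.H01.card_sup_mul_card_inf (Subgroup.zpowers x) (Q : Subgroup G)
    have h2 := Cfsg.Agent.H01.card_sup_mul_card_inf (P : Subgroup G) (Q : Subgroup G)
    have hd1 : Disjoint (Subgroup.zpowers x) (Q : Subgroup G) :=
      IsPGroup.disjoint_of_ne p q hPq _ _ (P.isPGroup'.to_le hXP) Q.isPGroup'
    have hd2 : Disjoint (P : Subgroup G) (Q : Subgroup G) :=
      IsPGroup.disjoint_of_ne p q hPq _ _ P.isPGroup' Q.isPGroup'
    rw [htop, hd1.eq_bot, Subgroup.card_bot, mul_one] at h1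
    rw [hT, hd2.eq_bot, Subgroup.card_bot, mul_one] at h2
    rw [h1] at h2
    have h3 : Nat.card (Subgroup.zpowers x) = Nat.card (P : Subgroup G) :=
      Nat.eq_of_mul_eq_mul_right Nat.card_pos h2
    have h4 : Subgroup.zpowers x = (P : Subgroup G) := Subgroup.eq_of_le_of_card_ge hXP h3.ge
    apply hncyc
    have : IsCyclic (Subgroup.zpowers x) := inferInstance
    rw [h4] at this
    exact this
  have hnil := hG.2 _ hne
  exact comm_of_mem_nilpotent hnil ((le_sup_left : Subgroup.zpowers x ≤ _) (Subgroup.mem_zpowers x))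
    ((le_sup_right : (Q : Subgroup G) ≤ _) hy) (hcop x hx y hy)

end Cfsg.Agent.H02
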