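import Mathlib
import Cfsg.Agent.Lib.H02.SolvI

set_option autoImplicit false

namespace Cfsg.Agent.H02

universe u

open scoped commutatorElement Pointwise

section S0586

variable {G : Type*} [Group G] [Finite G]

theorem isNilpotent_of_isMulCommutative (N : Subgroup G) (h : IsMulCommutative N) :
    Group.IsNilpotent N := by
  rw [Subgroup.isNilpotent_iff_lowerCentralSeries]
  refine ⟨1, ?_⟩
  rw [Subgroup.lowerCentralSeries_succ, Subgroup.lowerCentralSeries_zero, eq_bot_iff,
    Subgroup.commutator_le]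
  intro a ha b hb
  rw [Subgroup.mem_bot, commutatorElement_eq_one_iff_mul_comm]
  exact congrArg Subtype.val (h.is_comm.comm ⟨a, ha⟩ ⟨b, hb⟩)

theorem fitting_abelian_of_frattini_bot (hΦ : frattini G = ⊥) :
    ∀ a ∈ Cfsg.fittingSubgroup G, ∀ b ∈ Cfsg.fittingSubgroup G, a * b = b * a := by
  set F := Cfsg.fittingSubgroup G with hF
  haveI hFn : F.Normal := Cfsg.Agent.H01.fitting_normal
  haveI hFnil : Group.IsNilpotent F := Cfsg.Agent.H01.fitting_nilpotent
  have h1 : frattini F = ⊥ := by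
    have h2 := frattini_map_le F
    rw [hΦ, le_bot_iff] at h2
    exact (Subgroup.map_eq_bot_iff_of_injective _ F.subtype_injective).mp h2
  have h3 : commutator F ≤ frattini F := commutator_le_frattini_of_nilpotent
  rw [h1, le_bot_iff] at h3
  intro a ha b hb
  have h4 : ⁅(⟨a, ha⟩ : F), (⟨b, hb⟩ : F)⁆ ∈ commutator F :=
    Subgroup.commutator_mem_commutator (Subgroup.mem_top _) (Subgroup.mem_top _)
  rw [h3, Subgroup.mem_bot, commutatorElement_eq_one_iff_mul_comm] at h4
  exact congrArg Subtype.val h4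

theorem fitting_eq_sSup_of_frattini_bot (hΦ : frattini G = ⊥) :
    Cfsg.fittingSubgroup G = sSup {N : Subgroup G | N.Normal ∧ N ≠ ⊥ ∧ IsMulCommutative N ∧
      ∀ K : Subgroup G, K.Normal → K ≤ N → K = ⊥ ∨ K = N} := by
  set F := Cfsg.fittingSubgroup G with hF
  haveI hFn : F.Normal := Cfsg.Agent.H01.fitting_normal
  have hFab := fitting_abelian_of_frattini_bot hΦ
  set 𝓝 := {N : Subgroup G | N.Normal ∧ N ≠ ⊥ ∧ IsMulCommutative N ∧
      ∀ K : Subgroup G, K.Normal → K ≤ N → K = ⊥ ∨ K = N} with h𝓝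
  set J := sSup 𝓝 with hJ
  have hJF : J ≤ F := by
    apply sSup_le
    rintro N ⟨hNn, -, hNc, -⟩
    exact Cfsg.Agent.H01.le_fitting hNn (isNilpotent_of_isMulCommutative N hNc)
  haveI hJn : J.Normal := by
    apply Subgroup.sSup_normal
    rintro N ⟨hNn, -⟩
    exact hNn
  haveI hJc : IsMulCommutative J := ⟨⟨fun a b => Subtype.ext (hFab a (hJF a.2) b (hJF b.2))⟩⟩
  obtain ⟨H, hH⟩ := complement_of_frattini_bot hΦ J
  have hsup : H ⊔ J = ⊤ := by rw [sup_comm]; exact hH.sup_eq_top
  have hdisj : J ⊓ H = ⊥ := hH.disjoint.eq_bot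
  apply le_antisymm _ hJF
  -- `F ⊓ H` is normal
  have hWn : (F ⊓ H).Normal := by
    refine ⟨fun w hw g => ?_⟩
    obtain ⟨h, hh, j, hj, rfl⟩ := exists_mul_of_sup hsup g
    have h0 : j * w * j⁻¹ = w := by rw [hFab j (hJF hj) w hw.1]; group
    have h3 : (h * j) * w * (h * j)⁻¹ = h * w * h⁻¹ := by
      calc (h * j) * w * (h * j)⁻¹ = h * (j * w * j⁻¹) * h⁻¹ := by group
        _ = h * w * h⁻¹ := by rw [h0]
    rw [h3]
    exact ⟨hFn.conj_mem w hw.1 h, H.mul_mem (H.mul_mem hh hw.2) (H.inv_mem hh)⟩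
  have hW : F ⊓ H = ⊥ := by
    by_contra hne
    obtain ⟨N, hNW, hNn, hN, hNmin⟩ := Cfsg.Agent.H01.exists_minimal_normal_le hWn hne
    have hNc : IsMulCommutative N := ⟨⟨fun a b => Subtype.ext (hFab a (hNW a.2).1 b (hNW b.2).1)⟩⟩
    have hNJ : N ≤ J := le_sSup ⟨hNn, hN, hNc, hNmin⟩
    apply hN
    rw [eq_bot_iff, ← hdisj]
    exact fun x hx => ⟨hNJ hx, (hNW hx).2⟩
  intro x hx
  obtain ⟨h, hh, j, hj, rfl⟩ := exists_mul_of_sup hsup x
  have hhF : h ∈ F := by
    have := F.mul_mem hx (F.inv_mem (hJF hj))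
    simpa using this
  have h1 : h ∈ F ⊓ H := ⟨hhF, hh⟩
  rw [hW, Subgroup.mem_bot] at h1
  rw [h1, one_mul]
  exact hj

end S0586

section S0587

variable {G : Type*} [Group G] [Finite G]

theorem coreFree_pCore (p : ℕ) [hp : Fact p.Prime] (hL : Cfsg.pCore p G ≠ ⊥) (M : Subgroup G)
    (hM : IsCoatom M) (hcore : M.normalCore = ⊥) :
    Cfsg.IsElementaryAbelian p (Cfsg.pCore p G) ∧ Subgroup.IsComplement' (Cfsg.pCore p G) M ∧
      (∀ K : Subgroup G, K.Normal → K ≤ Cfsg.pCore p G → K = ⊥ ∨ K = Cfsg.pCore p G) ∧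
      Subgroup.centralizer ((Cfsg.pCore p G : Subgroup G) : Set G) = Cfsg.pCore p G ∧
      ∀ (q : ℕ) [Fact q.Prime], Cfsg.pCore q ↥M ≠ ⊥ →
        Nat.card (Cfsg.pCore p G) % q = 1 % q ∧ q ≠ p := by
  set L := Cfsg.pCore p G with hLdef
  haveI hLn : L.Normal := Cfsg.Agent.H01.pCore_normal p
  have hLp : IsPGroup p L := Cfsg.Agent.H01.pCore_isPGroup p
  obtain ⟨A, hAL, hAn, hA, hAmin⟩ := Cfsg.Agent.H01.exists_minimal_normal_le hLn hL
  haveI := hAn
  haveI hLnil : Group.IsNilpotent L := hLp.isNilpotent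
  have hne : A.subgroupOf L ≠ ⊥ := by
    intro h0
    apply hA
    rw [eq_bot_iff]
    intro a ha
    have h1 : (⟨a, hAL ha⟩ : L) ∈ A.subgroupOf L := ha
    rw [h0, Subgroup.mem_bot] at h1
    rw [Subgroup.mem_bot]
    exact congrArg Subtype.val h1
  obtain ⟨y, hyA, hy1, hyZ⟩ := Cfsg.Agent.H06.exists_central_of_normal
    (N := A.subgroupOf L) inferInstance hne
  have hZn : (A ⊓ Subgroup.centralizer (L : Set G)).Normal := by
    haveI : (Subgroup.centralizer (L : Set G)).Normal := Subgroup.normal_centralizer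
    infer_instance
  have hAC : A ≤ Subgroup.centralizer (L : Set G) := by
    rcases hAmin _ hZn inf_le_left with h2 | h2
    · exfalso
      have h1 : (y : G) ∈ A ⊓ Subgroup.centralizer (L : Set G) := by
        refine ⟨hyA, Subgroup.mem_centralizer_iff.mpr ?_⟩
        intro z hz
        have := Subgroup.mem_center_iff.mp hyZ ⟨z, hz⟩
        exact congrArg Subtype.val this
      rw [h2, Subgroup.mem_bot] at h1
      exact hy1 (Subtype.ext h1)
    · rw [← h2]
      exact inf_le_right
  have hLCA : L ≤ Subgroup.centralizer (A : Set G) := Subgroup.le_centralizer_iff.mp hAC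
  have hACA : A = Subgroup.centralizer (A : Set G) :=
    coreFree_eq_centralizer hM hcore hA hA (hAL.trans hLCA)
  have hLA : L = A := le_antisymm (by rw [hACA]; exact hLCA) hAL
  have hCL : Subgroup.centralizer (L : Set G) = L := by rw [hLA]; exact hACA.symm
  have hLab : ∀ a ∈ L, ∀ b ∈ L, a * b = b * a := by
    intro a ha b hb
    have h1 : a ∈ Subgroup.centralizer (L : Set G) := by rw [hCL]; exact ha
    exact (Subgroup.mem_centralizer_iff.mp h1 b hb).symm
  have hLmin : ∀ K : Subgroup G, K.Normal → K ≤ L → K = ⊥ ∨ K = L := by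
    rw [hLA]; exact hAmin
  have hLM : L ⊓ M = ⊥ := by
    have := coreFree_inf hM hcore hL
    rwa [hCL] at this
  have hsupML := coreFree_sup hM hcore hL
  refine ⟨⟨⟨⟨fun a b => Subtype.ext (hLab a a.2 b b.2)⟩⟩, ?_⟩,
    isComplement_of_coreFree hM hcore hL hLM, hLmin, hCL, ?_⟩
  · -- exponent `p`
    let Ω : Subgroup G :=
      { carrier := {x | x ∈ L ∧ x ^ p = 1}
        one_mem' := ⟨L.one_mem, one_pow p⟩
        mul_mem' := by
          rintro a b ⟨ha, ha'⟩ ⟨hb, hb'⟩
          refine ⟨L.mul_mem ha hb, ?_⟩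
          have : Commute a b := hLab a ha b hb
          rw [this.mul_pow, ha', hb', one_mul]
        inv_mem' := by
          rintro a ⟨ha, ha'⟩
          exact ⟨L.inv_mem ha, by rw [inv_pow, ha', inv_one]⟩ }
    have hΩn : Ω.Normal := by
      refine ⟨fun x hx g => ⟨hLn.conj_mem x hx.1 g, ?_⟩⟩
      rw [conj_pow, hx.2]
      group
    have hΩne : Ω ≠ ⊥ := by
      haveI : Nontrivial L := (Subgroup.nontrivial_iff_ne_bot L).mpr hL
      obtain ⟨n, hn⟩ := IsPGroup.iff_card.mp hLp
      have hpd : p ∣ Nat.card L := by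
        have h1 : 1 < Nat.card L := Finite.one_lt_card
        rw [hn] at h1 ⊢
        refine dvd_pow_self p ?_
        rintro rfl
        simp at h1
      obtain ⟨z, hz⟩ := exists_prime_orderOf_dvd_card' (G := L) p hpd
      intro h0
      have h1 : (z : G) ∈ Ω := by
        refine ⟨z.2, ?_⟩
        have := pow_orderOf_eq_one z
        rw [hz] at this
        exact congrArg Subtype.val this
      rw [h0, Subgroup.mem_bot] at h1
      have hz1 : z = 1 := Subtype.ext h1
      rw [hz1, orderOf_one] at hz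
      exact hp.out.one_lt.ne hz
    rcases hLmin Ω hΩn (fun x hx => hx.1) with h | h
    · exact absurd h hΩne
    · intro a ha
      rw [← h] at ha
      exact ha.2
  · intro q _ hQ
    set Q := Cfsg.pCore q ↥M with hQdef
    haveI hQn : Q.Normal := Cfsg.Agent.H01.pCore_normal q
    have hQp : IsPGroup q Q := Cfsg.Agent.H01.pCore_isPGroup q
    set Q₀ := Q.map M.subtype with hQ₀
    -- the fixed points
    set F := L ⊓ Subgroup.centralizer (Q₀ : Set G) with hF
    have hFn : F.Normal := by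
      refine ⟨fun x hx g => ?_⟩
      obtain ⟨m, hm, l, hl, rfl⟩ := exists_mul_of_sup hsupML g
      have h0 : l * x * l⁻¹ = x := by rw [hLab l hl x hx.1]; group
      have h3 : (m * l) * x * (m * l)⁻¹ = m * x * m⁻¹ := by
        calc (m * l) * x * (m * l)⁻¹ = m * (l * x * l⁻¹) * m⁻¹ := by group
          _ = m * x * m⁻¹ := by rw [h0]
      rw [h3]
      refine ⟨hLn.conj_mem x hx.1 m, Subgroup.mem_centralizer_iff.mpr ?_⟩
      rintro _ ⟨⟨z, hzM⟩, hz, rfl⟩
      have hz' : (⟨m, hm⟩ : M)⁻¹ * ⟨z, hzM⟩ * (⟨m, hm⟩ : M)⁻¹⁻¹ ∈ Q :=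
        hQn.conj_mem _ hz _
      have hz'' : m⁻¹ * z * m ∈ Q₀ := by
        refine ⟨_, hz', ?_⟩
        simp
      have hxc := Subgroup.mem_centralizer_iff.mp hx.2 _ hz''
      change z * (m * x * m⁻¹) = m * x * m⁻¹ * z
      calc z * (m * x * m⁻¹) = m * ((m⁻¹ * z * m) * x) * m⁻¹ := by group
        _ = m * (x * (m⁻¹ * z * m)) * m⁻¹ := by rw [hxc]
        _ = m * x * m⁻¹ * z := by group
    have hFbot : F = ⊥ := by
      rcases hLmin F hFn inf_le_left with h | h
      · exact h
      · exfalso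
        apply hQ
        have h1 : L ≤ Subgroup.centralizer (Q₀ : Set G) := by
          rw [← h]
          exact inf_le_right
        have h2 : Q₀ ≤ Subgroup.centralizer (L : Set G) := Subgroup.le_centralizer_iff.mp h1
        rw [hCL] at h2
        have h3 : Q₀ ≤ L ⊓ M := by
          refine le_inf h2 ?_
          rintro _ ⟨z, -, rfl⟩
          exact z.2
        rw [hLM, le_bot_iff] at h3
        exact (Subgroup.map_eq_bot_iff_of_injective _ M.subtype_injective).mp h3
    -- counting
    let ρ : Q →* MulAut L := (MulAut.conjNormal : G →* MulAut L).comp (M.subtype.comp Q.subtype)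
    letI : MulAction Q L := MulAction.compHom L ρ
    have hcount := hQp.card_modEq_card_fixedPoints L
    have hfix : Nat.card (MulAction.fixedPoints Q L) = 1 := by
      have h1 : MulAction.fixedPoints Q L = {1} := by
        ext x
        simp only [MulAction.mem_fixedPoints, Set.mem_singleton_iff]
        constructor
        · intro hx
          have h2 : (x : G) ∈ F := by
            refine ⟨x.2, Subgroup.mem_centralizer_iff.mpr ?_⟩
            rintro _ ⟨⟨z, hzM⟩, hz, rfl⟩
            have h3 := hx ⟨⟨z, hzM⟩, hz⟩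
            have h4 := congrArg Subtype.val h3
            have h5 : z * (x : G) * z⁻¹ = x := h4
            change z * (x : G) = x * z
            rw [← mul_inv_eq_iff_eq_mul, h5]
          rw [hFbot, Subgroup.mem_bot] at h2
          exact Subtype.ext h2
        · rintro rfl z
          exact map_one (ρ z)
      rw [h1]
      simp
    rw [hfix] at hcount
    have hq1 : Nat.card L % q = 1 % q := hcount
    refine ⟨hq1, ?_⟩
    rintro rfl
    haveI : Nontrivial L := (Subgroup.nontrivial_iff_ne_bot L).mpr hL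
    obtain ⟨n, hn⟩ := IsPGroup.iff_card.mp hLp
    have hpd : q ∣ Nat.card L := by
      have h1 : 1 < Nat.card L := Finite.one_lt_card
      rw [hn] at h1 ⊢
      refine dvd_pow_self q ?_
      rintro rfl
      simp at h1
    rw [Nat.mod_eq_zero_of_dvd hpd, Nat.mod_eq_of_lt hp.out.one_lt] at hq1
    omega

end S0587

end Cfsg.Agent.H02
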