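import Mathlib
import Cfsg.Agent.Lib.H02.Schmidt2
import Cfsg.Agent.Lib.H02.SolvJ
import Cfsg.Agent.Lib.H18.Prod
import Cfsg.Prelude.Def_Transfer

set_option autoImplicit false

namespace Cfsg.Agent.H02

universe u

open Cfsg
open scoped Pointwise

theorem exists_subgroup_mul_of_le_normalizer {G : Type*} [Group G] {P R : Subgroup G}
    (h : P ≤ Subgroup.normalizer (R : Set G)) : ∃ S : Subgroup G, (S : Set G) = (P : Set G) * (R : Set G) := by
  have hconj : ∀ x ∈ P, ∀ r ∈ R, x * r * x⁻¹ ∈ R := fun x hx r hr =>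
    (Subgroup.mem_normalizer_iff.mp (h hx) r).mp hr
  refine ⟨{ carrier := (P : Set G) * (R : Set G)
            one_mem' := ⟨1, P.one_mem, 1, R.one_mem, by simp⟩
            mul_mem' := ?_
            inv_mem' := ?_ }, rfl⟩
  · rintro _ _ ⟨x, hx, r, hr, rfl⟩ ⟨x', hx', r', hr', rfl⟩
    refine ⟨x * x', P.mul_mem hx hx', (x'⁻¹ * r * x') * r', ?_, ?_⟩
    · have := hconj x'⁻¹ (P.inv_mem hx') r hr
      rw [inv_inv] at this
      exact R.mul_mem this hr'
    · change x * x' * (x'⁻¹ * r * x' * r') = x * r * (x' * r')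
      group
  · rintro _ ⟨x, hx, r, hr, rfl⟩
    refine ⟨x⁻¹, P.inv_mem hx, x * r⁻¹ * x⁻¹, hconj x hx _ (R.inv_mem hr), ?_⟩
    change x⁻¹ * (x * r⁻¹ * x⁻¹) = (x * r)⁻¹
    group

theorem centralizes_proper_invariant {G : Type u} [Group G] [Finite G]
    (h : ∀ H : Subgroup G, H ≠ ⊤ → IsMulCommutative H) {p q : ℕ} [Fact p.Prime] [Fact q.Prime] (hpq : p ≠ q)
    (P : Sylow p G) (Q : Sylow q G) [hQn : (Q : Subgroup G).Normal] (ht : (P : Subgroup G) ⊔ Q = ⊤)
    (R : Subgroup G) (hRQ : R ≤ Q) (hne : R ≠ Q) (hPR : (P : Subgroup G) ≤ Subgroup.normalizer (R : Set G)) :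
    ∀ y ∈ (P : Subgroup G), ∀ r ∈ R, y * r = r * y := by
  classical
  obtain ⟨S, hS⟩ := exists_subgroup_mul_of_le_normalizer hPR
  have hd : Disjoint (P : Subgroup G) R :=
    IsPGroup.disjoint_of_ne p q hpq _ _ P.isPGroup' (Q.isPGroup'.to_le hRQ)
  have hd2 : Disjoint (P : Subgroup G) (Q : Subgroup G) :=
    IsPGroup.disjoint_of_ne p q hpq _ _ P.isPGroup' Q.isPGroup'
  have h1 := Cfsg.Agent.H18.card_set_mul_mul_card_inf (P : Subgroup G) R
  rw [← hS, hd.eq_bot, Subgroup.card_bot, mul_one] at h1
  have h2 := Cfsg.Agent.H01.card_sup_mul_card_inf (P : Subgroup G) (Q : Subgroup G)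
  rw [ht, hd2.eq_bot, Subgroup.card_bot, mul_one, Subgroup.card_top] at h2
  have hcardS : Nat.card (S : Set G) = Nat.card S := rfl
  rw [hcardS] at h1
  have hlt : Nat.card R < Nat.card Q := by
    apply lt_of_le_of_ne (Subgroup.card_le_of_le hRQ)
    intro he
    exact hne (Subgroup.eq_of_le_of_card_ge hRQ he.ge)
  have hSne : S ≠ ⊤ := by
    rintro rfl
    rw [Subgroup.card_top, h2] at h1
    have h3 := Nat.eq_of_mul_eq_mul_left (Nat.card_pos (α := P)) h1
    omega
  haveI := h S hSne
  intro y hy r hr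
  have hyS : y ∈ S := by
    rw [← SetLike.mem_coe, hS]
    exact ⟨y, hy, 1, R.one_mem, by simp⟩
  have hrS : r ∈ S := by
    rw [← SetLike.mem_coe, hS]
    exact ⟨1, P.one_mem, r, hr, by simp⟩
  have := mul_comm' (⟨y, hyS⟩ : S) ⟨r, hrS⟩
  exact congrArg Subtype.val this

theorem conj_pow_comm_step {G : Type*} [Group G] {y x c : G} (hc : y * x * y⁻¹ = c * x) (hyc : y * c = c * y) (n : ℕ) :
    y ^ n * x * (y ^ n)⁻¹ = c ^ n * x := by
  induction n with
  | zero => simp
  | succ n ih =>
    have hycn : y * c ^ n = c ^ n * y := by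
      have : Commute y c := hyc
      exact (this.pow_right n).eq
    calc y ^ (n + 1) * x * (y ^ (n + 1))⁻¹ = y * (y ^ n * x * (y ^ n)⁻¹) * y⁻¹ := by
          rw [pow_succ']
          group
      _ = y * (c ^ n * x) * y⁻¹ := by rw [ih]
      _ = c ^ n * (y * x * y⁻¹) := by
          rw [← mul_assoc y, hycn]
          group
      _ = c ^ n * (c * x) := by rw [hc]
      _ = c ^ (n + 1) * x := by
          rw [pow_succ]
          group

theorem minimal_nonabelian {G : Type u} [Group G] [Finite G] (hna : ¬ IsMulCommutative G)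
    (h : ∀ H : Subgroup G, H ≠ ⊤ → IsMulCommutative H) :
    (∃ p : ℕ, p.Prime ∧ IsPGroup p G) ∨ ∃ p q : ℕ, p.Prime ∧ q.Prime ∧ p ≠ q ∧
      ∃ (P : Sylow p G) (Q : Sylow q G), IsCyclic P ∧ (Q : Subgroup G).Normal ∧
        Cfsg.IsElementaryAbelian q (Q : Subgroup G) ∧ (P : Subgroup G) ⊔ Q = ⊤ := by
  classical
  by_cases hnil : Group.IsNilpotent G
  · left
    by_contra hnp
    push Not at hnp
    apply hna
    have hsyl : ∀ (r : ℕ) [Fact r.Prime] (R : Sylow r G), (R : Subgroup G) ≠ ⊤ := by
      intro r hr R hR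
      apply hnp r hr.out
      have h1 := R.isPGroup'
      rw [hR] at h1
      exact h1.of_equiv Subgroup.topEquiv
    have hnorm : ∀ (r : ℕ) [Fact r.Prime] (R : Sylow r G), (R : Subgroup G).Normal :=
      fun r hr R => by
        have hT := (Group.isNilpotent_of_finite_tfae (G := G)).out 0 3
        exact hT.mp hnil r hr R
    have htop : Subgroup.center G = ⊤ := by
      apply Cfsg.Agent.H01.eq_top_of_forall_sylow_le
      intro r hr
      obtain ⟨R⟩ : Nonempty (Sylow r G) := inferInstance
      refine ⟨R, ?_⟩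
      intro x hx
      rw [Subgroup.mem_center_iff]
      intro g
      have hcentr : Subgroup.centralizer ({x} : Set G) = ⊤ := by
        apply Cfsg.Agent.H01.eq_top_of_forall_sylow_le
        intro s hs
        obtain ⟨S⟩ : Nonempty (Sylow s G) := inferInstance
        refine ⟨S, ?_⟩
        intro y hy
        rw [Subgroup.mem_centralizer_singleton_iff]
        by_cases hsr : s = r
        · subst hsr
          haveI := Sylow.unique_of_normal R (hnorm s R) |>.instSubsingleton
          have hSR : S = R := Subsingleton.elim _ _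
          subst hSR
          haveI := h _ (hsyl s S)
          have := mul_comm' (⟨y, hy⟩ : (S : Subgroup G)) ⟨x, hx⟩
          exact congrArg Subtype.val this
        · have hcop : (orderOf y).Coprime (orderOf x) := by
            obtain ⟨a, ha⟩ := (IsPGroup.iff_orderOf.mp S.isPGroup') ⟨y, hy⟩
            obtain ⟨b, hb⟩ := (IsPGroup.iff_orderOf.mp R.isPGroup') ⟨x, hx⟩
            rw [Subgroup.orderOf_mk] at ha hb
            rw [ha, hb]
            exact Nat.coprime_pow_primes _ _ Fact.out Fact.out hsr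
          exact (Cfsg.Agent.H18.commute_of_coprime_orderOf G y x hcop).eq
      have hg : g ∈ Subgroup.centralizer ({x} : Set G) := by rw [hcentr]; trivial
      rw [Subgroup.mem_centralizer_singleton_iff] at hg
      exact hg
    refine ⟨⟨fun a b => ?_⟩⟩
    have ha : a ∈ Subgroup.center G := by rw [htop]; trivial
    exact (Subgroup.mem_center_iff.mp ha b).symm
  · right
    have hmin : IsMinimalNonNilpotent G := ⟨hnil, fun H hH => by
      exact isNilpotent_of_isMulCommutative H (h H hH)⟩
    obtain ⟨p, q, hp, hq, hne, P, Q, hc, hn, ht, hnc⟩ := schmidt hmin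
    refine ⟨p, q, hp.out, hq.out, hne, P, Q, hc, hn, ?_, ht⟩
    have hQne : (Q : Subgroup G) ≠ ⊤ := by
      intro hQ
      apply hnc
      intro x hx y _
      have hd := IsPGroup.disjoint_of_ne p q hne _ _ P.isPGroup' Q.isPGroup'
      rw [hQ, disjoint_top] at hd
      rw [hd] at hx
      have : x = 1 := hx
      simp [this]
    have hQbot : (Q : Subgroup G) ≠ ⊥ := by
      intro hQ
      apply hnc
      intro x _ y hy
      rw [hQ] at hy
      have : y = 1 := hy
      simp [this]
    haveI hQc := h _ hQne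
    refine ⟨hQc, ?_⟩
    have commQ : ∀ a ∈ (Q : Subgroup G), ∀ b ∈ (Q : Subgroup G), a * b = b * a := fun a ha b hb =>
      congrArg Subtype.val (mul_comm' (⟨a, ha⟩ : (Q : Subgroup G)) ⟨b, hb⟩)
    -- powers
    let Qpow : Subgroup G :=
      { carrier := {z | ∃ x ∈ (Q : Subgroup G), x ^ q = z}
        one_mem' := ⟨1, Subgroup.one_mem _, one_pow _⟩
        mul_mem' := by
          rintro _ _ ⟨a, ha, rfl⟩ ⟨b, hb, rfl⟩
          refine ⟨a * b, Subgroup.mul_mem _ ha hb, ?_⟩
          have : Commute a b := commQ a ha b hb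
          exact this.mul_pow q
        inv_mem' := by
          rintro _ ⟨a, ha, rfl⟩
          exact ⟨a⁻¹, Subgroup.inv_mem _ ha, inv_pow a q⟩ }
    let Ω : Subgroup G :=
      { carrier := {x | x ∈ (Q : Subgroup G) ∧ x ^ q = 1}
        one_mem' := ⟨Subgroup.one_mem _, one_pow _⟩
        mul_mem' := by
          rintro a b ⟨ha, ha'⟩ ⟨hb, hb'⟩
          refine ⟨Subgroup.mul_mem _ ha hb, ?_⟩
          have : Commute a b := commQ a ha b hb
          rw [this.mul_pow, ha', hb', one_mul]
        inv_mem' := by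
          rintro a ⟨ha, ha'⟩
          exact ⟨Subgroup.inv_mem _ ha, by rw [inv_pow, ha', inv_one]⟩ }
    have hQposs : Qpow ≤ (Q : Subgroup G) := by
      rintro _ ⟨x, hx, rfl⟩
      exact Subgroup.pow_mem _ hx _
    have hΩle : Ω ≤ (Q : Subgroup G) := fun x hx => hx.1
    have hPpow : (P : Subgroup G) ≤ Subgroup.normalizer (Qpow : Set G) := by
      intro y _
      apply mem_normalizer_of_conj_le
      rintro _ ⟨x, hx, rfl⟩
      exact ⟨y * x * y⁻¹, hn.conj_mem x hx y, by rw [conj_pow]⟩
    have hPΩ : (P : Subgroup G) ≤ Subgroup.normalizer (Ω : Set G) := by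
      intro y _
      apply mem_normalizer_of_conj_le
      rintro x ⟨hx, hx'⟩
      exact ⟨hn.conj_mem x hx y, by rw [conj_pow, hx']; simp⟩
    have hpowne : Qpow ≠ (Q : Subgroup G) := by
      intro he
      have hdvd : q ∣ Nat.card (Q : Subgroup G) := by
        rw [Sylow.card_eq_multiplicity]
        have h0 : (Nat.card G).factorization q ≠ 0 := by
          intro h00
          have h1 := Sylow.card_eq_multiplicity Q
          rw [h00, pow_zero] at h1
          exact hQbot ((Subgroup.card_eq_one).mp h1)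
        exact dvd_pow_self q h0
      obtain ⟨z, hz⟩ := exists_prime_orderOf_dvd_card' q hdvd
      let f : ↥(Q : Subgroup G) → ↥(Q : Subgroup G) := fun x => ⟨(x : G) ^ q, Subgroup.pow_mem _ x.2 _⟩
      have hsurj : Function.Surjective f := by
        rintro ⟨w, hw⟩
        rw [← he] at hw
        obtain ⟨x, hx, rfl⟩ := hw
        exact ⟨⟨x, hx⟩, rfl⟩
      have hinj := Finite.injective_iff_surjective.mpr hsurj
      have h1 : f z = f 1 := by
        apply Subtype.ext
        change (z : G) ^ q = ((1 : ↥(Q : Subgroup G)) : G) ^ q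
        have h9 : z ^ q = 1 := by
          have h10 := pow_orderOf_eq_one z
          rwa [hz] at h10
        rw [OneMemClass.coe_one, one_pow, ← Subgroup.coe_pow, h9, OneMemClass.coe_one]
      have h2 := hinj h1
      rw [h2, orderOf_one] at hz
      exact (Fact.out : q.Prime).one_lt.ne hz
    by_contra hall
    have hΩne : Ω ≠ (Q : Subgroup G) := by
      intro he
      apply hall
      intro a ha
      rw [← he] at ha
      exact ha.2
    apply hnc
    intro y hy x hx
    have hpowc := centralizes_proper_invariant h hne P Q ht Qpow hQposs hpowne hPpow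
    have hΩc := centralizes_proper_invariant h hne P Q ht Ω hΩle hΩne hPΩ
    set c := y * x * y⁻¹ * x⁻¹ with hc'
    have hyxQ : y * x * y⁻¹ ∈ (Q : Subgroup G) := hn.conj_mem x hx y
    have hcQ : c ∈ (Q : Subgroup G) := Subgroup.mul_mem _ hyxQ (Subgroup.inv_mem _ hx)
    have hxq : y * x ^ q * y⁻¹ = x ^ q := by
      have := hpowc y hy (x ^ q) ⟨x, hx, rfl⟩
      rw [this]
      group
    have hcq : c ^ q = 1 := by
      have hcomm : Commute (y * x * y⁻¹) x⁻¹ := commQ _ hyxQ _ (Subgroup.inv_mem _ hx)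
      rw [hc', hcomm.mul_pow, conj_pow, hxq, inv_pow]
      group
    have hcΩ : c ∈ Ω := ⟨hcQ, hcq⟩
    have hyc : y * c = c * y := hΩc y hy c hcΩ
    have hstep : y * x * y⁻¹ = c * x := by rw [hc']; group
    have hn' := conj_pow_comm_step hstep hyc (orderOf y)
    rw [pow_orderOf_eq_one] at hn'
    have hcn : c ^ orderOf y = 1 := by
      have : x = c ^ orderOf y * x := by simpa using hn'
      exact (mul_eq_right.mp this.symm)
    have hcop : (orderOf y).Coprime q := by
      obtain ⟨a, ha⟩ := (IsPGroup.iff_orderOf.mp P.isPGroup') ⟨y, hy⟩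
      rw [Subgroup.orderOf_mk] at ha
      rw [ha]
      exact Nat.Coprime.pow_left a ((Nat.coprime_primes hp.out hq.out).mpr hne)
    have hc1 : c = 1 := by
      have := pow_gcd_eq_one.mpr ⟨hcn, hcq⟩
      rw [hcop.gcd_eq_one, pow_one] at this
      exact this
    rw [hc'] at hc1
    have h3 : y * x * y⁻¹ = x := by
      have := mul_inv_eq_one.mp hc1
      exact this
    have h4 : y * x = x * y := by
      calc y * x = y * x * y⁻¹ * y := by group
        _ = x * y := by rw [h3]
    exact h4

end Cfsg.Agent.H02
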