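import Mathlib
import Cfsg.Prelude.Def_Transfer
import Cfsg.Prelude.Def_PLocal
import Cfsg.Agent.Lib.H02.MinAb

set_option autoImplicit false

namespace Cfsg.Agent.H02

universe u

open Cfsg
open scoped Pointwise commutatorElement

variable {G : Type*} [Group G]

theorem conj_mem_of_normalizer {V : Subgroup G} {a v : G} (ha : a ∈ Subgroup.normalizer (V : Set G)) (hv : v ∈ V) :
    a * v * a⁻¹ ∈ V := (Subgroup.mem_normalizer_iff.mp ha v).mp hv

theorem commV_of_ea {p : ℕ} {V : Subgroup G} (hV : IsElementaryAbelian p V) :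
    ∀ a ∈ V, ∀ b ∈ V, a * b = b * a := fun a ha b hb => by
  haveI := hV.1
  exact congrArg Subtype.val (mul_comm' (⟨a, ha⟩ : V) ⟨b, hb⟩)

theorem comm_of_commutator_eq_one {x b : G} (h : ⁅x, b⁆ = 1) : b * x = x * b :=
  (commutatorElement_eq_one_iff_mul_comm.mp h).symm

/-- The commutator `⁅v, a⁆` lies in `V`. -/
theorem comm_mem {V : Subgroup G} {a v : G} (ha : a ∈ Subgroup.normalizer (V : Set G)) (hv : v ∈ V) :
    ⁅v, a⁆ ∈ V := by
  rw [commutatorElement_def]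
  have h1 : a * v⁻¹ * a⁻¹ ∈ V := conj_mem_of_normalizer ha (V.inv_mem hv)
  have h2 := V.mul_mem hv h1
  have h3 : v * (a * v⁻¹ * a⁻¹) = v * a * v⁻¹ * a⁻¹ := by group
  rwa [h3] at h2

/-- `a v a⁻¹ = ⁅v, a⁆⁻¹ * v` when `V` is abelian. -/
theorem conj_eq_comm_inv_mul {V : Subgroup G} (hc : ∀ a ∈ V, ∀ b ∈ V, a * b = b * a) {a v : G}
    (ha : a ∈ Subgroup.normalizer (V : Set G)) (hv : v ∈ V) : a * v * a⁻¹ = ⁅v, a⁆⁻¹ * v := by
  rw [commutatorElement_def]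
  have h1 : a * v * a⁻¹ ∈ V := conj_mem_of_normalizer ha hv
  have h2 := hc _ h1 _ hv
  have h3 : (v * a * v⁻¹ * a⁻¹)⁻¹ * v = a * v * a⁻¹ * v⁻¹ * v := by group
  rw [h3]
  group

theorem quad_of_comm {V H K : Subgroup G} (hq : ⁅⁅V, H⁆, K⁆ = ⊥) {v a b : G} (hv : v ∈ V) (ha : a ∈ H) (hb : b ∈ K) :
    b * ⁅v, a⁆ = ⁅v, a⁆ * b := by
  have h1 : ⁅⁅v, a⁆, b⁆ ∈ ⁅⁅V, H⁆, K⁆ :=
    Subgroup.commutator_mem_commutator (Subgroup.commutator_mem_commutator hv ha) hb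
  rw [hq, Subgroup.mem_bot] at h1
  exact comm_of_commutator_eq_one h1

/-- S0590. -/
theorem quadratic_action {p : ℕ} (V H : Subgroup G) (hV : IsElementaryAbelian p V)
    (hHV : H ≤ Subgroup.normalizer (V : Set G)) (hq : ⁅⁅V, H⁆, H⁆ = ⊥) :
    ⁅H, H⁆ ≤ Subgroup.centralizer (V : Set G) ∧ ∀ a ∈ H, a ^ p ∈ Subgroup.centralizer (V : Set G) := by
  have hc := commV_of_ea hV
  constructor
  · rw [Subgroup.commutator_le]
    intro a ha b hb
    have key : ∀ v ∈ V, (a * b) * v * (a * b)⁻¹ = (b * a) * v * (b * a)⁻¹ := by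
      intro v hv
      have hca : ⁅v, a⁆ ∈ V := comm_mem (hHV ha) hv
      have hcb : ⁅v, b⁆ ∈ V := comm_mem (hHV hb) hv
      have e1 : a * ⁅v, b⁆ * a⁻¹ = ⁅v, b⁆ := by
        rw [quad_of_comm hq hv hb ha]
        group
      have e2 : b * ⁅v, a⁆ * b⁻¹ = ⁅v, a⁆ := by
        rw [quad_of_comm hq hv ha hb]
        group
      have sa := conj_eq_comm_inv_mul hc (hHV ha) hv
      have sb := conj_eq_comm_inv_mul hc (hHV hb) hv
      have l : (a * b) * v * (a * b)⁻¹ = ⁅v, b⁆⁻¹ * (⁅v, a⁆⁻¹ * v) := by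
        calc (a * b) * v * (a * b)⁻¹ = a * (b * v * b⁻¹) * a⁻¹ := by group
          _ = a * (⁅v, b⁆⁻¹ * v) * a⁻¹ := by rw [sb]
          _ = (a * ⁅v, b⁆ * a⁻¹)⁻¹ * (a * v * a⁻¹) := by group
          _ = ⁅v, b⁆⁻¹ * (⁅v, a⁆⁻¹ * v) := by rw [e1, sa]
      have r : (b * a) * v * (b * a)⁻¹ = ⁅v, a⁆⁻¹ * (⁅v, b⁆⁻¹ * v) := by
        calc (b * a) * v * (b * a)⁻¹ = b * (a * v * a⁻¹) * b⁻¹ := by group
          _ = b * (⁅v, a⁆⁻¹ * v) * b⁻¹ := by rw [sa]
          _ = (b * ⁅v, a⁆ * b⁻¹)⁻¹ * (b * v * b⁻¹) := by group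
          _ = ⁅v, a⁆⁻¹ * (⁅v, b⁆⁻¹ * v) := by rw [e2, sb]
      rw [l, r, ← mul_assoc, ← mul_assoc, hc _ (V.inv_mem hcb) _ (V.inv_mem hca)]
    rw [Subgroup.mem_centralizer_iff]
    intro w hw
    have hba : (b * a) ∈ Subgroup.normalizer (V : Set G) := Subgroup.mul_mem _ (hHV hb) (hHV ha)
    have hv : (b * a)⁻¹ * w * (b * a) ∈ V := by
      have := conj_mem_of_normalizer (Subgroup.inv_mem _ hba) hw
      simpa using this
    have h1 := key _ hv
    have h2 : (b * a) * ((b * a)⁻¹ * w * (b * a)) * (b * a)⁻¹ = w := by group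
    rw [h2] at h1
    have h3 : (a * b) * ((b * a)⁻¹ * w * (b * a)) * (a * b)⁻¹ = ⁅a, b⁆ * w * ⁅a, b⁆⁻¹ := by
      rw [commutatorElement_def]
      group
    rw [h3] at h1
    calc w * ⁅a, b⁆ = (⁅a, b⁆ * w * ⁅a, b⁆⁻¹) * ⁅a, b⁆ := by rw [h1]
      _ = ⁅a, b⁆ * w := by group
  · intro a ha
    rw [Subgroup.mem_centralizer_iff]
    intro v hv
    have hcv : ⁅v, a⁆ ∈ V := comm_mem (hHV ha) hv
    have h0 : a * (⁅v, a⁆)⁻¹ = (⁅v, a⁆)⁻¹ * a := by
      have h1 := quad_of_comm hq hv ha ha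
      calc a * (⁅v, a⁆)⁻¹ = (⁅v, a⁆)⁻¹ * (⁅v, a⁆ * a) * (⁅v, a⁆)⁻¹ := by group
        _ = (⁅v, a⁆)⁻¹ * (a * ⁅v, a⁆) * (⁅v, a⁆)⁻¹ := by rw [h1]
        _ = (⁅v, a⁆)⁻¹ * a := by group
    have h2 := conj_pow_comm_step (conj_eq_comm_inv_mul hc (hHV ha) hv) h0 p
    have h3 : ((⁅v, a⁆)⁻¹) ^ p = 1 := by
      rw [inv_pow, hV.2 _ hcv, inv_one]
    rw [h3, one_mul] at h2
    calc v * a ^ p = (a ^ p * v * (a ^ p)⁻¹) * a ^ p := by rw [h2]
      _ = a ^ p * v := by group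

/-- S0591. -/
theorem quadratic_card {G : Type*} [Group G] [Finite G] {p : ℕ} (V : Subgroup G) (hV : IsElementaryAbelian p V) (a : G)
    (ha : a ∈ Subgroup.normalizer (V : Set G)) (hq : ⁅⁅V, Subgroup.zpowers a⁆, Subgroup.zpowers a⁆ = ⊥) :
    Nat.card V ≤ Nat.card ↥(V ⊓ Subgroup.centralizer (Subgroup.zpowers a : Set G)) ^ 2 := by
  classical
  have hc := commV_of_ea hV
  let f : V →* V :=
    { toFun := fun v => ⟨⁅(v : G), a⁆, comm_mem ha v.2⟩
      map_one' := by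
        apply Subtype.ext
        simp
      map_mul' := by
        rintro ⟨v, hv⟩ ⟨w, hw⟩
        apply Subtype.ext
        change ⁅v * w, a⁆ = ⁅v, a⁆ * ⁅w, a⁆
        have h1 := conj_mem_of_normalizer ha (V.inv_mem hw)
        have h2 := conj_mem_of_normalizer ha (V.inv_mem hv)
        rw [commutatorElement_def, commutatorElement_def, commutatorElement_def]
        have e1 : v * w * a * (v * w)⁻¹ * a⁻¹ = v * (w * (a * w⁻¹ * a⁻¹) * (a * v⁻¹ * a⁻¹)) := by group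
        have e2 : v * a * v⁻¹ * a⁻¹ * (w * a * w⁻¹ * a⁻¹) = v * ((a * v⁻¹ * a⁻¹) * (w * (a * w⁻¹ * a⁻¹))) := by group
        rw [e1, e2, hc _ (V.mul_mem hw h1) _ h2] }
  set C := V ⊓ Subgroup.centralizer (Subgroup.zpowers a : Set G) with hC
  have hcent : ∀ x : G, a * x = x * a → x ∈ Subgroup.centralizer (Subgroup.zpowers a : Set G) := by
    intro x hx
    rw [Subgroup.mem_centralizer_iff]
    intro h hh
    obtain ⟨k, rfl⟩ := Subgroup.mem_zpowers_iff.mp hh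
    have : Commute a x := hx
    exact (this.zpow_left k).eq
  have hker : f.ker.map V.subtype = C := by
    ext x
    constructor
    · rintro ⟨⟨v, hv⟩, hk, rfl⟩
      have h1 : ⁅v, a⁆ = 1 := congrArg Subtype.val (MonoidHom.mem_ker.mp hk)
      refine Subgroup.mem_inf.mpr ⟨hv, hcent v ?_⟩
      exact comm_of_commutator_eq_one h1
    · intro hx
      obtain ⟨hxV, hxC⟩ := Subgroup.mem_inf.mp hx
      refine ⟨⟨x, hxV⟩, ?_, rfl⟩
      change f ⟨x, hxV⟩ = 1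
      apply Subtype.ext
      change ⁅x, a⁆ = 1
      rw [commutatorElement_eq_one_iff_mul_comm]
      exact (Subgroup.mem_centralizer_iff.mp hxC a (Subgroup.mem_zpowers a)).symm
  have hrange : f.range.map V.subtype ≤ C := by
    rintro _ ⟨_, ⟨⟨v, hv⟩, rfl⟩, rfl⟩
    refine Subgroup.mem_inf.mpr ⟨comm_mem ha hv, hcent _ ?_⟩
    exact quad_of_comm hq hv (Subgroup.mem_zpowers a) (Subgroup.mem_zpowers a)
  have h1 : Nat.card V = Nat.card f.ker * Nat.card f.range := by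
    rw [← Subgroup.index_ker, Subgroup.card_mul_index]
  have h2 : Nat.card f.ker = Nat.card C := by
    rw [← hker, Subgroup.card_map_of_injective V.subtype_injective]
  have h3 : Nat.card f.range ≤ Nat.card C := by
    have h4 := Subgroup.card_map_of_injective (K := f.range) V.subtype_injective
    rw [← h4]
    exact Subgroup.card_le_of_le hrange
  rw [h1, h2, sq]
  exact Nat.mul_le_mul_left _ h3

end Cfsg.Agent.H02
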