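import Mathlib
import Cfsg.Prelude.Def_Transfer
import Cfsg.Prelude.Def_PLocal
import Cfsg.Agent.Lib.H18.Prod
import Cfsg.Agent.Lib.H02.PLoc1

set_option autoImplicit false

namespace Cfsg.Agent.H02

universe u

open Cfsg
open scoped Pointwise commutatorElement

variable {G : Type*} [Group G]

theorem ea_isPGroup {p : ℕ} {A : Subgroup G} (hA : IsElementaryAbelian p A) : IsPGroup p A := by
  intro g
  refine ⟨1, ?_⟩
  apply Subtype.ext
  rw [pow_one]
  exact hA.2 g g.2

theorem ea_bot (p : ℕ) : IsElementaryAbelian p (⊥ : Subgroup G) := by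
  refine ⟨⟨⟨fun a b => Subsingleton.elim _ _⟩⟩, ?_⟩
  intro a ha
  rw [Subgroup.mem_bot] at ha
  rw [ha, one_pow]

theorem exists_maxEA [Finite G] (p : ℕ) : ∃ A : Subgroup G, A ∈ maxElementaryAbelianSubgroups p G := by
  obtain ⟨A, hA, hmax⟩ := Set.exists_max_image {A : Subgroup G | IsElementaryAbelian p A} (fun A => Nat.card A)
    (Set.toFinite _) ⟨⊥, ea_bot p⟩
  exact ⟨A, hA, fun B hB => hmax B hB⟩

theorem ea_of_le {p : ℕ} {A B : Subgroup G} (hA : IsElementaryAbelian p A) (h : B ≤ A) : IsElementaryAbelian p B := by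
  refine ⟨?_, fun a ha => hA.2 a (h ha)⟩
  refine ⟨⟨fun a b => ?_⟩⟩
  apply Subtype.ext
  exact commV_of_ea hA a (h a.2) b (h b.2)

theorem ea_map {H : Type*} [Group H] {p : ℕ} {A : Subgroup G} (hA : IsElementaryAbelian p A) (f : G →* H) :
    IsElementaryAbelian p (A.map f) := by
  refine ⟨?_, ?_⟩
  · refine ⟨⟨?_⟩⟩
    rintro ⟨_, a, ha, rfl⟩ ⟨_, b, hb, rfl⟩
    apply Subtype.ext
    change f a * f b = f b * f a
    rw [← map_mul, ← map_mul, commV_of_ea hA a ha b hb]
  · rintro _ ⟨a, ha, rfl⟩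
    rw [← map_pow, hA.2 a ha, map_one]

theorem ea_subgroupOf {p : ℕ} {A : Subgroup G} (hA : IsElementaryAbelian p A) (U : Subgroup G) :
    IsElementaryAbelian p (A.subgroupOf U) := by
  refine ⟨?_, ?_⟩
  · refine ⟨⟨?_⟩⟩
    rintro ⟨a, ha⟩ ⟨b, hb⟩
    apply Subtype.ext
    apply Subtype.ext
    exact commV_of_ea hA a ha b hb
  · rintro a ha
    apply Subtype.ext
    have := hA.2 a ha
    exact this

theorem card_map_subtype {U : Subgroup G} (X : Subgroup U) : Nat.card (X.map U.subtype) = Nat.card X :=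
  Subgroup.card_map_of_injective U.subtype_injective

theorem card_subgroupOf_eq {A U : Subgroup G} (h : A ≤ U) : Nat.card (A.subgroupOf U) = Nat.card A :=
  Nat.card_congr (Subgroup.subgroupOfEquivOfLe h).toEquiv

theorem map_subgroupOf_mem_max {p : ℕ} {U : Subgroup G} {A' : Subgroup U}
    (hA' : A' ∈ maxElementaryAbelianSubgroups p U) {A : Subgroup G}
    (hA : A ∈ maxElementaryAbelianSubgroups p G) (hAU : A ≤ U) :
    A'.map U.subtype ∈ maxElementaryAbelianSubgroups p G := by
  refine ⟨ea_map hA'.1 _, ?_⟩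
  intro B hB
  rw [card_map_subtype]
  calc Nat.card B ≤ Nat.card A := hA.2 B hB
    _ = Nat.card (A.subgroupOf U) := (card_subgroupOf_eq hAU).symm
    _ ≤ Nat.card A' := hA'.2 _ (ea_subgroupOf hA.1 U)

theorem subgroupOf_mem_max {p : ℕ} {U A : Subgroup G} (hA : A ∈ maxElementaryAbelianSubgroups p G) (hAU : A ≤ U) :
    A.subgroupOf U ∈ maxElementaryAbelianSubgroups p U := by
  refine ⟨ea_subgroupOf hA.1 U, ?_⟩
  intro B hB
  rw [card_subgroupOf_eq hAU, ← card_map_subtype]
  exact hA.2 _ (ea_map hB _)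

theorem maxEA_le_thompson {p : ℕ} {A : Subgroup G} (hA : A ∈ maxElementaryAbelianSubgroups p G) :
    A ≤ thompsonSubgroup p G := le_sSup hA

/-- S0602. -/
theorem thompson_char [Finite G] {p : ℕ} [Fact p.Prime] :
    (thompsonSubgroup p G).Characteristic ∧ (p ∣ Nat.card G → thompsonSubgroup p G ≠ ⊥) := by
  constructor
  · rw [Subgroup.characteristic_iff_le_comap]
    intro ϕ
    apply sSup_le
    intro A hA a ha
    rw [Subgroup.mem_comap]
    have hmem : A.map ϕ.toMonoidHom ∈ maxElementaryAbelianSubgroups p G := by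
      refine ⟨ea_map hA.1 _, ?_⟩
      intro B hB
      rw [Subgroup.card_map_of_injective ϕ.injective]
      exact hA.2 B hB
    exact le_sSup hmem ⟨a, ha, rfl⟩
  · intro hdvd hbot
    obtain ⟨x, hx⟩ := exists_prime_orderOf_dvd_card' p hdvd
    obtain ⟨A, hA⟩ := exists_maxEA (G := G) p
    have hzp : IsElementaryAbelian p (Subgroup.zpowers x) := by
      refine ⟨inferInstance, ?_⟩
      intro a ha
      obtain ⟨k, rfl⟩ := Subgroup.mem_zpowers_iff.mp ha
      rw [← zpow_natCast, ← zpow_mul, mul_comm, zpow_mul, zpow_natCast, ← hx, pow_orderOf_eq_one, one_zpow]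
    have h1 := hA.2 _ hzp
    rw [Nat.card_zpowers, hx] at h1
    have h2 : A = ⊥ := by
      rw [eq_bot_iff, ← hbot]
      exact maxEA_le_thompson hA
    rw [h2, Subgroup.card_bot] at h1
    have := (Fact.out : p.Prime).one_lt
    omega

/-- S0603. -/
theorem thompson_of_le [Finite G] {p : ℕ} (U : Subgroup G) (hU : thompsonSubgroup p G ≤ U) :
    thompsonSubgroupOf p U = thompsonSubgroup p G := by
  obtain ⟨A₀, hA₀⟩ := exists_maxEA (G := G) p
  apply le_antisymm
  · rw [thompsonSubgroupOf, Subgroup.map_le_iff_le_comap]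
    apply sSup_le
    intro A' hA' a ha
    rw [Subgroup.mem_comap]
    exact le_sSup (map_subgroupOf_mem_max hA' hA₀ ((le_sSup hA₀).trans hU)) ⟨a, ha, rfl⟩
  · apply sSup_le
    intro A hA a ha
    have haU : a ∈ U := hU (le_sSup hA ha)
    refine ⟨⟨a, haU⟩, ?_, rfl⟩
    exact le_sSup (subgroupOf_mem_max hA ((le_sSup hA).trans hU)) (Subgroup.mem_subgroupOf.mpr ha)

/-- S0604. -/
theorem thompson_eq_iSup [Finite G] {p : ℕ} [Fact p.Prime] :
    thompsonSubgroup p G = ⨆ S : Sylow p G, thompsonSubgroupOf p (S : Subgroup G) := by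
  apply le_antisymm
  · apply sSup_le
    intro A hA a ha
    obtain ⟨S, hS⟩ := (ea_isPGroup hA.1).exists_le_sylow
    refine Subgroup.mem_iSup_of_mem S ?_
    refine ⟨⟨a, hS ha⟩, ?_, rfl⟩
    exact le_sSup (subgroupOf_mem_max hA hS) (Subgroup.mem_subgroupOf.mpr ha)
  · apply iSup_le
    intro S
    rw [thompsonSubgroupOf, Subgroup.map_le_iff_le_comap]
    apply sSup_le
    intro A' hA' a ha
    rw [Subgroup.mem_comap]
    have hmem : A'.map (S : Subgroup G).subtype ∈ maxElementaryAbelianSubgroups p G := by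
      refine ⟨ea_map hA'.1 _, ?_⟩
      intro B hB
      rw [card_map_subtype]
      obtain ⟨T, hT⟩ := (ea_isPGroup hB).exists_le_sylow
      obtain ⟨g, rfl⟩ := MulAction.exists_smul_eq G S T
      let B' : Subgroup G := B.map (MulAut.conj g⁻¹).toMonoidHom
      have hB'S : B' ≤ S := by
        rintro _ ⟨b, hb, rfl⟩
        have h1 := hT hb
        rw [Sylow.coe_subgroup_smul, Subgroup.mem_pointwise_smul_iff_inv_smul_mem, MulAut.smul_def,
          MulAut.conj_inv_apply] at h1
        simpa using h1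
      have hcard : Nat.card B' = Nat.card B := Subgroup.card_map_of_injective (MulAut.conj g⁻¹).injective
      rw [← hcard, ← card_subgroupOf_eq hB'S]
      exact hA'.2 _ (ea_subgroupOf (ea_map hB _) _)
    exact le_sSup hmem ⟨a, ha, rfl⟩

theorem comm_sup_of_le_centralizer {A B : Subgroup G} (hA : ∀ a ∈ A, ∀ b ∈ A, a * b = b * a)
    (hB : ∀ a ∈ B, ∀ b ∈ B, a * b = b * a) (hAB : ∀ a ∈ A, ∀ b ∈ B, a * b = b * a) :
    ∀ x ∈ A ⊔ B, ∀ y ∈ A ⊔ B, x * y = y * x := by
  have h1 : ∀ a ∈ A, ∀ y ∈ A ⊔ B, a * y = y * a := by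
    intro a ha y hy
    have hle : A ⊔ B ≤ Subgroup.centralizer ({a} : Set G) := by
      apply sup_le
      · intro z hz
        rw [Subgroup.mem_centralizer_singleton_iff]
        exact hA z hz a ha
      · intro z hz
        rw [Subgroup.mem_centralizer_singleton_iff]
        exact (hAB a ha z hz).symm
    have := hle hy
    rw [Subgroup.mem_centralizer_singleton_iff] at this
    exact this.symm
  have h2 : ∀ b ∈ B, ∀ y ∈ A ⊔ B, b * y = y * b := by
    intro b hb y hy
    have hle : A ⊔ B ≤ Subgroup.centralizer ({b} : Set G) := by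
      apply sup_le
      · intro z hz
        rw [Subgroup.mem_centralizer_singleton_iff]
        exact hAB z hz b hb
      · intro z hz
        rw [Subgroup.mem_centralizer_singleton_iff]
        exact hB z hz b hb
    have := hle hy
    rw [Subgroup.mem_centralizer_singleton_iff] at this
    exact this.symm
  intro x hx y hy
  have hle : A ⊔ B ≤ Subgroup.centralizer ({y} : Set G) := by
    apply sup_le
    · intro z hz
      rw [Subgroup.mem_centralizer_singleton_iff]
      exact h1 z hz y hy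
    · intro z hz
      rw [Subgroup.mem_centralizer_singleton_iff]
      exact h2 z hz y hy
  have := hle hx
  rw [Subgroup.mem_centralizer_singleton_iff] at this
  exact this

theorem ea_sup {p : ℕ} {A B : Subgroup G} (hA : IsElementaryAbelian p A) (hB : IsElementaryAbelian p B)
    (hAB : ∀ a ∈ A, ∀ b ∈ B, a * b = b * a) : IsElementaryAbelian p (A ⊔ B) := by
  have hcomm := comm_sup_of_le_centralizer (commV_of_ea hA) (commV_of_ea hB) hAB
  refine ⟨⟨⟨fun a b => Subtype.ext (hcomm a a.2 b b.2)⟩⟩, ?_⟩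
  let X : Subgroup G :=
    { carrier := {g | g ∈ A ⊔ B ∧ g ^ p = 1}
      one_mem' := ⟨Subgroup.one_mem _, one_pow _⟩
      mul_mem' := by
        rintro a b ⟨ha, ha'⟩ ⟨hb, hb'⟩
        refine ⟨Subgroup.mul_mem _ ha hb, ?_⟩
        have : Commute a b := hcomm a ha b hb
        rw [this.mul_pow, ha', hb', one_mul]
      inv_mem' := by
        rintro a ⟨ha, ha'⟩
        exact ⟨Subgroup.inv_mem _ ha, by rw [inv_pow, ha', inv_one]⟩ }
  have hle : A ⊔ B ≤ X := by
    apply sup_le
    · intro a ha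
      exact ⟨(le_sup_left : A ≤ A ⊔ B) ha, hA.2 a ha⟩
    · intro b hb
      exact ⟨(le_sup_right : B ≤ A ⊔ B) hb, hB.2 b hb⟩
  intro a ha
  exact (hle ha).2

/-- S0605. -/
theorem mem_thompson_of_centralizes [Finite G] {p : ℕ} (x : G)
    (hx : x ∈ Subgroup.centralizer (thompsonSubgroup p G : Set G)) (ho : orderOf x = p) :
    x ∈ thompsonSubgroup p G := by
  obtain ⟨A, hA⟩ := exists_maxEA (G := G) p
  have hzp : IsElementaryAbelian p (Subgroup.zpowers x) := by
    refine ⟨inferInstance, ?_⟩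
    intro a ha
    obtain ⟨k, rfl⟩ := Subgroup.mem_zpowers_iff.mp ha
    rw [← zpow_natCast, ← zpow_mul, mul_comm, zpow_mul, zpow_natCast, ← ho, pow_orderOf_eq_one, one_zpow]
  have hcomm : ∀ a ∈ A, ∀ b ∈ Subgroup.zpowers x, a * b = b * a := by
    intro a ha b hb
    obtain ⟨k, rfl⟩ := Subgroup.mem_zpowers_iff.mp hb
    have h1 : Commute x a := (Subgroup.mem_centralizer_iff.mp hx a (le_sSup hA ha)).symm
    exact (h1.zpow_left k).eq.symm
  have hea := ea_sup hA.1 hzp hcomm
  have hcard := hA.2 _ hea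
  have heq : A = A ⊔ Subgroup.zpowers x := Subgroup.eq_of_le_of_card_ge le_sup_left hcard
  have hxA : x ∈ A := by
    rw [heq]
    exact (le_sup_right : Subgroup.zpowers x ≤ _) (Subgroup.mem_zpowers x)
  exact le_sSup hA hxA

/-- S0606. -/
theorem maxEA_bestOffender [Finite G] {p : ℕ} (V : Subgroup G) (hV : IsElementaryAbelian p V) (A : Subgroup G)
    (hA : A ∈ maxElementaryAbelianSubgroups p G) : IsBestOffenderOn p V A := by
  have hcA := commV_of_ea hA.1
  refine ⟨?_, ?_, ?_⟩
  · intro B hB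
    set C := V ⊓ Subgroup.centralizer (B : Set G) with hC
    set CA := V ⊓ Subgroup.centralizer (A : Set G) with hCA
    have hCea : IsElementaryAbelian p C := ea_of_le hV inf_le_left
    have hBea : IsElementaryAbelian p B := ea_of_le hA.1 hB
    have hcomm : ∀ a ∈ B, ∀ b ∈ C, a * b = b * a := by
      intro a ha b hb
      exact (Subgroup.mem_centralizer_iff.mp (Subgroup.mem_inf.mp hb).2 a ha)
    have hea := ea_sup hBea hCea hcomm
    have h1 : Nat.card (B ⊔ C : Subgroup G) ≤ Nat.card A := hA.2 _ hea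
    have h2 := Cfsg.Agent.H18.card_mul_card_le (A := B) (B := C) (L := B ⊔ C) le_sup_left le_sup_right
    have hinf : (B ⊓ C : Subgroup G) ≤ CA := by
      intro x hx
      obtain ⟨hxB, hxC⟩ := Subgroup.mem_inf.mp hx
      refine Subgroup.mem_inf.mpr ⟨(Subgroup.mem_inf.mp hxC).1, ?_⟩
      rw [Subgroup.mem_centralizer_iff]
      intro a ha
      exact hcA a ha x (hB hxB)
    exact h2.trans (Nat.mul_le_mul h1 (Subgroup.card_le_of_le hinf))
  · rw [Subgroup.commutator_le]
    intro a ha b hb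
    have : ⁅a, b⁆ = 1 := commutatorElement_eq_one_iff_mul_comm.mpr (hcA a ha b hb)
    rw [this]
    exact Subgroup.one_mem _
  · intro a ha
    rw [hA.1.2 a ha]
    exact Subgroup.one_mem _

end Cfsg.Agent.H02
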