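import Mathlib
import Cfsg.Agent.Lib.H02.PLoc1
import Cfsg.Agent.Lib.H12.Subnormal
import Cfsg.Agent.Lib.H18.Join

set_option autoImplicit false

namespace Cfsg.Agent.H02

universe u

open Cfsg
open scoped Pointwise commutatorElement

variable {G : Type u} [Group G]

theorem comm_mul_eq (v g h : G) : ⁅v, g * h⁆ = ⁅v, h⁆ * ⁅h * v * h⁻¹, g⁆ := by
  rw [commutatorElement_def, commutatorElement_def, commutatorElement_def]
  group

theorem comm_inv_eq (v g : G) : ⁅v, g⁻¹⁆ = ⁅g⁻¹ * v * g, g⁆⁻¹ := by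
  rw [commutatorElement_def, commutatorElement_def]
  group

theorem comm_conj_eq (v x y : G) : ⁅v, y * x * y⁻¹⁆ = y * ⁅y⁻¹ * v * y, x⁆ * y⁻¹ := by
  rw [commutatorElement_def, commutatorElement_def]
  group

/-- S0597. -/
theorem comm_le_pCore [Finite G] {p : ℕ} [hpf : Fact p.Prime] (V H : Subgroup G) (hV : IsElementaryAbelian p V)
    (hHV : H ≤ Subgroup.normalizer (V : Set G)) (hf : H ⊓ Subgroup.centralizer (V : Set G) = ⊥)
    (E₁ E₂ : Subgroup G) (h₁ : E₁ ≤ H) (h₂ : E₂ ≤ H)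
    (hs₁ : (E₁.subgroupOf H).IsSubnormal) (hs₂ : (E₂.subgroupOf H).IsSubnormal)
    (hc : ⁅⁅V, E₁⁆, E₂⁆ = ⊥) : ⁅E₁, E₂⁆ ≤ (pCore p H).map H.subtype := by
  classical
  have hnorm : ∀ x : H, ∀ v ∈ V, (x : G) * v * (x : G)⁻¹ ∈ V := fun x v hv => conj_mem_of_normalizer (hHV x.2) hv
  have hnorm' : ∀ x : H, ∀ v ∈ V, (x : G)⁻¹ * v * (x : G) ∈ V := fun x v hv => by
    have := conj_mem_of_normalizer (Subgroup.inv_mem _ (hHV x.2)) hv
    simpa using this
  let Q : Subgroup H → Subgroup H → Prop := fun X Y => ∀ v ∈ V, ∀ x ∈ X, ∀ y ∈ Y, (y : G) * ⁅v, (x : G)⁆ = ⁅v, (x : G)⁆ * y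
  let Prs : Set (Subgroup H × Subgroup H) :=
    {w | E₁.subgroupOf H ≤ w.1 ∧ E₂.subgroupOf H ≤ w.2 ∧ w.1.IsSubnormal ∧ w.2.IsSubnormal ∧ Q w.1 w.2}
  have hini : (E₁.subgroupOf H, E₂.subgroupOf H) ∈ Prs := by
    refine ⟨le_rfl, le_rfl, hs₁, hs₂, ?_⟩
    intro v hv x hx y hy
    exact quad_of_comm hc hv (Subgroup.mem_subgroupOf.mp hx) (Subgroup.mem_subgroupOf.mp hy)
  obtain ⟨⟨X, Y⟩, hmax⟩ := Prs.toFinite.exists_maximal ⟨_, hini⟩
  obtain ⟨hE₁, hE₂, hXs, hYs, hQ⟩ := hmax.1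
  simp only at hE₁ hE₂ hXs hYs hQ
  -- the two auxiliary subgroups
  let T : Subgroup H :=
    { carrier := {g | ∀ v ∈ V, ∀ y ∈ Y, (y : G) * ⁅v, (g : G)⁆ = ⁅v, (g : G)⁆ * y}
      one_mem' := by
        intro v _ y _
        simp
      mul_mem' := by
        intro a b ha hb v hv y hy
        have e : ⁅v, ((a * b : H) : G)⁆ = ⁅v, (b : G)⁆ * ⁅(b : G) * v * (b : G)⁻¹, (a : G)⁆ := by
          rw [Subgroup.coe_mul]
          exact comm_mul_eq _ _ _
        rw [e]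
        have h1 : Commute (y : G) ⁅v, (b : G)⁆ := hb v hv y hy
        have h2 : Commute (y : G) ⁅(b : G) * v * (b : G)⁻¹, (a : G)⁆ := ha _ (hnorm b v hv) y hy
        exact (h1.mul_right h2).eq
      inv_mem' := by
        intro a ha v hv y hy
        have e : ⁅v, ((a⁻¹ : H) : G)⁆ = ⁅(a : G)⁻¹ * v * (a : G), (a : G)⁆⁻¹ := by
          rw [Subgroup.coe_inv]
          exact comm_inv_eq _ _
        rw [e]
        have h1 : Commute (y : G) ⁅(a : G)⁻¹ * v * (a : G), (a : G)⁆ := ha _ (hnorm' a v hv) y hy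
        exact h1.inv_right.eq }
  have hXT : X ≤ T := fun x hx v hv y hy => hQ v hv x hx y hy
  let S : Subgroup H :=
    { carrier := {y | ∀ v ∈ V, ∀ x ∈ X, (y : G) * ⁅v, (x : G)⁆ = ⁅v, (x : G)⁆ * y}
      one_mem' := by
        intro v _ y _
        simp
      mul_mem' := by
        intro a b ha hb v hv x hx
        have h1 : Commute (a : G) ⁅v, (x : G)⁆ := ha v hv x hx
        have h2 : Commute (b : G) ⁅v, (x : G)⁆ := hb v hv x hx
        rw [Subgroup.coe_mul]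
        exact (h1.mul_left h2).eq
      inv_mem' := by
        intro a ha v hv x hx
        have h1 : Commute (a : G) ⁅v, (x : G)⁆ := ha v hv x hx
        rw [Subgroup.coe_inv]
        exact h1.inv_left.eq }
  have hYS : Y ≤ S := fun y hy v hv x hx => hQ v hv x hx y hy
  -- claim A
  have hA : ∀ y₀ ∈ Y, X.map (MulAut.conj y₀).toMonoidHom ≤ X := by
    intro y₀ hy₀
    have hsub : X ⊔ X.map (MulAut.conj y₀).toMonoidHom ≤ T := by
      apply sup_le hXT
      rintro _ ⟨x, hx, rfl⟩ v hv y hy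
      change (y : G) * ⁅v, ((y₀ * x * y₀⁻¹ : H) : G)⁆ = ⁅v, ((y₀ * x * y₀⁻¹ : H) : G)⁆ * y
      have e : ⁅v, ((y₀ * x * y₀⁻¹ : H) : G)⁆ = ⁅(y₀ : G)⁻¹ * v * (y₀ : G), (x : G)⁆ := by
        rw [Subgroup.coe_mul, Subgroup.coe_mul, Subgroup.coe_inv, comm_conj_eq]
        have h1 := hQ _ (hnorm' y₀ v hv) x hx y₀ hy₀
        rw [h1]
        group
      rw [e]
      exact hQ _ (hnorm' y₀ v hv) x hx y hy
    have hmem : (X ⊔ X.map (MulAut.conj y₀).toMonoidHom, Y) ∈ Prs := by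
      refine ⟨hE₁.trans le_sup_left, hE₂, ?_, hYs, ?_⟩
      · exact Cfsg.Agent.H18.isSubnormal_sup hXs (hXs.map (MulAut.conj y₀).surjective)
      · intro v hv x hx y hy
        exact hsub hx v hv y hy
    have := hmax.2 hmem (Prod.mk_le_mk.mpr ⟨le_sup_left, le_rfl⟩)
    exact le_sup_right.trans (Prod.mk_le_mk.mp this).1
  -- claim B
  have hB : ∀ x₀ ∈ X, Y.map (MulAut.conj x₀).toMonoidHom ≤ Y := by
    intro x₀ hx₀
    have hsub : Y ⊔ Y.map (MulAut.conj x₀).toMonoidHom ≤ S := by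
      apply sup_le hYS
      rintro _ ⟨y, hy, rfl⟩ v hv x hx
      change ((x₀ * y * x₀⁻¹ : H) : G) * ⁅v, (x : G)⁆ = ⁅v, (x : G)⁆ * ((x₀ * y * x₀⁻¹ : H) : G)
      rw [Subgroup.coe_mul, Subgroup.coe_mul, Subgroup.coe_inv]
      have hx' : x₀⁻¹ * x * x₀ ∈ X := X.mul_mem (X.mul_mem (X.inv_mem hx₀) hx) hx₀
      have h1 := hQ _ (hnorm' x₀ v hv) _ hx' y hy
      have e : ⁅(x₀ : G)⁻¹ * v * (x₀ : G), ((x₀⁻¹ * x * x₀ : H) : G)⁆ = (x₀ : G)⁻¹ * ⁅v, (x : G)⁆ * (x₀ : G) := by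
        rw [Subgroup.coe_mul, Subgroup.coe_mul, Subgroup.coe_inv, commutatorElement_def, commutatorElement_def]
        group
      rw [e] at h1
      set c := ⁅v, (x : G)⁆
      calc (x₀ : G) * y * (x₀ : G)⁻¹ * c = (x₀ : G) * ((y : G) * ((x₀ : G)⁻¹ * c * (x₀ : G))) * (x₀ : G)⁻¹ := by group
        _ = (x₀ : G) * (((x₀ : G)⁻¹ * c * (x₀ : G)) * (y : G)) * (x₀ : G)⁻¹ := by rw [h1]
        _ = c * ((x₀ : G) * y * (x₀ : G)⁻¹) := by group
    have hmem : (X, Y ⊔ Y.map (MulAut.conj x₀).toMonoidHom) ∈ Prs := by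
      refine ⟨hE₁, hE₂.trans le_sup_left, hXs, ?_, ?_⟩
      · exact Cfsg.Agent.H18.isSubnormal_sup hYs (hYs.map (MulAut.conj x₀).surjective)
      · intro v hv x hx y hy
        exact hsub hy v hv x hx
    have := hmax.2 hmem (Prod.mk_le_mk.mpr ⟨le_rfl, le_sup_left⟩)
    exact le_sup_right.trans (Prod.mk_le_mk.mp this).2
  set D := ⁅X, Y⁆ with hD
  have hDX : D ≤ X := by
    rw [hD, Subgroup.commutator_le]
    intro x hx y hy
    have h1 : y * x⁻¹ * y⁻¹ ∈ X := hA y hy ⟨x⁻¹, X.inv_mem hx, rfl⟩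
    have h2 : ⁅x, y⁆ = x * (y * x⁻¹ * y⁻¹) := by
      rw [commutatorElement_def]
      group
    rw [h2]
    exact X.mul_mem hx h1
  have hDY : D ≤ Y := by
    rw [hD, Subgroup.commutator_le]
    intro x hx y hy
    have h1 : x * y * x⁻¹ ∈ Y := hB x hx ⟨y, hy, rfl⟩
    have h2 : ⁅x, y⁆ = (x * y * x⁻¹) * y⁻¹ := by
      rw [commutatorElement_def]
    rw [h2]
    exact Y.mul_mem h1 (Y.inv_mem hy)
  -- subnormality of `D`
  have hJ : (X ⊔ Y).IsSubnormal := Cfsg.Agent.H18.isSubnormal_sup hXs hYs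
  have hDN : X ⊔ Y ≤ Subgroup.normalizer (D : Set H) := by
    have hconj : ∀ g : H, X.map (MulAut.conj g).toMonoidHom = X → Y.map (MulAut.conj g).toMonoidHom = Y →
        g ∈ Subgroup.normalizer (D : Set H) := by
      intro g h1 h2
      rw [Subgroup.mem_normalizer_iff]
      intro d
      have e : D.map (MulAut.conj g).toMonoidHom = D := by
        rw [hD, Subgroup.map_commutator, h1, h2]
      constructor
      · intro hd
        rw [← e]
        exact ⟨d, hd, rfl⟩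
      · intro hd
        rw [← e] at hd
        obtain ⟨d', hd', he⟩ := hd
        have : d' = d := by
          have h3 : g * d' * g⁻¹ = g * d * g⁻¹ := he
          exact mul_left_cancel (mul_right_cancel h3)
        rwa [← this]
    have heq : ∀ (W : Subgroup H) (g : H), W.map (MulAut.conj g).toMonoidHom ≤ W → W.map (MulAut.conj g).toMonoidHom = W := by
      intro W g hle
      apply Subgroup.eq_of_le_of_card_ge hle
      rw [Subgroup.card_map_of_injective (MulAut.conj g).injective]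
    apply sup_le
    · intro x hx
      apply hconj x
      · exact Subgroup.conj_smul_eq_self_of_mem hx
      · exact heq _ _ (hB x hx)
    · intro y hy
      apply hconj y
      · exact heq _ _ (hA y hy)
      · exact Subgroup.conj_smul_eq_self_of_mem hy
  have hDJ : D ≤ X ⊔ Y := hDX.trans le_sup_left
  have hDs : D.IsSubnormal :=
    Subgroup.IsSubnormal.step D (X ⊔ Y) hDJ hJ ((Subgroup.normal_subgroupOf_iff_le_normalizer hDJ).mpr hDN)
  -- `D` acts quadratically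
  set D' := D.map H.subtype with hD'
  have hD'H : D' ≤ H := by
    rintro _ ⟨d, -, rfl⟩
    exact d.2
  have hq : ⁅⁅V, D'⁆, D'⁆ = ⊥ := by
    rw [Subgroup.commutator_eq_bot_iff_le_centralizer, Subgroup.commutator_le]
    rintro v hv _ ⟨d, hd, rfl⟩
    rw [Subgroup.mem_centralizer_iff]
    rintro _ ⟨d', hd', rfl⟩
    exact hQ v hv d (hDX hd) d' (hDY hd')
  obtain ⟨-, hpow⟩ := quadratic_action V D' hV (hD'H.trans hHV) hq
  have hDp : IsPGroup p D := by
    intro d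
    refine ⟨1, ?_⟩
    apply Subtype.ext
    apply Subtype.ext
    have h1 := hpow (d : H) ⟨d, d.2, rfl⟩
    have h2 : ((d : H) : G) ^ p ∈ H ⊓ Subgroup.centralizer (V : Set G) :=
      Subgroup.mem_inf.mpr ⟨Subgroup.pow_mem _ (d : H).2 _, h1⟩
    rw [hf, Subgroup.mem_bot] at h2
    simpa [pow_one] using h2
  have hfinal : D ≤ pCore p H := Cfsg.Agent.H12.le_pCore_of_isSubnormal hDs hDp
  rw [Subgroup.commutator_le]
  intro e₁ he₁ e₂ he₂
  have hm1 : (⟨e₁, h₁ he₁⟩ : H) ∈ X := hE₁ (Subgroup.mem_subgroupOf.mpr he₁)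
  have hm2 : (⟨e₂, h₂ he₂⟩ : H) ∈ Y := hE₂ (Subgroup.mem_subgroupOf.mpr he₂)
  have hm3 := hfinal (Subgroup.commutator_mem_commutator hm1 hm2)
  refine ⟨_, hm3, ?_⟩
  simp [commutatorElement_def]

end Cfsg.Agent.H02
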