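import Mathlib
import Cfsg.Agent.Lib.H02.PLoc4
import Cfsg.Agent.Lib.H02.PLoc2
import Cfsg.Agent.Lib.H18.Prod

set_option autoImplicit false

namespace Cfsg.Agent.H02

universe u

open Cfsg
open scoped Pointwise commutatorElement

variable {G : Type u} [Group G] [Finite G]

/-- `f(B) = |B| |C_V(B)|`. -/
noncomputable def offVal (V B : Subgroup G) : ℕ := Nat.card B * Nat.card ↥(V ⊓ Subgroup.centralizer (B : Set G))

theorem offVal_pos (V B : Subgroup G) : 0 < offVal V B := Nat.mul_pos Nat.card_pos Nat.card_pos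

theorem conj_conj_comm {V A : Subgroup G} (hAV : A ≤ Subgroup.normalizer (V : Set G))
    (hab : ⁅A, A⁆ ≤ Subgroup.centralizer (V : Set G)) {a b v : G} (ha : a ∈ A) (hb : b ∈ A) (hv : v ∈ V) :
    a * (b * v * b⁻¹) * a⁻¹ = b * (a * v * a⁻¹) * b⁻¹ := by
  have h1 : ⁅a, b⁆ ∈ Subgroup.centralizer (V : Set G) := hab (Subgroup.commutator_mem_commutator ha hb)
  have hw : (b * a) * v * (b * a)⁻¹ ∈ V := conj_mem_of_normalizer (Subgroup.mul_mem _ (hAV hb) (hAV ha)) hv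
  have h2 := Subgroup.mem_centralizer_iff.mp h1 _ hw
  rw [commutatorElement_def] at h2
  have h3 : a * b * a⁻¹ * b⁻¹ * ((b * a) * v * (b * a)⁻¹) = (a * (b * v * b⁻¹) * a⁻¹) * (a * b * a⁻¹ * b⁻¹) := by
    group
  rw [h3] at h2
  have h4 := mul_right_cancel h2
  calc a * (b * v * b⁻¹) * a⁻¹ = (b * a) * v * (b * a)⁻¹ := h4.symm
    _ = b * (a * v * a⁻¹) * b⁻¹ := by group

section cyc

variable {p : ℕ} (V A : Subgroup G) (hV : IsElementaryAbelian p V)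
  (hAV : A ≤ Subgroup.normalizer (V : Set G)) (hab : ⁅A, A⁆ ≤ Subgroup.centralizer (V : Set G))

include hV hAV in
/-- the stabilizer of `u` modulo `C_V(A)` -/
theorem exists_stab (u : G) (hu : u ∈ V) : ∃ E : Subgroup G, E ≤ A ∧
    ∀ a, a ∈ E ↔ a ∈ A ∧ ⁅u, a⁆ ∈ V ⊓ Subgroup.centralizer (A : Set G) := by
  set Z := V ⊓ Subgroup.centralizer (A : Set G) with hZ
  have hc := commV_of_ea hV
  have hzfix : ∀ z ∈ Z, ∀ a ∈ A, a * z = z * a := fun z hz a ha =>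
    (Subgroup.mem_centralizer_iff.mp (Subgroup.mem_inf.mp hz).2 a ha)
  have hzV : ∀ z ∈ Z, z ∈ V := fun z hz => (Subgroup.mem_inf.mp hz).1
  have hcomm_u : ∀ a ∈ A, ∀ e, e ∈ A → ⁅u, e⁆ ∈ Z → ⁅u, a * e⁆ = ⁅u, e⁆ * ⁅u, a⁆ := by
    intro a ha e he hez
    rw [comm_mul_eq, conj_eq_comm_inv_mul hc (hAV he) hu]
    congr 1
    set z := ⁅u, e⁆ with hz
    have h1 := hzfix z hez a ha
    have h2 : a * z⁻¹ = z⁻¹ * a := by
      calc a * z⁻¹ = z⁻¹ * (z * a) * z⁻¹ := by group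
        _ = z⁻¹ * (a * z) * z⁻¹ := by rw [h1]
        _ = z⁻¹ * a := by group
    have hcV : ⁅u, a⁆ ∈ V := comm_mem (hAV ha) hu
    have h3 : ⁅z⁻¹ * u, a⁆ = z⁻¹ * ⁅u, a⁆ * z := by
      rw [commutatorElement_def, commutatorElement_def]
      calc z⁻¹ * u * a * (z⁻¹ * u)⁻¹ * a⁻¹ = z⁻¹ * u * a * u⁻¹ * (z * a⁻¹) := by group
        _ = z⁻¹ * u * a * u⁻¹ * (a⁻¹ * z) := by
            have : z * a⁻¹ = a⁻¹ * z := by
              calc z * a⁻¹ = a⁻¹ * (a * z) * a⁻¹ := by group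
                _ = a⁻¹ * (z * a) * a⁻¹ := by rw [h1]
                _ = a⁻¹ * z := by group
            rw [this]
        _ = z⁻¹ * (u * a * u⁻¹ * a⁻¹) * z := by group
    rw [h3, mul_assoc, hc _ hcV _ (hzV z hez)]
    group
  have hinv : ∀ e, e ∈ A → ⁅u, e⁆ ∈ Z → ⁅u, e⁻¹⁆ ∈ Z := by
    intro e he hez
    set z := ⁅u, e⁆ with hz
    have h1 := hzfix z hez e he
    have hs := conj_eq_comm_inv_mul hc (hAV he) hu
    rw [← hz] at hs
    -- `e⁻¹ u e = z u`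
    have h2 : e⁻¹ * u * e = z * u := by
      have h3 : e⁻¹ * (e * u * e⁻¹) * e = u := by group
      rw [hs] at h3
      have h4 : e⁻¹ * (z⁻¹ * u) * e = z⁻¹ * (e⁻¹ * u * e) := by
        have h5 : e⁻¹ * z⁻¹ = z⁻¹ * e⁻¹ := by
          calc e⁻¹ * z⁻¹ = (z * e)⁻¹ := by group
            _ = (e * z)⁻¹ := by rw [h1]
            _ = z⁻¹ * e⁻¹ := by group
        calc e⁻¹ * (z⁻¹ * u) * e = (e⁻¹ * z⁻¹) * u * e := by group
          _ = (z⁻¹ * e⁻¹) * u * e := by rw [h5]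
          _ = z⁻¹ * (e⁻¹ * u * e) := by group
      rw [h4] at h3
      calc e⁻¹ * u * e = z * (z⁻¹ * (e⁻¹ * u * e)) := by group
        _ = z * u := by rw [h3]
    have h6 : ⁅u, e⁻¹⁆ = z⁻¹ := by
      rw [comm_inv_eq, h2]
      congr 1
      rw [commutatorElement_def]
      calc z * u * e * (z * u)⁻¹ * e⁻¹ = z * (u * e * u⁻¹) * (z⁻¹ * e⁻¹) := by group
        _ = z * (u * e * u⁻¹) * (e⁻¹ * z⁻¹) := by
            have h5 : z⁻¹ * e⁻¹ = e⁻¹ * z⁻¹ := by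
              calc z⁻¹ * e⁻¹ = (e * z)⁻¹ := by group
                _ = (z * e)⁻¹ := by rw [h1]
                _ = e⁻¹ * z⁻¹ := by group
            rw [h5]
        _ = z * ⁅u, e⁆ * z⁻¹ := by
            rw [commutatorElement_def]
            group
        _ = ⁅u, e⁆ := by
            rw [← hz]
            group
    rw [h6]
    exact Subgroup.inv_mem _ hez
  refine ⟨{ carrier := {a | a ∈ A ∧ ⁅u, a⁆ ∈ Z}
            one_mem' := ⟨A.one_mem, by simp [Subgroup.one_mem]⟩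
            mul_mem' := ?_
            inv_mem' := ?_ }, ?_, ?_⟩
  · rintro a e ⟨ha, haz⟩ ⟨he, hez⟩
    refine ⟨A.mul_mem ha he, ?_⟩
    rw [hcomm_u a ha e he hez]
    exact Subgroup.mul_mem _ hez haz
  · rintro e ⟨he, hez⟩
    exact ⟨A.inv_mem he, hinv e he hez⟩
  · rintro a ⟨ha, -⟩
    exact ha
  · intro a
    exact Iff.rfl

end cyc

end Cfsg.Agent.H02
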