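import Mathlib
import Cfsg.Agent.Lib.H02.PLoc5

set_option autoImplicit false

namespace Cfsg.Agent.H02

universe u

open Cfsg
open scoped Pointwise commutatorElement

variable {G : Type u} [Group G] [Finite G]

/-- generators of `[T, A]`. -/
def wSub (T : Set G) (A : Subgroup G) : Subgroup G := Subgroup.closure {g | ∃ u ∈ T, ∃ a ∈ A, ⁅u, a⁆ = g}

theorem wSub_le {T : Set G} {A V : Subgroup G} (hT : T ⊆ V) (hAV : A ≤ Subgroup.normalizer (V : Set G)) :
    wSub T A ≤ V := by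
  rw [wSub, Subgroup.closure_le]
  rintro _ ⟨u, hu, a, ha, rfl⟩
  exact comm_mem (hAV ha) (hT hu)

theorem comm_inv_mul_of {u a a' w : G} (hs : a' * u * a'⁻¹ = w⁻¹ * (a * u * a⁻¹)) (hw : a' * w = w * a') :
    ⁅u, a'⁻¹ * a⁆ = w⁻¹ := by
  have h1 : a * u * a⁻¹ = w * (a' * u * a'⁻¹) := by
    rw [hs]
    group
  have h2 : a'⁻¹ * w = w * a'⁻¹ := by
    calc a'⁻¹ * w = a'⁻¹ * (w * a') * a'⁻¹ := by group
      _ = a'⁻¹ * (a' * w) * a'⁻¹ := by rw [hw]
      _ = w * a'⁻¹ := by group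
  have h3 : (a'⁻¹ * a) * u * (a'⁻¹ * a)⁻¹ = w * u := by
    calc (a'⁻¹ * a) * u * (a'⁻¹ * a)⁻¹ = a'⁻¹ * (a * u * a⁻¹) * a' := by group
      _ = a'⁻¹ * (w * (a' * u * a'⁻¹)) * a' := by rw [h1]
      _ = (a'⁻¹ * w) * a' * u := by group
      _ = (w * a'⁻¹) * a' * u := by rw [h2]
      _ = w * u := by group
  rw [commutatorElement_def]
  calc u * (a'⁻¹ * a) * u⁻¹ * (a'⁻¹ * a)⁻¹ = u * ((a'⁻¹ * a) * u * (a'⁻¹ * a)⁻¹)⁻¹ := by group
    _ = u * (w * u)⁻¹ := by rw [h3]
    _ = w⁻¹ := by group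

section cyc

variable {p : ℕ} (V A : Subgroup G) (hV : IsElementaryAbelian p V)
  (hAV : A ≤ Subgroup.normalizer (V : Set G)) (hab : ⁅A, A⁆ ≤ Subgroup.centralizer (V : Set G))

include hV hAV in
theorem stab_card (u : G) (hu : u ∈ V) (E : Subgroup G) (hEA : E ≤ A)
    (hE : ∀ a, a ∈ E ↔ a ∈ A ∧ ⁅u, a⁆ ∈ V ⊓ Subgroup.centralizer (A : Set G)) :
    Nat.card A * Nat.card ↥(V ⊓ Subgroup.centralizer (A : Set G)) ≤
      Nat.card E * Nat.card ↥(wSub {u} A ⊔ (V ⊓ Subgroup.centralizer (A : Set G)) : Subgroup G) := by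
  classical
  set Z := V ⊓ Subgroup.centralizer (A : Set G) with hZ
  set Y := wSub {u} A ⊔ Z with hY
  have hc := commV_of_ea hV
  have hzfix : ∀ z ∈ Z, ∀ a ∈ A, a * z = z * a := fun z hz a ha =>
    (Subgroup.mem_centralizer_iff.mp (Subgroup.mem_inf.mp hz).2 a ha)
  set E' := E.subgroupOf A with hE'
  have hcardA : Nat.card A = Nat.card E * Nat.card (A ⧸ E') := by
    have h1 := E'.card_mul_index
    rw [card_subgroupOf_eq hEA] at h1
    exact h1.symm
  have hmemY : ∀ (x : A ⧸ E') (z : Z), ⁅u, ((Quotient.out x : A) : G)⁆ * (z : G) ∈ Y := by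
    intro x z
    apply Subgroup.mul_mem
    · apply (le_sup_left : wSub {u} A ≤ Y)
      apply Subgroup.subset_closure
      exact ⟨u, rfl, _, (Quotient.out x : A).2, rfl⟩
    · exact (le_sup_right : Z ≤ Y) z.2
  let Φ : (A ⧸ E') × Z → Y := fun w => ⟨⁅u, ((Quotient.out w.1 : A) : G)⁆ * (w.2 : G), hmemY w.1 w.2⟩
  have hΦ : Function.Injective Φ := by
    rintro ⟨x, z⟩ ⟨x', z'⟩ he
    have he' : ⁅u, ((Quotient.out x : A) : G)⁆ * (z : G) = ⁅u, ((Quotient.out x' : A) : G)⁆ * (z' : G) :=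
      congrArg Subtype.val he
    have hxx' : x = x' := by
      set a : A := Quotient.out x with ha
      set a' : A := Quotient.out x' with ha'
      set w := (z : G) * (z' : G)⁻¹ with hw
      have hwZ : w ∈ Z := Z.mul_mem z.2 (Z.inv_mem z'.2)
      have hwa' : (a' : G) * w = w * (a' : G) := hzfix w hwZ a' a'.2
      have hc' : ⁅u, (a' : G)⁆ = ⁅u, (a : G)⁆ * w := by
        rw [hw, ← mul_assoc, he']
        group
      have hs : (a' : G) * u * (a' : G)⁻¹ = w⁻¹ * ((a : G) * u * (a : G)⁻¹) := by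
        rw [conj_eq_comm_inv_mul hc (hAV a'.2) hu, conj_eq_comm_inv_mul hc (hAV a.2) hu, hc']
        group
      have h1 := comm_inv_mul_of hs hwa'
      have h2 : (a' : G)⁻¹ * (a : G) ∈ E := by
        rw [hE]
        refine ⟨A.mul_mem (A.inv_mem a'.2) a.2, ?_⟩
        rw [h1]
        exact Z.inv_mem hwZ
      have h3 : (QuotientGroup.mk a' : A ⧸ E') = QuotientGroup.mk a := by
        rw [QuotientGroup.eq]
        exact Subgroup.mem_subgroupOf.mpr (by simpa using h2)
      have e1 : (QuotientGroup.mk a : A ⧸ E') = x := QuotientGroup.out_eq' x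
      have e2 : (QuotientGroup.mk a' : A ⧸ E') = x' := QuotientGroup.out_eq' x'
      rw [← e1, ← e2, h3]
    subst hxx'
    have hzz : (z : G) = z' := mul_left_cancel he'
    rw [Subtype.ext hzz]
  have h4 : Nat.card (A ⧸ E') * Nat.card Z ≤ Nat.card Y := by
    rw [← Nat.card_prod]
    exact Nat.card_le_card_of_injective Φ hΦ
  rw [hcardA, mul_assoc]
  exact Nat.mul_le_mul_left _ h4

include hV hAV hab in
theorem cyc_step (hbest : ∀ B : Subgroup G, B ≤ A → offVal V B ≤ offVal V A) (u : G) (hu : u ∈ V) :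
    offVal V (A ⊓ Subgroup.centralizer (wSub {u} A : Set G)) = offVal V A ∧
    V ⊓ Subgroup.centralizer ((A ⊓ Subgroup.centralizer (wSub {u} A : Set G) : Subgroup G) : Set G) =
      wSub {u} A ⊔ (V ⊓ Subgroup.centralizer (A : Set G)) := by
  classical
  obtain ⟨E, hEA, hE⟩ := exists_stab V A hV hAV u hu
  have hcard := stab_card V A hV hAV u hu E hEA hE
  set Z := V ⊓ Subgroup.centralizer (A : Set G) with hZ
  set W := wSub {u} A with hW
  set B := A ⊓ Subgroup.centralizer (W : Set G) with hB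
  have hc := commV_of_ea hV
  have hBA : B ≤ A := inf_le_left
  have hzfix : ∀ z ∈ Z, ∀ a ∈ A, a * z = z * a := fun z hz a ha =>
    (Subgroup.mem_centralizer_iff.mp (Subgroup.mem_inf.mp hz).2 a ha)
  have hWV : W ≤ V := wSub_le (by simpa using hu) hAV
  have hEB : E ≤ B := by
    intro e he
    obtain ⟨heA, hez⟩ := (hE e).mp he
    refine Subgroup.mem_inf.mpr ⟨heA, ?_⟩
    have hle : W ≤ Subgroup.centralizer ({e} : Set G) := by
      rw [hW, wSub, Subgroup.closure_le]
      rintro _ ⟨u', hu', b, hb, rfl⟩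
      have huu : u' = u := hu'
      subst huu
      rw [SetLike.mem_coe, Subgroup.mem_centralizer_singleton_iff]
      set z := ⁅u', e⁆ with hz
      have hzb := hzfix z hez b hb
      have hs : e * u' * e⁻¹ = z⁻¹ * u' := conj_eq_comm_inv_mul hc (hAV heA) hu
      have hcc := conj_conj_comm hAV hab heA hb hu
      rw [hs] at hcc
      have hbz : b * z⁻¹ = z⁻¹ * b := by
        calc b * z⁻¹ = z⁻¹ * (z * b) * z⁻¹ := by group
          _ = z⁻¹ * (b * z) * z⁻¹ := by rw [hzb]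
          _ = z⁻¹ * b := by group
      have hcb : ⁅u', b⁆ ∈ V := comm_mem (hAV hb) hu
      have hzV : z ∈ V := (Subgroup.mem_inf.mp hez).1
      have h1 : e * (b * u' * b⁻¹) * e⁻¹ = z⁻¹ * (b * u' * b⁻¹) := by
        rw [hcc]
        calc b * (z⁻¹ * u') * b⁻¹ = (b * z⁻¹) * u' * b⁻¹ := by group
          _ = (z⁻¹ * b) * u' * b⁻¹ := by rw [hbz]
          _ = z⁻¹ * (b * u' * b⁻¹) := by group
      have h2 : e * ⁅u', b⁆ * e⁻¹ = z⁻¹ * ⁅u', b⁆ * z := by
        calc e * ⁅u', b⁆ * e⁻¹ = (e * u' * e⁻¹) * (e * (b * u' * b⁻¹) * e⁻¹)⁻¹ := by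
              rw [commutatorElement_def]
              group
          _ = (z⁻¹ * u') * (z⁻¹ * (b * u' * b⁻¹))⁻¹ := by rw [hs, h1]
          _ = z⁻¹ * ⁅u', b⁆ * z := by
              rw [commutatorElement_def]
              group
      have h3 : z⁻¹ * ⁅u', b⁆ * z = ⁅u', b⁆ := by
        rw [mul_assoc, hc _ hcb _ hzV]
        group
      rw [h3] at h2
      calc ⁅u', b⁆ * e = (e * ⁅u', b⁆ * e⁻¹) * e := by rw [h2]
        _ = e * ⁅u', b⁆ := by group
    rw [Subgroup.mem_centralizer_iff]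
    intro x hx
    have := hle hx
    rw [Subgroup.mem_centralizer_singleton_iff] at this
    exact this
  have hYC : W ⊔ Z ≤ V ⊓ Subgroup.centralizer (B : Set G) := by
    apply sup_le
    · refine le_inf hWV ?_
      intro x hx
      rw [Subgroup.mem_centralizer_iff]
      intro b hb
      exact (Subgroup.mem_centralizer_iff.mp (Subgroup.mem_inf.mp hb).2 x hx).symm
    · refine le_inf inf_le_left ?_
      intro z hz
      rw [Subgroup.mem_centralizer_iff]
      intro b hb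
      exact hzfix z hz b (hBA hb)
  have h1 : Nat.card E ≤ Nat.card B := Subgroup.card_le_of_le hEB
  have h2 := Subgroup.card_le_of_le hYC
  have h3 := hbest B hBA
  unfold offVal at h3
  change Nat.card B * Nat.card ↥(V ⊓ Subgroup.centralizer (B : Set G)) ≤ Nat.card A * Nat.card Z at h3
  have hEpos : 0 < Nat.card E := Nat.card_pos
  have hYpos : 0 < Nat.card ↥(W ⊔ Z : Subgroup G) := Nat.card_pos
  have hCpos : 0 < Nat.card ↥(V ⊓ Subgroup.centralizer (B : Set G) : Subgroup G) := Nat.card_pos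
  have h4 : Nat.card E * Nat.card ↥(W ⊔ Z : Subgroup G) ≤ Nat.card B * Nat.card ↥(V ⊓ Subgroup.centralizer (B : Set G)) :=
    Nat.mul_le_mul h1 h2
  have heq : Nat.card B * Nat.card ↥(V ⊓ Subgroup.centralizer (B : Set G)) = Nat.card A * Nat.card Z :=
    le_antisymm h3 (hcard.trans h4)
  constructor
  · exact heq
  · symm
    apply Subgroup.eq_of_le_of_card_ge hYC
    by_contra hlt
    push Not at hlt
    have h5 : Nat.card E * Nat.card ↥(W ⊔ Z : Subgroup G) < Nat.card B * Nat.card ↥(V ⊓ Subgroup.centralizer (B : Set G)) :=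
      calc Nat.card E * Nat.card ↥(W ⊔ Z : Subgroup G) ≤ Nat.card B * Nat.card ↥(W ⊔ Z : Subgroup G) :=
            Nat.mul_le_mul_right _ h1
        _ < Nat.card B * Nat.card ↥(V ⊓ Subgroup.centralizer (B : Set G)) :=
            Nat.mul_lt_mul_of_pos_left hlt Nat.card_pos
    have h6 := hcard.trans h5.le
    rw [heq] at h5
    omega

end cyc

end Cfsg.Agent.H02
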