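import Mathlib
import Cfsg.Agent.Lib.H02.PLoc6

set_option autoImplicit false

namespace Cfsg.Agent.H02

universe u

open Cfsg
open scoped Pointwise commutatorElement

variable {G : Type u} [Group G] [Finite G]

theorem arith_key {nB nS cB cS t i n₁ n₂ c₁ c₂ m : ℕ} (h1 : n₁ * c₁ = m) (h2 : n₂ * c₂ = m) (h3 : nS * nB = n₂ * n₁)
    (h4 : c₁ * c₂ ≤ t * i) (h5 : t ≤ cB) (h6 : i ≤ cS) (h7 : nB * cB ≤ m) (h8 : nS * cS ≤ m)
    (hnB : 0 < nB) (hnS : 0 < nS) (hcS : 0 < cS) (hcB : 0 < cB) (hi : 0 < i) : nB * cB = m ∧ t = cB := by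
  have hchain : m * m ≤ (nS * nB) * (t * i) := by
    calc m * m = (n₁ * c₁) * (n₂ * c₂) := by rw [h1, h2]
      _ = (n₂ * n₁) * (c₁ * c₂) := by ring
      _ = (nS * nB) * (c₁ * c₂) := by rw [h3]
      _ ≤ (nS * nB) * (t * i) := Nat.mul_le_mul_left _ h4
  have hchain2 : (nS * nB) * (t * i) ≤ (nB * cB) * (nS * cS) := by
    calc (nS * nB) * (t * i) ≤ (nS * nB) * (cB * cS) := Nat.mul_le_mul_left _ (Nat.mul_le_mul h5 h6)
      _ = (nB * cB) * (nS * cS) := by ring
  have hchain3 : (nB * cB) * (nS * cS) ≤ m * m := Nat.mul_le_mul h7 h8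
  have hSpos : 0 < nS * cS := Nat.mul_pos hnS hcS
  constructor
  · by_contra hne
    have hlt : nB * cB < m := lt_of_le_of_ne h7 hne
    have h9 : (nB * cB) * (nS * cS) < m * (nS * cS) := Nat.mul_lt_mul_of_pos_right hlt hSpos
    have h10 : m * (nS * cS) ≤ m * m := Nat.mul_le_mul_left _ h8
    omega
  · by_contra hne
    have hlt : t < cB := lt_of_le_of_ne h5 hne
    have h9 : t * i < cB * cS := by
      calc t * i < cB * i := Nat.mul_lt_mul_of_pos_right hlt hi
        _ ≤ cB * cS := Nat.mul_le_mul_left _ h6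
    have h10 : (nS * nB) * (t * i) < (nS * nB) * (cB * cS) := Nat.mul_lt_mul_of_pos_left h9 (Nat.mul_pos hnS hnB)
    have h11 : (nS * nB) * (cB * cS) = (nB * cB) * (nS * cS) := by ring
    omega

theorem inter_step {V A : Subgroup G} (hab : ⁅A, A⁆ ≤ Subgroup.centralizer (V : Set G))
    (hbest : ∀ B : Subgroup G, B ≤ A → offVal V B ≤ offVal V A) (B₁ B₂ : Subgroup G) (hB₁ : B₁ ≤ A) (hB₂ : B₂ ≤ A)
    (hC₁ : A ⊓ Subgroup.centralizer (V : Set G) ≤ B₁) (h₁ : offVal V B₁ = offVal V A) (h₂ : offVal V B₂ = offVal V A) :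
    offVal V (B₁ ⊓ B₂) = offVal V A ∧
    V ⊓ Subgroup.centralizer ((B₁ ⊓ B₂ : Subgroup G) : Set G) =
      (V ⊓ Subgroup.centralizer (B₁ : Set G)) ⊔ (V ⊓ Subgroup.centralizer (B₂ : Set G)) := by
  classical
  have hN : B₂ ≤ Subgroup.normalizer (B₁ : Set G) := by
    intro b hb
    apply mem_normalizer_of_conj_le
    intro x hx
    have h1 : ⁅b, x⁆ ∈ A ⊓ Subgroup.centralizer (V : Set G) :=
      Subgroup.mem_inf.mpr ⟨by
        rw [commutatorElement_def]
        exact A.mul_mem (A.mul_mem (A.mul_mem (hB₂ hb) (hB₁ hx)) (A.inv_mem (hB₂ hb))) (A.inv_mem (hB₁ hx)),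
        hab (Subgroup.commutator_mem_commutator (hB₂ hb) (hB₁ hx))⟩
    have h2 := B₁.mul_mem (hC₁ h1) hx
    rw [commutatorElement_def] at h2
    simpa [mul_assoc] using h2
  obtain ⟨S, hS⟩ := exists_subgroup_mul_of_le_normalizer hN
  have hSA : S ≤ A := by
    intro s hs
    rw [← SetLike.mem_coe, hS] at hs
    obtain ⟨b₂, hb₂, b₁, hb₁, rfl⟩ := hs
    exact A.mul_mem (hB₂ hb₂) (hB₁ hb₁)
  have hcardS : Nat.card S * Nat.card ↥(B₁ ⊓ B₂ : Subgroup G) = Nat.card B₂ * Nat.card B₁ := by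
    have h1 := Cfsg.Agent.H18.card_set_mul_mul_card_inf B₂ B₁
    rw [← hS, inf_comm] at h1
    exact h1
  set C₁ := V ⊓ Subgroup.centralizer (B₁ : Set G) with hC₁'
  set C₂ := V ⊓ Subgroup.centralizer (B₂ : Set G) with hC₂'
  set B := B₁ ⊓ B₂ with hB
  have hT : C₁ ⊔ C₂ ≤ V ⊓ Subgroup.centralizer (B : Set G) := by
    apply sup_le
    · exact inf_le_inf_left _ (Subgroup.centralizer_le inf_le_left)
    · exact inf_le_inf_left _ (Subgroup.centralizer_le inf_le_right)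
  have hI : C₁ ⊓ C₂ ≤ V ⊓ Subgroup.centralizer (S : Set G) := by
    intro x hx
    obtain ⟨hx1, hx2⟩ := Subgroup.mem_inf.mp hx
    refine Subgroup.mem_inf.mpr ⟨(Subgroup.mem_inf.mp hx1).1, ?_⟩
    rw [Subgroup.mem_centralizer_iff]
    intro s hs
    rw [hS] at hs
    obtain ⟨b₂, hb₂, b₁, hb₁, rfl⟩ := hs
    have e1 := Subgroup.mem_centralizer_iff.mp (Subgroup.mem_inf.mp hx2).2 b₂ hb₂
    have e2 := Subgroup.mem_centralizer_iff.mp (Subgroup.mem_inf.mp hx1).2 b₁ hb₁
    change b₂ * b₁ * x = x * (b₂ * b₁)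
    rw [mul_assoc, e2, ← mul_assoc, e1, mul_assoc]
  have h4 : Nat.card C₁ * Nat.card C₂ ≤ Nat.card ↥(C₁ ⊔ C₂ : Subgroup G) * Nat.card ↥(C₁ ⊓ C₂ : Subgroup G) :=
    Cfsg.Agent.H18.card_mul_card_le le_sup_left le_sup_right
  have hk := arith_key (nB := Nat.card B) (nS := Nat.card S) (cB := Nat.card ↥(V ⊓ Subgroup.centralizer (B : Set G) : Subgroup G))
    (cS := Nat.card ↥(V ⊓ Subgroup.centralizer (S : Set G) : Subgroup G))
    (t := Nat.card ↥(C₁ ⊔ C₂ : Subgroup G)) (i := Nat.card ↥(C₁ ⊓ C₂ : Subgroup G))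
    (n₁ := Nat.card B₁) (n₂ := Nat.card B₂) (c₁ := Nat.card C₁) (c₂ := Nat.card C₂) (m := offVal V A)
    h₁ h₂ hcardS h4 (Subgroup.card_le_of_le hT) (Subgroup.card_le_of_le hI)
    (hbest B (inf_le_left.trans hB₁)) (hbest S hSA) Nat.card_pos Nat.card_pos Nat.card_pos Nat.card_pos Nat.card_pos
  refine ⟨hk.1, ?_⟩
  symm
  exact Subgroup.eq_of_le_of_card_ge hT hk.2.ge

theorem centralizer_sup_eq (W₁ W₂ : Subgroup G) : Subgroup.centralizer ((W₁ ⊔ W₂ : Subgroup G) : Set G) =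
    Subgroup.centralizer (W₁ : Set G) ⊓ Subgroup.centralizer (W₂ : Set G) := by
  apply le_antisymm
  · exact le_inf (Subgroup.centralizer_le (fun x hx => (le_sup_left : W₁ ≤ W₁ ⊔ W₂) hx))
      (Subgroup.centralizer_le (fun x hx => (le_sup_right : W₂ ≤ W₁ ⊔ W₂) hx))
  · intro x hx
    obtain ⟨h1, h2⟩ := Subgroup.mem_inf.mp hx
    rw [Subgroup.mem_centralizer_iff]
    intro y hy
    have hle : W₁ ⊔ W₂ ≤ Subgroup.centralizer ({x} : Set G) := by
      apply sup_le
      · intro z hz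
        rw [Subgroup.mem_centralizer_singleton_iff]
        exact (Subgroup.mem_centralizer_iff.mp h1 z hz)
      · intro z hz
        rw [Subgroup.mem_centralizer_singleton_iff]
        exact (Subgroup.mem_centralizer_iff.mp h2 z hz)
    have := hle hy
    rw [Subgroup.mem_centralizer_singleton_iff] at this
    exact this

theorem wSub_insert (u : G) (T : Set G) (A : Subgroup G) : wSub (insert u T) A = wSub {u} A ⊔ wSub T A := by
  apply le_antisymm
  · rw [wSub, Subgroup.closure_le]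
    rintro _ ⟨v, hv, a, ha, rfl⟩
    rcases hv with rfl | hv
    · exact (le_sup_left : wSub {v} A ≤ _) (Subgroup.subset_closure ⟨v, rfl, a, ha, rfl⟩)
    · exact (le_sup_right : wSub T A ≤ _) (Subgroup.subset_closure ⟨v, hv, a, ha, rfl⟩)
  · apply sup_le
    · apply Subgroup.closure_mono
      rintro _ ⟨v, hv, a, ha, rfl⟩
      exact ⟨v, Or.inl hv, a, ha, rfl⟩
    · apply Subgroup.closure_mono
      rintro _ ⟨v, hv, a, ha, rfl⟩
      exact ⟨v, Or.inr hv, a, ha, rfl⟩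

theorem tim_main {p : ℕ} (V A : Subgroup G) (hV : IsElementaryAbelian p V)
    (hAV : A ≤ Subgroup.normalizer (V : Set G)) (hab : ⁅A, A⁆ ≤ Subgroup.centralizer (V : Set G))
    (hbest : ∀ B : Subgroup G, B ≤ A → offVal V B ≤ offVal V A) (T : Set G) (hT : T ⊆ V) :
    offVal V (A ⊓ Subgroup.centralizer (wSub T A : Set G)) = offVal V A ∧
    V ⊓ Subgroup.centralizer ((A ⊓ Subgroup.centralizer (wSub T A : Set G) : Subgroup G) : Set G) =
      wSub T A ⊔ (V ⊓ Subgroup.centralizer (A : Set G)) := by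
  classical
  have hfin : T.Finite := T.toFinite
  induction T, hfin using Set.Finite.induction_on with
  | empty =>
    have h0 : wSub (∅ : Set G) A = ⊥ := by
      rw [wSub]
      apply le_antisymm _ bot_le
      rw [Subgroup.closure_le]
      rintro _ ⟨v, hv, -⟩
      exact absurd hv (Set.notMem_empty v)
    have h1 : Subgroup.centralizer ((⊥ : Subgroup G) : Set G) = ⊤ := by
      rw [eq_top_iff]
      intro x _
      rw [Subgroup.mem_centralizer_iff]
      intro y hy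
      have : y = 1 := hy
      simp [this]
    rw [h0, h1, inf_top_eq, bot_sup_eq]
    exact ⟨rfl, rfl⟩
  | @insert u T₀ _ _ ih =>
    have hu : u ∈ V := hT (Set.mem_insert _ _)
    have hT₀ : T₀ ⊆ V := fun x hx => hT (Set.mem_insert_of_mem _ hx)
    obtain ⟨ih1, ih2⟩ := ih hT₀
    obtain ⟨c1, c2⟩ := cyc_step V A hV hAV hab hbest u hu
    have hW : wSub {u} A ≤ V := wSub_le (by simpa using hu) hAV
    have hcoe : (((wSub (insert u T₀) A : Subgroup G) : Set G)) = ((wSub {u} A ⊔ wSub T₀ A : Subgroup G) : Set G) := by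
      rw [wSub_insert]
    have hB : A ⊓ Subgroup.centralizer (wSub (insert u T₀) A : Set G) =
        (A ⊓ Subgroup.centralizer (wSub {u} A : Set G)) ⊓ (A ⊓ Subgroup.centralizer (wSub T₀ A : Set G)) := by
      rw [hcoe, centralizer_sup_eq, inf_inf_distrib_left]
    rw [hB]
    have hC₁ : A ⊓ Subgroup.centralizer (V : Set G) ≤ A ⊓ Subgroup.centralizer (wSub {u} A : Set G) :=
      inf_le_inf_left _ (Subgroup.centralizer_le hW)
    obtain ⟨i1, i2⟩ := inter_step hab hbest _ _ inf_le_left inf_le_left hC₁ c1 ih1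
    refine ⟨i1, ?_⟩
    rw [i2, c2, ih2, wSub_insert]
    apply le_antisymm
    · apply sup_le
      · exact sup_le (le_sup_left.trans le_sup_left) le_sup_right
      · exact sup_le (le_sup_right.trans le_sup_left) le_sup_right
    · apply sup_le
      · exact sup_le (le_sup_left.trans le_sup_left) (le_sup_left.trans le_sup_right)
      · exact le_sup_right.trans le_sup_right

theorem wSub_coe (U A : Subgroup G) : wSub (U : Set G) A = ⁅U, A⁆ := rfl

/-- S0598. -/
theorem timmesfeld_dichotomy {p : ℕ} (V A : Subgroup G) (hV : IsElementaryAbelian p V)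
    (hAV : A ≤ Subgroup.normalizer (V : Set G)) (hab : ⁅A, A⁆ ≤ Subgroup.centralizer (V : Set G))
    (U : Subgroup G) (hU : U ≤ V) : ∃ B : Subgroup G, B ≤ A ∧
      ((Nat.card A * Nat.card ↥(V ⊓ Subgroup.centralizer (A : Set G)) <
          Nat.card B * Nat.card ↥(V ⊓ Subgroup.centralizer (B : Set G))) ∨
       (B = A ⊓ Subgroup.centralizer ((⁅U, A⁆ : Subgroup G) : Set G) ∧
        (V ⊓ Subgroup.centralizer (B : Set G)) = ⁅U, A⁆ ⊔ (V ⊓ Subgroup.centralizer (A : Set G)) ∧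
        Nat.card A * Nat.card ↥(V ⊓ Subgroup.centralizer (A : Set G)) =
          Nat.card B * Nat.card ↥(V ⊓ Subgroup.centralizer (B : Set G)))) := by
  by_cases h : ∃ B : Subgroup G, B ≤ A ∧ offVal V A < offVal V B
  · obtain ⟨B, hB, hlt⟩ := h
    exact ⟨B, hB, Or.inl hlt⟩
  · push Not at h
    obtain ⟨h1, h2⟩ := tim_main V A hV hAV hab h (U : Set G) hU
    rw [wSub_coe] at h1 h2
    exact ⟨_, inf_le_left, Or.inr ⟨rfl, h2, h1.symm⟩⟩

end Cfsg.Agent.H02
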