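import Mathlib
import Cfsg.Agent.Lib.H02.PLoc7

set_option autoImplicit false

namespace Cfsg.Agent.H02

universe u

open Cfsg
open scoped Pointwise commutatorElement

variable {G : Type u} [Group G] [Finite G]

/-- A `p`-group of automorphisms acts nilpotently. -/
theorem eq_bot_of_le_commutator {p : ℕ} [hpf : Fact p.Prime] (V A W : Subgroup G)
    (hAV : A ≤ Subgroup.normalizer (V : Set G)) (hab : ⁅A, A⁆ ≤ Subgroup.centralizer (V : Set G))
    (hpow : ∀ a ∈ A, a ^ p ∈ Subgroup.centralizer (V : Set G)) (hWV : W ≤ V) (hWp : IsPGroup p W)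
    (hAW : A ≤ Subgroup.normalizer (W : Set G)) (hle : W ≤ ⁅W, A⁆) : W = ⊥ := by
  classical
  set C₀ := Subgroup.centralizer (V : Set G) with hC₀
  let C : Subgroup A := C₀.subgroupOf A
  have hCn : C.Normal := by
    constructor
    intro x hx a
    rw [Subgroup.mem_subgroupOf] at hx ⊢
    have h1 : ⁅(a : G), (x : G)⁆ ∈ C₀ := hab (Subgroup.commutator_mem_commutator a.2 x.2)
    have h2 := C₀.mul_mem h1 hx
    rw [commutatorElement_def] at h2
    simpa [mul_assoc] using h2
  have hQp : IsPGroup p (A ⧸ C) := by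
    intro x
    refine ⟨1, ?_⟩
    rw [pow_one]
    induction x using QuotientGroup.induction_on with
    | H a =>
    rw [← QuotientGroup.mk_pow, QuotientGroup.eq_one_iff, Subgroup.mem_subgroupOf]
    exact hpow a a.2
  obtain ⟨n, hn⟩ := IsPGroup.iff_card.mp hQp
  obtain ⟨Pa⟩ : Nonempty (Sylow p A) := inferInstance
  have hX : (Pa : Subgroup A) ⊔ C = ⊤ := by
    rw [← Subgroup.index_eq_one]
    have h1 : ((Pa : Subgroup A) ⊔ C).index ∣ (Pa : Subgroup A).index := Subgroup.index_dvd_of_le le_sup_left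
    have h2 : ((Pa : Subgroup A) ⊔ C).index ∣ p ^ n := by
      have h3 : ((Pa : Subgroup A) ⊔ C).index ∣ C.index := Subgroup.index_dvd_of_le le_sup_right
      have h4 : C.index = p ^ n := hn
      rwa [h4] at h3
    obtain ⟨j, -, hj⟩ := (Nat.dvd_prime_pow hpf.out).mp h2
    rcases j with _ | j
    · simpa using hj
    · exfalso
      apply Pa.not_dvd_index
      rw [hj] at h1
      exact (dvd_pow_self p (Nat.succ_ne_zero j)).trans h1
  set P := (Pa : Subgroup A).map A.subtype with hP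
  have hPp : IsPGroup p P := Pa.isPGroup'.map _
  have hPA : P ≤ A := by
    rintro _ ⟨y, -, rfl⟩
    exact y.2
  have hcomm : ⁅W, A⁆ ≤ ⁅W, P⁆ := by
    rw [Subgroup.commutator_le]
    intro w hw a ha
    have hmem : (⟨a, ha⟩ : A) ∈ (Pa : Subgroup A) ⊔ C := by
      rw [hX]
      trivial
    obtain ⟨x, hx, c, hc, he⟩ := Subgroup.mem_sup_of_normal_right.mp hmem
    have he' : a = (x : G) * (c : G) := (congrArg Subtype.val he).symm
    have hcV : (c : G) ∈ C₀ := Subgroup.mem_subgroupOf.mp hc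
    have hcw : (c : G) * w = w * (c : G) := (Subgroup.mem_centralizer_iff.mp hcV w (hWV hw)).symm
    have e1 : ⁅w, (c : G)⁆ = 1 := commutatorElement_eq_one_iff_mul_comm.mpr hcw.symm
    have e2 : (c : G) * w * (c : G)⁻¹ = w := by rw [hcw]; group
    rw [he', comm_mul_eq, e1, e2, one_mul]
    exact Subgroup.commutator_mem_commutator hw ⟨x, hx, rfl⟩
  set T := P ⊔ W with hT
  have hTp : IsPGroup p T := hPp.to_sup_of_normal_right' hWp (hPA.trans hAW)
  have hTnil : Group.IsNilpotent T := hTp.isNilpotent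
  obtain ⟨m, hm⟩ := (Subgroup.isNilpotent_iff_lowerCentralSeries T).mp hTnil
  have hall : ∀ k, W ≤ T.lowerCentralSeries k := by
    intro k
    induction k with
    | zero => exact le_sup_right
    | succ k ih =>
      rw [Subgroup.lowerCentralSeries_succ]
      exact hle.trans (hcomm.trans (Subgroup.commutator_mono ih le_sup_left))
  have := hall m
  rw [hm] at this
  exact le_bot_iff.mp this

theorem best_of_offender {p : ℕ} {V A : Subgroup G} (hA : IsBestOffenderOn p V A) :
    ∀ B : Subgroup G, B ≤ A → offVal V B ≤ offVal V A := hA.1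

/-- S0599. -/
theorem timmesfeld_replacement {p : ℕ} [hpf : Fact p.Prime] (V A : Subgroup G) (hV : IsElementaryAbelian p V)
    (hAV : A ≤ Subgroup.normalizer (V : Set G)) (hA : IsBestOffenderOn p V A) (U : Subgroup G) (hU : U ≤ V) :
    IsBestOffenderOn p V (A ⊓ Subgroup.centralizer ((⁅U, A⁆ : Subgroup G) : Set G)) ∧
    V ⊓ Subgroup.centralizer ((A ⊓ Subgroup.centralizer ((⁅U, A⁆ : Subgroup G) : Set G) : Subgroup G) : Set G) =
      ⁅U, A⁆ ⊔ (V ⊓ Subgroup.centralizer (A : Set G)) ∧
    (⁅V, A⁆ ≠ ⊥ → ⁅V, A ⊓ Subgroup.centralizer ((⁅U, A⁆ : Subgroup G) : Set G)⁆ ≠ ⊥) := by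
  classical
  obtain ⟨hbest, hab, hpow⟩ := hA
  obtain ⟨h1, h2⟩ := tim_main V A hV hAV hab hbest (U : Set G) hU
  rw [wSub_coe] at h1 h2
  set B := A ⊓ Subgroup.centralizer ((⁅U, A⁆ : Subgroup G) : Set G) with hB
  have hBA : B ≤ A := inf_le_left
  refine ⟨⟨?_, ?_, ?_⟩, h2, ?_⟩
  · intro B' hB'
    have h3 := hbest B' (hB'.trans hBA)
    have h4 : offVal V B = offVal V A := h1
    unfold offVal at h3 h4
    rw [h4]
    exact h3
  · exact (Subgroup.commutator_mono hBA hBA).trans hab
  · exact fun a ha => hpow a (hBA ha)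
  · intro hne hbot
    apply hne
    rw [Subgroup.commutator_eq_bot_iff_le_centralizer] at hbot
    set Z := V ⊓ Subgroup.centralizer (A : Set G) with hZ
    have hVB : V ⊓ Subgroup.centralizer (B : Set G) = V := by
      apply inf_eq_left.mpr
      intro v hv
      rw [Subgroup.mem_centralizer_iff]
      intro b hb
      exact Subgroup.mem_centralizer_iff.mp (hbot hv) b hb
    rw [hVB] at h2
    set W := ⁅V, A⁆ with hW
    have hWV : W ≤ V := wSub_le (T := (V : Set G)) subset_rfl hAV
    have hUW : ⁅U, A⁆ ≤ W := Subgroup.commutator_mono hU le_rfl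
    have hAW : A ≤ Subgroup.normalizer (W : Set G) := Subgroup.normalizer_commutator_ge_right V A
    have hc := commV_of_ea hV
    have hle : W ≤ ⁅W, A⁆ := by
      rw [hW, Subgroup.commutator_le]
      intro v hv a ha
      have hVle : V ≤ W ⊔ Z := h2.le.trans (sup_le_sup_right hUW Z)
      have hWZ : W ≤ Subgroup.normalizer (Z : Set G) := by
        intro w hw
        apply mem_normalizer_of_conj_le
        intro z hz
        have h3 := hc w (hWV hw) z (Subgroup.mem_inf.mp hz).1
        have h4 : w * z * w⁻¹ = z := by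
          rw [h3]
          group
        rw [h4]
        exact hz
      obtain ⟨S, hS⟩ := exists_subgroup_mul_of_le_normalizer hWZ
      have hSup : W ⊔ Z ≤ S := by
        apply sup_le
        · intro w hw
          rw [← SetLike.mem_coe, hS]
          exact ⟨w, hw, 1, Z.one_mem, by simp⟩
        · intro z hz
          rw [← SetLike.mem_coe, hS]
          exact ⟨1, W.one_mem, z, hz, by simp⟩
      have hvS := hSup (hVle hv)
      rw [← SetLike.mem_coe, hS] at hvS
      obtain ⟨w, hw, z, hz, he⟩ := hvS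
      have he' : w * z = v := he
      have hza : z * a = a * z := Subgroup.mem_centralizer_iff.mp (Subgroup.mem_inf.mp hz).2 a ha |>.symm
      have e : ⁅v, a⁆ = ⁅w, a⁆ := by
        rw [← he', commutatorElement_def, commutatorElement_def]
        calc w * z * a * (w * z)⁻¹ * a⁻¹ = w * (z * a) * z⁻¹ * w⁻¹ * a⁻¹ := by group
          _ = w * (a * z) * z⁻¹ * w⁻¹ * a⁻¹ := by rw [hza]
          _ = w * a * w⁻¹ * a⁻¹ := by group
      rw [e]
      exact Subgroup.commutator_mem_commutator hw ha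
    exact eq_bot_of_le_commutator V A W hAV hab hpow hWV ((ea_isPGroup hV).to_le hWV) hAW hle

/-- S0607. -/
theorem replacement_largest {p : ℕ} [hpf : Fact p.Prime] (V : Subgroup G) [hVn : V.Normal] (hV : IsElementaryAbelian p V)
    (A : Subgroup G) (hA : A ∈ maxElementaryAbelianSubgroups p G) :
    (⁅V, A⁆ ⊔ (A ⊓ Subgroup.centralizer ((⁅V, A⁆ : Subgroup G) : Set G))) ∈ maxElementaryAbelianSubgroups p G ∧
    ⁅⁅V, ⁅V, A⁆ ⊔ (A ⊓ Subgroup.centralizer ((⁅V, A⁆ : Subgroup G) : Set G))⁆,
      ⁅V, A⁆ ⊔ (A ⊓ Subgroup.centralizer ((⁅V, A⁆ : Subgroup G) : Set G))⁆ = ⊥ ∧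
    (⁅V, A⁆ ≠ ⊥ → ⁅V, ⁅V, A⁆ ⊔ (A ⊓ Subgroup.centralizer ((⁅V, A⁆ : Subgroup G) : Set G))⁆ ≠ ⊥) := by
  classical
  have hAV : A ≤ Subgroup.normalizer (V : Set G) := by
    rw [Subgroup.normalizer_eq_top_iff.mpr hVn]
    exact le_top
  have hbo := maxEA_bestOffender V hV A hA
  obtain ⟨hb1, hb2, hb3⟩ := timmesfeld_replacement V A hV hAV hbo V le_rfl
  set W := ⁅V, A⁆ with hW
  set B := A ⊓ Subgroup.centralizer (W : Set G) with hB
  set Z := V ⊓ Subgroup.centralizer (A : Set G) with hZ
  have hWV : W ≤ V := wSub_le (T := (V : Set G)) subset_rfl hAV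
  have hBA : B ≤ A := inf_le_left
  have hcW : ∀ b ∈ B, ∀ w ∈ W, b * w = w * b := fun b hb w hw =>
    (Subgroup.mem_centralizer_iff.mp (Subgroup.mem_inf.mp hb).2 w hw).symm
  have hWea : IsElementaryAbelian p W := ea_of_le hV hWV
  have hBea : IsElementaryAbelian p B := ea_of_le hA.1 hBA
  have hA₀ea : IsElementaryAbelian p (W ⊔ B) := ea_sup hWea hBea (fun w hw b hb => (hcW b hb w hw).symm)
  have hf : offVal V B = offVal V A := by
    obtain ⟨h1, h2⟩ := tim_main V A hV hAV hbo.2.1 hbo.1 (V : Set G) subset_rfl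
    exact h1
  -- sizes
  have hcV := commV_of_ea hV
  have hWZ : W ≤ Subgroup.normalizer (Z : Set G) := by
    intro w hw
    apply mem_normalizer_of_conj_le
    intro z hz
    have h3 := hcV w (hWV hw) z (Subgroup.mem_inf.mp hz).1
    have h4 : w * z * w⁻¹ = z := by
      rw [h3]
      group
    rw [h4]
    exact hz
  obtain ⟨S, hS⟩ := exists_subgroup_mul_of_le_normalizer hWZ
  have hSeq : S = W ⊔ Z := by
    apply le_antisymm
    · intro s hs
      rw [← SetLike.mem_coe, hS] at hs
      obtain ⟨w, hw, z, hz, rfl⟩ := hs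
      exact Subgroup.mul_mem _ ((le_sup_left : W ≤ W ⊔ Z) hw) ((le_sup_right : Z ≤ W ⊔ Z) hz)
    · apply sup_le
      · intro w hw
        rw [← SetLike.mem_coe, hS]
        exact ⟨w, hw, 1, Z.one_mem, by simp⟩
      · intro z hz
        rw [← SetLike.mem_coe, hS]
        exact ⟨1, W.one_mem, z, hz, by simp⟩
  have hc1 : Nat.card ↥(W ⊔ Z : Subgroup G) * Nat.card ↥(W ⊓ Z : Subgroup G) = Nat.card W * Nat.card Z := by
    have h1 := Cfsg.Agent.H18.card_set_mul_mul_card_inf W Z
    rw [← hS] at h1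
    rw [← hSeq]
    exact h1
  have hf' : Nat.card B * Nat.card ↥(W ⊔ Z : Subgroup G) = Nat.card A * Nat.card Z := by
    have h1 : Nat.card B * Nat.card ↥(V ⊓ Subgroup.centralizer (B : Set G) : Subgroup G) = Nat.card A * Nat.card Z := hf
    rw [hb2] at h1
    exact h1
  have hc2 : Nat.card A * Nat.card ↥(W ⊓ Z : Subgroup G) = Nat.card B * Nat.card W := by
    have hZpos : 0 < Nat.card Z := Nat.card_pos
    apply Nat.eq_of_mul_eq_mul_right hZpos
    calc Nat.card A * Nat.card ↥(W ⊓ Z : Subgroup G) * Nat.card Z = (Nat.card A * Nat.card Z) * Nat.card ↥(W ⊓ Z : Subgroup G) := by ring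
      _ = Nat.card B * Nat.card ↥(W ⊔ Z : Subgroup G) * Nat.card ↥(W ⊓ Z : Subgroup G) := by rw [hf']
      _ = Nat.card B * (Nat.card ↥(W ⊔ Z : Subgroup G) * Nat.card ↥(W ⊓ Z : Subgroup G)) := by ring
      _ = Nat.card B * (Nat.card W * Nat.card Z) := by rw [hc1]
      _ = Nat.card B * Nat.card W * Nat.card Z := by ring
  have hc3 : Nat.card B * Nat.card W ≤ Nat.card ↥(W ⊔ B : Subgroup G) * Nat.card ↥(B ⊓ W : Subgroup G) :=
    Cfsg.Agent.H18.card_mul_card_le le_sup_right le_sup_left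
  have hinf : (B ⊓ W : Subgroup G) ≤ W ⊓ Z := by
    intro x hx
    obtain ⟨hxB, hxW⟩ := Subgroup.mem_inf.mp hx
    refine Subgroup.mem_inf.mpr ⟨hxW, Subgroup.mem_inf.mpr ⟨hWV hxW, ?_⟩⟩
    rw [Subgroup.mem_centralizer_iff]
    intro a ha
    exact commV_of_ea hA.1 a ha x (hBA hxB)
  have hge : Nat.card A ≤ Nat.card ↥(W ⊔ B : Subgroup G) := by
    have hpos : 0 < Nat.card ↥(W ⊓ Z : Subgroup G) := Nat.card_pos
    apply Nat.le_of_mul_le_mul_right _ hpos
    calc Nat.card A * Nat.card ↥(W ⊓ Z : Subgroup G) = Nat.card B * Nat.card W := hc2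
      _ ≤ Nat.card ↥(W ⊔ B : Subgroup G) * Nat.card ↥(B ⊓ W : Subgroup G) := hc3
      _ ≤ Nat.card ↥(W ⊔ B : Subgroup G) * Nat.card ↥(W ⊓ Z : Subgroup G) :=
          Nat.mul_le_mul_left _ (Subgroup.card_le_of_le hinf)
  have hmax : (W ⊔ B) ∈ maxElementaryAbelianSubgroups p G :=
    ⟨hA₀ea, fun C hC => (hA.2 C hC).trans hge⟩
  refine ⟨hmax, ?_, ?_⟩
  · -- quadratic
    have hVA₀ : ⁅V, W ⊔ B⁆ ≤ W := by
      -- elements of `W ⊔ B` act trivially on `V / W`
      let T : Subgroup G :=
        { carrier := {g | g ∈ Subgroup.normalizer (V : Set G) ∧ ∀ v ∈ V, ⁅v, g⁆ ∈ W}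
          one_mem' := ⟨Subgroup.one_mem _, fun v _ => by simp [Subgroup.one_mem]⟩
          mul_mem' := by
            rintro a b ⟨ha, ha'⟩ ⟨hb, hb'⟩
            refine ⟨Subgroup.mul_mem _ ha hb, fun v hv => ?_⟩
            rw [comm_mul_eq]
            exact W.mul_mem (hb' v hv) (ha' _ (conj_mem_of_normalizer hb hv))
          inv_mem' := by
            rintro a ⟨ha, ha'⟩
            refine ⟨Subgroup.inv_mem _ ha, fun v hv => ?_⟩
            rw [comm_inv_eq]
            apply W.inv_mem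
            apply ha'
            have := conj_mem_of_normalizer (Subgroup.inv_mem _ ha) hv
            simpa using this }
      have hle : W ⊔ B ≤ T := by
        apply sup_le
        · intro w hw
          have hwN : w ∈ Subgroup.normalizer (V : Set G) := by
            rw [Subgroup.normalizer_eq_top_iff.mpr hVn]
            trivial
          refine ⟨hwN, fun v hv => ?_⟩
          have : ⁅v, w⁆ = 1 := commutatorElement_eq_one_iff_mul_comm.mpr (hcV v hv w (hWV hw))
          rw [this]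
          exact W.one_mem
        · intro b hb
          exact ⟨hAV (hBA hb), fun v hv => Subgroup.commutator_mem_commutator hv (hBA hb)⟩
      rw [Subgroup.commutator_le]
      intro v hv g hg
      exact (hle hg).2 v hv
    rw [Subgroup.commutator_eq_bot_iff_le_centralizer]
    refine hVA₀.trans ?_
    intro w hw
    rw [Subgroup.mem_centralizer_iff]
    intro g hg
    have := comm_sup_of_le_centralizer (commV_of_ea hWea) (commV_of_ea hBea) (fun w hw b hb => (hcW b hb w hw).symm)
    exact this g hg w ((le_sup_left : W ≤ W ⊔ B) hw)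
  · intro hne hbot
    apply hb3 hne
    rw [eq_bot_iff, ← hbot]
    exact Subgroup.commutator_mono le_rfl le_sup_right

end Cfsg.Agent.H02
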