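import Mathlib
import Cfsg.Agent.Lib.H18.Join
import Cfsg.Agent.Lib.H18.Zipper
import Cfsg.Agent.Lib.H18.PGroup
import Cfsg.Agent.Lib.H02.Kegel

set_option autoImplicit false

namespace Cfsg.Agent.H02

universe u

open scoped Pointwise

variable {G : Type u} [Group G]

theorem subnormal_sSup [Finite G] (S : Set (Subgroup G)) (hS : ∀ U ∈ S, U.IsSubnormal) :
    (sSup S).IsSubnormal := by
  have hfin : S.Finite := S.toFinite
  induction S, hfin using Set.Finite.induction_on with
  | empty => simp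
  | @insert a s _ _ ih =>
    rw [sSup_insert]
    exact Cfsg.Agent.H18.isSubnormal_sup (hS a (Set.mem_insert _ _))
      (ih (fun U hU => hS U (Set.mem_insert_of_mem _ hU)))

theorem exists_conj_le_normalizer {T : Subgroup G} (hT : T.IsSubnormal)
    (hne : Subgroup.normalizer (T : Set G) ≠ ⊤) :
    ∃ g, g ∉ Subgroup.normalizer (T : Set G) ∧ ∀ t ∈ T, g * t * g⁻¹ ∈ Subgroup.normalizer (T : Set G) := by
  classical
  obtain ⟨n, f, hmono, hnorm, h0, hn⟩ := hT.exists_chain
  have hex : ∃ i, ¬ f i ≤ Subgroup.normalizer (T : Set G) := by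
    refine ⟨n, ?_⟩
    rw [hn, top_le_iff]
    exact fun h => hne h
  have hfind := Nat.find_spec hex
  have hmin := fun m => Nat.find_min hex (m := m)
  rcases hi : Nat.find hex with _ | j
  · rw [hi, h0] at hfind
    exact absurd Subgroup.le_normalizer hfind
  · rw [hi] at hfind
    have hj : f j ≤ Subgroup.normalizer (T : Set G) := by
      by_contra hcon
      exact hmin j (by omega) hcon
    obtain ⟨g, hg, hgn⟩ := SetLike.not_le_iff_exists.mp hfind
    refine ⟨g, hgn, ?_⟩
    intro t ht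
    apply hj
    have htj : t ∈ f j := by
      have : T ≤ f j := by rw [← h0]; exact hmono (Nat.zero_le _)
      exact this ht
    have hN := (Subgroup.normal_subgroupOf_iff_le_normalizer (hmono (Nat.le_succ j))).mp (hnorm j)
    exact (Subgroup.mem_normalizer_iff.mp (hN hg) t).mp htj

theorem zipper_family [Finite G] (S S₀ : Set (Subgroup G)) (hS : ∀ U ∈ S, U.IsSubnormal)
    (hconj : ∀ U ∈ S, ∀ g : G, MulAut.conj g • U ∈ S) (h₀ : S₀ ⊂ S) :
    ∃ X ∈ S, X ∉ S₀ ∧ X ≤ Subgroup.normalizer ((sSup S₀ : Subgroup G) : Set G) := by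
  by_contra hcon
  push Not at hcon
  set T := sSup S₀ with hTdef
  have hT : T.IsSubnormal := subnormal_sSup S₀ (fun U hU => hS U (h₀.1 hU))
  by_cases hN : Subgroup.normalizer (T : Set G) = ⊤
  · obtain ⟨X, hX, hX'⟩ := Set.exists_of_ssubset h₀
    apply hcon X hX hX'
    rw [hN]
    exact le_top
  · obtain ⟨g, hg, hgT⟩ := exists_conj_le_normalizer hT hN
    apply hg
    apply mem_normalizer_of_conj_le
    have hle : T ≤ T.comap (MulAut.conj g).toMonoidHom := by
      rw [hTdef]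
      apply sSup_le
      intro U hU
      have h1 : MulAut.conj g • U ∈ S := hconj U (h₀.1 hU) g
      have h2 : MulAut.conj g • U ≤ Subgroup.normalizer (T : Set G) := by
        intro y hy
        rw [mem_conj_smul_iff] at hy
        have h3 : g * (g⁻¹ * y * g) * g⁻¹ = y := by group
        rw [← h3]
        exact hgT _ (le_sSup hU hy)
      have h4 : MulAut.conj g • U ∈ S₀ := by
        by_contra h5
        exact hcon _ h1 h5 h2
      intro u hu
      have h6 : g * u * g⁻¹ ∈ MulAut.conj g • U := by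
        rw [mem_conj_smul_iff]
        have h3 : g⁻¹ * (g * u * g⁻¹) * g = u := by group
        rwa [h3]
      exact le_sSup h4 h6
    intro x hx
    exact hle hx

/-- relative form -/
theorem zipper_family_rel [Finite G] (V : Subgroup G) (S S₀ : Set (Subgroup G))
    (hSV : ∀ U ∈ S, U ≤ V) (hS : ∀ U ∈ S, (U.subgroupOf V).IsSubnormal)
    (hconj : ∀ U ∈ S, ∀ g ∈ V, MulAut.conj g • U ∈ S) (h₀ : S₀ ⊂ S) :
    ∃ X ∈ S, X ∉ S₀ ∧ X ≤ Subgroup.normalizer ((sSup S₀ : Subgroup G) : Set G) := by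
  classical
  let φ : Subgroup G → Subgroup V := fun U => U.subgroupOf V
  have hinj : ∀ U ∈ S, ∀ U' ∈ S, φ U = φ U' → U = U' := by
    intro U hU U' hU' he
    have h1 := congrArg (Subgroup.map V.subtype) he
    simp only [φ] at h1
    rwa [Subgroup.map_subgroupOf_eq_of_le (hSV U hU), Subgroup.map_subgroupOf_eq_of_le (hSV U' hU')] at h1
  have hconj' : ∀ U' ∈ φ '' S, ∀ g : V, MulAut.conj g • U' ∈ φ '' S := by
    rintro _ ⟨U, hU, rfl⟩ g
    refine ⟨MulAut.conj (g : G) • U, hconj U hU g g.2, ?_⟩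
    ext y
    simp only [φ, Subgroup.mem_subgroupOf]
    rw [mem_conj_smul_iff, mem_conj_smul_iff, Subgroup.mem_subgroupOf]
    simp
  have hss : φ '' S₀ ⊂ φ '' S := by
    refine ⟨Set.image_mono h₀.1, ?_⟩
    intro hcon
    obtain ⟨X, hX, hX'⟩ := Set.exists_of_ssubset h₀
    obtain ⟨X', hX'₀, he⟩ := hcon ⟨X, hX, rfl⟩
    have := hinj _ (h₀.1 hX'₀) _ hX he
    exact hX' (this ▸ hX'₀)
  obtain ⟨X', ⟨X, hX, rfl⟩, hX'n, hXN⟩ := zipper_family (φ '' S) (φ '' S₀)
    (by rintro _ ⟨U, hU, rfl⟩; exact hS U hU) hconj' hss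
  refine ⟨X, hX, fun h => hX'n ⟨X, h, rfl⟩, ?_⟩
  intro x hx
  apply mem_normalizer_of_conj_le
  intro y hy
  have hSup : sSup S₀ ≤ V := sSup_le (fun U hU => hSV U (h₀.1 hU))
  have hxV : x ∈ V := hSV X hX hx
  have hyV : y ∈ V := hSup hy
  have hmem : (⟨x, hxV⟩ : V) ∈ φ X := by
    simp only [φ, Subgroup.mem_subgroupOf]
    exact hx
  have hn := hXN hmem
  have hle : sSup S₀ ≤ (sSup (φ '' S₀)).map V.subtype := by
    apply sSup_le
    intro U hU
    have : U = (φ U).map V.subtype := by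
      simp only [φ]
      rw [Subgroup.map_subgroupOf_eq_of_le (hSV U (h₀.1 hU))]
    rw [this]
    exact Subgroup.map_mono (le_sSup ⟨U, hU, rfl⟩)
  have hle2 : sSup (φ '' S₀) ≤ (sSup S₀).subgroupOf V := by
    apply sSup_le
    rintro _ ⟨U, hU, rfl⟩
    intro u hu
    simp only [φ, Subgroup.mem_subgroupOf] at hu ⊢
    exact le_sSup hU hu
  obtain ⟨y', hy', rfl⟩ := hle hy
  have h7 := (Subgroup.mem_normalizer_iff.mp hn y').mp hy'
  have h8 := hle2 h7
  simpa [Subgroup.mem_subgroupOf] using h8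

end Cfsg.Agent.H02
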